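import Cfsg.Agent.MinIdxOrth.Main
import Cfsg.Agent.Quad.POmega

/-!
Transfer of the lower bound to subgroups of `PΩ`, and the stabiliser of a singular point.
-/

set_option autoImplicit false
set_option linter.style.haveILetI false
set_option linter.unusedSectionVars false

namespace CfsgLib.MinIdxOrth

open QuadraticMap Module CfsgLib.Forms CfsgLib.Quad CfsgLib.MinDeg.Om
open scoped Classical

variable {F : Type*} [Field F] [Fintype F] {W : Type*} [AddCommGroup W] [Module F W] [FiniteDimensional F W]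
  {Q : QuadraticForm F W}

theorem finite_OG (Q : QuadraticForm F W) : Finite (OG Q) := by
  haveI : Finite W := Module.finite_of_finite F
  haveI : Finite ((F × F) × W) := inferInstance
  haveI : Finite (((F × F) × W) ≃ₗ[F] ((F × F) × W)) :=
    Finite.of_injective (fun g => (g : (F × F) × W → (F × F) × W)) fun a b h => LinearEquiv.ext (congrFun h)
  infer_instance

/-- Every transitive set of `Ω(H ⊕ W)` of at least two points has at least `K` points. -/
def Bound (Q : QuadraticForm F W) (K : ℕ) : Prop :=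
  ∀ H : Subgroup (OG Q), H ≠ ⊤ → K ≤ H.index

theorem bound_spt (hQ : (polarBilin Q).Nondegenerate) (hn : 5 ≤ finrank F W)
    (hN : finrank F W = 5 → (2 : F) ≠ 0) (h4 : 4 ≤ Fintype.card F) :
    Bound Q (Nat.card (SPt (hypSum Q))) := by
  intro H hH
  haveI := finite_OG Q
  haveI : Nontrivial (OG Q ⧸ H) := by
    rw [← Finite.one_lt_card_iff_nontrivial, ← Subgroup.index_eq_card]
    exact H.one_lt_index_of_ne_top hH
  rw [Subgroup.index_eq_card]
  exact spt_le_card hQ hn hN h4

variable {ι : Type} [Fintype ι] [DecidableEq ι] (Qf : QuadraticForm F (ι → F))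

/-- The quotient map onto `PΩ`. -/
noncomputable def toP (e : (ι → F) ≃ₗ[F] (F × F) × W) (he : ∀ v, hypSum Q (e v) = Qf v) :
    OG Q →* Cfsg.POmega F ⇑Qf :=
  (pOmegaEquiv Qf).symm.toMonoidHom.comp ((QuotientGroup.mk' _).comp
    (((oGroupCongr e he).subgroupMap _).trans
      (MulEquiv.subgroupCongr (commutator_map_equiv (oGroupCongr e he)))).symm.toMonoidHom)

theorem toP_surjective (e : (ι → F) ≃ₗ[F] (F × F) × W) (he : ∀ v, hypSum Q (e v) = Qf v) :
    Function.Surjective (toP Qf e he) :=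
  (pOmegaEquiv Qf).symm.surjective.comp ((QuotientGroup.mk'_surjective _).comp
    (((oGroupCongr e he).subgroupMap _).trans
      (MulEquiv.subgroupCongr (commutator_map_equiv (oGroupCongr e he)))).symm.surjective)

theorem ker_toP (e : (ι → F) ≃ₗ[F] (F × F) × W) (he : ∀ v, hypSum Q (e v) = Qf v) {x : OG Q}
    (hx : toP Qf e he x = 1) : x ∈ Subgroup.center (OG Q) := by
  set c := ((oGroupCongr e he).subgroupMap _).trans
    (MulEquiv.subgroupCongr (commutator_map_equiv (oGroupCongr e he)))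
  have h1 : (QuotientGroup.mk' _ (c.symm x)) = 1 := (pOmegaEquiv Qf).symm.map_eq_one_iff.1 hx
  rw [QuotientGroup.mk'_apply, QuotientGroup.eq_one_iff] at h1
  rw [← map_center_equiv c]
  exact ⟨c.symm x, h1, c.apply_symm_apply x⟩

theorem bound_pOmega (e : (ι → F) ≃ₗ[F] (F × F) × W) (he : ∀ v, hypSum Q (e v) = Qf v) {K : ℕ}
    (hK : Bound Q K) (H : Subgroup (Cfsg.POmega F ⇑Qf)) (hH : H ≠ ⊤) : K ≤ H.index := by
  rw [← Subgroup.index_comap_of_surjective H (toP_surjective Qf e he)]
  refine hK _ fun h => hH ?_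
  rw [← Subgroup.map_comap_eq_self_of_surjective (toP_surjective Qf e he) H, h,
    Subgroup.map_top_of_surjective _ (toP_surjective Qf e he)]

theorem exists_index_spt (hQ : (polarBilin Q).Nondegenerate) (hn : 5 ≤ finrank F W)
    (e : (ι → F) ≃ₗ[F] (F × F) × W) (he : ∀ v, hypSum Q (e v) = Qf v) :
    ∃ H : Subgroup (Cfsg.POmega F ⇑Qf), H.index = Nat.card (SPt (hypSum Q)) := by
  have hn' : 5 ≤ finrank F ((F × F) × W) := by rw [finrank_hyp]; omega
  haveI := isPretransitive_spt (hypSum_nondeg hQ) hn'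
  refine ⟨(MulAction.stabilizer (OG Q) (pt₀ Q)).map (toP Qf e he), ?_⟩
  rw [Subgroup.index_map_eq _ (toP_surjective Qf e he) fun x hx => ?_]
  · rw [MulAction.index_stabilizer_of_transitive]
  · obtain ⟨c, -, hc⟩ := (center_iff (hypSum_nondeg hQ) hn' x).1 (ker_toP Qf e he hx)
    rw [MulAction.mem_stabilizer_iff, pt₀, smul_spt, spt_eq_iff]
    exact ⟨c, (hc _).symm⟩

theorem card_spt_eq (hn : 5 ≤ finrank F W) (e : (ι → F) ≃ₗ[F] (F × F) × W) (he : ∀ v, hypSum Q (e v) = Qf v) :
    Nat.card (SPt (hypSum Q)) * (Fintype.card F - 1) + 1 = Nat.card {v // Qf v = 0} := by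
  haveI : Finite W := Module.finite_of_finite F
  rw [card_spt_mul, ← card_zero_eq]
  exact (Nat.card_congr (Equiv.subtypeEquiv (p := fun v => Qf v = 0) (q := fun p => hypSum Q p = 0) e.toEquiv
    fun v => by change Qf v = 0 ↔ hypSum Q (e v) = 0; rw [he])).symm

end CfsgLib.MinIdxOrth
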