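import Cfsg.Agent.MinIdxOrth.Levels
import Cfsg.Agent.Quad.SimpleOmega

/-!
An invariant family of totally singular subspaces is large.
-/

set_option autoImplicit false
set_option linter.style.haveILetI false
set_option linter.unusedSectionVars false

namespace CfsgLib.MinIdxOrth

open QuadraticMap Module CfsgLib.Forms CfsgLib.Quad CfsgLib.MinDeg.Om
open scoped Classical

variable {F : Type*} [Field F] [Fintype F] {W : Type*} [AddCommGroup W] [Module F W] [FiniteDimensional F W]
  {Q : QuadraticForm F W} (hQ : (polarBilin Q).Nondegenerate)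

/-- The restriction to a subspace. -/
abbrev resQ (Q : QuadraticForm F W) (T : Submodule F W) : QuadraticForm F T := Q.comp T.subtype

include hQ

theorem exists_common_nonorth_three (hn : 3 ≤ finrank F W) {u w : W} (hu0 : u ≠ 0) (hw0 : w ≠ 0) (hu : Q u = 0)
    (hw : Q w = 0) : ∃ x, Q x = 0 ∧ polar Q u x ≠ 0 ∧ polar Q w x ≠ 0 := by
  have huu : polar Q u u = 0 := by rw [QuadraticMap.polar_self, hu, smul_zero]
  have hww : polar Q w w = 0 := by rw [QuadraticMap.polar_self, hw, smul_zero]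
  by_cases huw : polar Q u w = 0
  · obtain ⟨y1, e1⟩ := exists_polar_ne hQ hu0
    obtain ⟨y2, e2⟩ := exists_polar_ne hQ hw0
    obtain ⟨y, huy, hwy⟩ : ∃ y, polar Q u y ≠ 0 ∧ polar Q w y ≠ 0 := by
      by_cases c1 : polar Q w y1 = 0
      swap
      · exact ⟨y1, e1, c1⟩
      by_cases c2 : polar Q u y2 = 0
      swap
      · exact ⟨y2, c2, e2⟩
      exact ⟨y1 + y2, by rw [polar_add_right, c2, add_zero]; exact e1,
        by rw [polar_add_right, c1, zero_add]; exact e2⟩
    refine ⟨y + (-(Q y / polar Q u y)) • u, ?_, ?_, ?_⟩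
    · rw [quad_add, quad_smul, hu, polar_smul_right, smul_eq_mul, polar_comm (⇑Q) y u]
      field_simp; ring
    · rw [polar_add_right, polar_smul_right, huu, smul_zero, add_zero]; exact huy
    · rw [polar_add_right, polar_smul_right, polar_comm (⇑Q) w u, huw, smul_zero, add_zero]
      exact hwy
  · set U := Submodule.span F (Set.range ![u, w]) with hUdef
    have hU : finrank F U ≤ 2 := (finrank_range_le_card _).trans (by simp)
    have h1 := finrank_perpS hQ U
    have hUd : U ⊓ perpS Q U = ⊥ := by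
      refine (Submodule.eq_bot_iff _).2 ?_
      rintro x ⟨hxU, hxP⟩
      obtain ⟨c, rfl⟩ := (Submodule.mem_span_range_iff_exists_fun F).1 hxU
      have e1 := hxP u (Submodule.subset_span ⟨0, rfl⟩)
      have e2 := hxP w (Submodule.subset_span ⟨1, rfl⟩)
      simp [Fin.sum_univ_two, polar_add_right, polar_smul_right, huu, hww, polar_comm (⇑Q) w u, huw] at e1 e2
      simp [Fin.sum_univ_two, e1, e2]
    obtain ⟨⟨k, hk⟩, hQk⟩ := exists_aniso (nondeg_perpS hQ hUd) (by omega)
    change Q k ≠ 0 at hQk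
    have hku : polar Q u k = 0 := hk u (Submodule.subset_span ⟨0, rfl⟩)
    have hkw : polar Q w k = 0 := hk w (Submodule.subset_span ⟨1, rfl⟩)
    refine ⟨(-(Q k / polar Q u w)) • u + w + k, ?_, ?_, ?_⟩
    · simp only [quad_add, quad_smul, hu, hw, polar_add_left, polar_smul_left, hku, hkw, smul_eq_mul]
      field_simp; ring
    · simp only [polar_add_right, polar_smul_right, huu, hku, smul_eq_mul, mul_zero, zero_add, add_zero]
      exact huw
    · simp only [polar_add_right, polar_smul_right, hww, hkw, smul_eq_mul, polar_comm (⇑Q) w u, add_zero]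
      exact mul_ne_zero (neg_ne_zero.mpr (div_ne_zero hQk huw)) huw

/-- A singular vector has a singular partner, and the orthogonal complement of the pair is nondegenerate. -/
theorem exists_partner {v : W} (hv0 : v ≠ 0) (hv : Q v = 0) :
    ∃ v', Q v' = 0 ∧ polar Q v v' = 1 ∧
      (polarBilin (resQ Q (perpS Q (Submodule.span F (Set.range ![v, v']))))).Nondegenerate ∧
      finrank F (perpS Q (Submodule.span F (Set.range ![v, v']))) + 2 = finrank F W := by
  obtain ⟨y, hy⟩ := exists_polar_ne hQ hv0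
  set y' := (polar Q v y)⁻¹ • y with hy'
  have h1 : polar Q v y' = 1 := by rw [hy', polar_smul_right, smul_eq_mul, inv_mul_cancel₀ hy]
  clear_value y'
  set v' := y' + (-(Q y')) • v with hv'
  have hQv' : Q v' = 0 := by
    rw [hv', quad_add, quad_smul, hv, polar_smul_right, polar_comm (⇑Q) y' v, h1, smul_eq_mul]
    ring
  have hvv' : polar Q v v' = 1 := by
    rw [hv', polar_add_right, polar_smul_right, QuadraticMap.polar_self, hv, smul_zero, smul_zero, add_zero, h1]
  have hli : LinearIndependent F ![v, v'] := by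
    rw [LinearIndependent.pair_iff]
    intro s t hst
    have e1 := congrArg (fun x => polar Q v x) hst
    have e2 := congrArg (fun x => polar Q v' x) hst
    simp [polar_add_right, polar_smul_right, QuadraticMap.polar_self, hv, hQv', hvv', polar_comm (⇑Q) v' v] at e1 e2
    exact ⟨e2, e1⟩
  refine ⟨v', hQv', hvv', nondeg_perpS hQ ((Submodule.eq_bot_iff _).2 ?_), ?_⟩
  · rintro x ⟨hxU, hxP⟩
    obtain ⟨c, rfl⟩ := (Submodule.mem_span_range_iff_exists_fun F).1 hxU
    have e1 := hxP v (Submodule.subset_span ⟨0, rfl⟩)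
    have e2 := hxP v' (Submodule.subset_span ⟨1, rfl⟩)
    simp [Fin.sum_univ_two, polar_add_right, polar_smul_right, QuadraticMap.polar_self, hv, hQv', hvv',
      polar_comm (⇑Q) v' v] at e1 e2
    simp [Fin.sum_univ_two, e1, e2]
  · have := finrank_perpS hQ (Submodule.span F (Set.range ![v, v']))
    rw [finrank_span_eq_card hli, Fintype.card_fin] at this
    omega

variable (hn : 5 ≤ finrank F W)
include hn

omit hn in
theorem mem_perpS_span {v x : W} (h : polar Q v x = 0) : x ∈ perpS Q (Submodule.span F {v}) := fun y hy => by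
  obtain ⟨c, rfl⟩ := Submodule.mem_span_singleton.1 hy
  rw [polar_smul_left, h, smul_zero]

/-- A point of `v^⊥` can be moved to any other by the commutator subgroup fixing `v`. -/
theorem exists_move_perp {v w₁ w₂ : W} (hv0 : v ≠ 0) (hv : Q v = 0) (h₁ : Q w₁ = 0) (h₂ : Q w₂ = 0)
    (hv₁ : polar Q v w₁ = 0) (hv₂ : polar Q v w₂ = 0) (hn₁ : w₁ ∉ Submodule.span F {v})
    (hn₂ : w₂ ∉ Submodule.span F {v}) :
    ∃ g : ↥(commutator (oGroup Q)), g.1.1 v = v ∧ ∃ b : F, b ≠ 0 ∧ g.1.1 w₁ = b • w₂ := by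
  obtain ⟨v', hQv', hvv', hT, hTd⟩ := exists_partner hQ hv0 hv
  set T := perpS Q (Submodule.span F (Set.range ![v, v']))
  -- projections to the complement of the pair
  have proj : ∀ w, Q w = 0 → polar Q v w = 0 → w ∉ Submodule.span F {v} →
      ∃ t : T, t ≠ 0 ∧ Q t.1 = 0 ∧ ∀ x : T, polar Q w x.1 = polar Q t.1 x.1 := by
    intro w hw hvw hnw
    set t := w + (-(polar Q v' w)) • v with ht
    have htv : polar Q v t = 0 := by
      rw [ht, polar_add_right, polar_smul_right, QuadraticMap.polar_self, hv, smul_zero, smul_zero, add_zero, hvw]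
    have htv' : polar Q v' t = 0 := by
      rw [ht, polar_add_right, polar_smul_right, polar_comm (⇑Q) v' v, hvv', smul_eq_mul, mul_one, add_neg_cancel]
    have htT : t ∈ T := fun x hx => by
      obtain ⟨c, rfl⟩ := (Submodule.mem_span_range_iff_exists_fun F).1 hx
      simp [Fin.sum_univ_two, polar_add_left, polar_smul_left, htv, htv']
    refine ⟨⟨t, htT⟩, fun e => hnw ?_, ?_, fun x => ?_⟩
    · have e' : t = 0 := congrArg Subtype.val e
      rw [ht, add_eq_zero_iff_eq_neg, ← neg_smul, neg_neg] at e'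
      exact Submodule.mem_span_singleton.2 ⟨_, e'.symm⟩
    · change Q t = 0
      rw [ht, quad_add, quad_smul, hw, hv, polar_smul_right, polar_comm (⇑Q) w v, hvw, smul_zero, mul_zero,
        add_zero, add_zero]
    · rw [show ((⟨t, htT⟩ : T) : W) = t from rfl, ht, polar_add_left, polar_smul_left,
        x.2 v (Submodule.subset_span ⟨0, rfl⟩), smul_zero, add_zero]
  obtain ⟨t₁, ht₁0, hQt₁, hp₁⟩ := proj w₁ h₁ hv₁ hn₁
  obtain ⟨t₂, ht₂0, hQt₂, hp₂⟩ := proj w₂ h₂ hv₂ hn₂
  obtain ⟨⟨x, hxT⟩, hQx, hx₁, hx₂⟩ := exists_common_nonorth_three hT (by omega) ht₁0 ht₂0 hQt₁ hQt₂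
  have hQx' : Q x = 0 := hQx
  have hx₁' : polar Q x w₁ ≠ 0 := by
    rw [polar_comm, hp₁ ⟨x, hxT⟩]; exact hx₁
  have hx₂' : polar Q x w₂ ≠ 0 := by
    rw [polar_comm, hp₂ ⟨x, hxT⟩]; exact hx₂
  have hvx : polar Q v x = 0 := hxT v (Submodule.subset_span ⟨0, rfl⟩)
  set v1 := (polar Q x w₁)⁻¹ • w₁ with hv1
  set v2 := (polar Q x w₂)⁻¹ • w₂ with hv2
  have hxv1 : polar Q x v1 = 1 := by rw [hv1, polar_smul_right, smul_eq_mul, inv_mul_cancel₀ hx₁']
  have hxv2 : polar Q x v2 = 1 := by rw [hv2, polar_smul_right, smul_eq_mul, inv_mul_cancel₀ hx₂']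
  have hQv1 : Q v1 = 0 := by rw [hv1, quad_smul, h₁, mul_zero]
  have hQv2 : Q v2 = 0 := by rw [hv2, quad_smul, h₂, mul_zero]
  set a := v2 - v1 with ha
  have hxa : polar Q x a = 0 := by rw [ha, polar_sub_right, hxv1, hxv2, sub_self]
  have hva : polar Q v a = 0 := by
    rw [ha, polar_sub_right, hv1, hv2, polar_smul_right, polar_smul_right, hv₁, hv₂, smul_zero, smul_zero, sub_self]
  have hsum : polar Q v1 a + Q a = 0 := by
    have h := quad_add Q v1 a
    rw [ha, add_sub_cancel, hQv1, hQv2] at h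
    linear_combination -h
  refine ⟨⟨siegel Q x a, siegel_mem_commutator hQ hn hQx' hxa⟩, ?_,
    polar Q x w₁ * (polar Q x w₂)⁻¹, mul_ne_zero hx₁' (inv_ne_zero hx₂'), ?_⟩
  · change (siegel Q x a).1 v = v
    rw [siegel_apply hQx' hxa, hvx, hva]
    simp
  · have h1 : (siegel Q x a).1 v1 = v2 := by
      rw [siegel_apply hQx' hxa, polar_comm (⇑Q) v1 x, hxv1, mul_one, hsum, ha]
      module
    have h2 : w₁ = polar Q x w₁ • v1 := by rw [hv1, smul_smul, mul_inv_cancel₀ hx₁', one_smul]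
    change (siegel Q x a).1 w₁ = _
    conv_lhs => rw [h2, map_smul, h1, hv2, smul_smul]

variable {𝒰 : Set (Submodule F W)} {i : ℕ} (hts : ∀ U ∈ 𝒰, ∀ u ∈ U, Q u = 0)
  (hdim : ∀ U ∈ 𝒰, finrank F U = i) (hne : 𝒰.Nonempty)
  (hinv : ∀ g : ↥(commutator (oGroup Q)), ∀ U ∈ 𝒰, U.map g.1.1.toLinearMap ∈ 𝒰)
include hts hdim hne hinv

omit hts in
theorem exists_member_mem (hi : 1 ≤ i) (hts : ∀ U ∈ 𝒰, ∀ u ∈ U, Q u = 0) {v : W} (hv0 : v ≠ 0) (hv : Q v = 0) :
    ∃ U ∈ 𝒰, v ∈ U := by
  obtain ⟨U, hU⟩ := hne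
  obtain ⟨u, huU, hu0⟩ := Submodule.exists_mem_ne_zero_of_ne_bot (p := U) fun e => by
    have := hdim U hU
    rw [e, finrank_bot] at this
    omega
  haveI := isPretransitive_spt hQ hn
  obtain ⟨g, hg⟩ := MulAction.exists_smul_eq ↥(commutator (oGroup Q)) (spt u hu0 (hts U hU u huU)) (spt v hv0 hv)
  rw [smul_spt, spt_eq_iff] at hg
  obtain ⟨c, hc⟩ := hg
  refine ⟨_, hinv g U hU, ?_⟩
  have hc0 : c ≠ 0 := fun e => iso_ne_zero g.1 hu0 (by rw [← hc, e, zero_smul])
  have h : c⁻¹ • g.1.1 u = v := by rw [← hc, smul_smul, inv_mul_cancel₀ hc0, one_smul]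
  exact ⟨c⁻¹ • u, U.smul_mem _ huU, by rw [LinearEquiv.coe_coe, map_smul, h]⟩

theorem count_through (hi : 2 ≤ i) {v : W} (hv0 : v ≠ 0) (hv : Q v = 0) :
    Fintype.card F ^ (finrank F W - i - 2) + 1 ≤ Nat.card {U : Submodule F W // U ∈ 𝒰 ∧ v ∈ U} := by
  haveI : Finite W := Module.finite_of_finite F
  haveI : Finite (Submodule F W) := Finite.of_injective _ SetLike.coe_injective
  haveI := Fintype.ofFinite W
  set q := Fintype.card F with hq
  set n := finrank F W with hnd
  obtain ⟨U, hU, hvU⟩ := exists_member_mem hQ hn hdim hne hinv (by omega) hts hv0 hv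
  obtain ⟨v', hQv', hvv', hT, hTd⟩ := exists_partner hQ hv0 hv
  set T := perpS Q (Submodule.span F (Set.range ![v, v'])) with hTdef
  -- the section of the member
  set UT : Submodule F T := U.comap T.subtype with hUT
  have hUTd : i - 1 ≤ finrank F UT := by
    let φ : U →ₗ[F] F := (polarFun Q v').comp U.subtype
    have hk := φ.finrank_range_add_finrank_ker
    have hr : finrank F (LinearMap.range φ) ≤ 1 :=
      (Submodule.finrank_le _).trans (le_of_eq (Module.finrank_self F))
    rw [hdim U hU] at hk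
    have hle : finrank F (LinearMap.ker φ) ≤ finrank F UT := by
      have hmem : ∀ x : LinearMap.ker φ, (x.1.1 : W) ∈ T := fun x y hy => by
        obtain ⟨c, rfl⟩ := (Submodule.mem_span_range_iff_exists_fun F).1 hy
        have h1 : polar Q v x.1.1 = 0 := ts_polar (hts U hU) hvU x.1.2
        have h2 : polar Q v' x.1.1 = 0 := by rw [polar_comm]; exact LinearMap.mem_ker.1 x.2
        simp [Fin.sum_univ_two, polar_add_left, polar_smul_left, h1, h2]
      exact LinearMap.finrank_le_finrank_of_injective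
        (f := LinearMap.codRestrict UT ((U.subtype.comp (LinearMap.ker φ).subtype).codRestrict T hmem)
          fun x => x.1.2)
        fun x y h => Subtype.ext (Subtype.ext
          (congrArg (fun z : UT => z.1.1) h))
    omega
  have hUT'd : finrank F UT = i - 1 := by
    have hlt : UT.map T.subtype < U := by
      refine lt_of_le_of_ne (by rintro x ⟨y, hy, rfl⟩; exact hy) fun e => ?_
      obtain ⟨y, -, hy⟩ : v ∈ UT.map T.subtype := e.symm ▸ hvU
      have h := y.2 v' (Submodule.subset_span ⟨1, rfl⟩)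
      rw [show (y : W) = v from hy, polar_comm, hvv'] at h
      exact one_ne_zero h
    have := Submodule.finrank_lt_finrank_of_lt hlt
    rw [Submodule.finrank_map_subtype_eq, hdim U hU] at this
    omega
  have hz := nz_zero_ts hT UT (fun u hu => hts U hU u.1 hu) (by omega)
  rw [hUT'd, show finrank F T - (i - 1) - 1 = n - i - 2 by omega] at hz
  -- the singular vectors orthogonal to `v`
  set S := {x : W // Q x = 0 ∧ polar Q v x = 0 ∧ x ∉ Submodule.span F {v}}
  have hS : q * nz (resQ Q T) 0 ≤ Nat.card S := by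
    rw [nz, hq, ← Nat.card_eq_fintype_card, ← Nat.card_prod]
    have hmemv : ∀ t : T, polar Q v t.1 = 0 := fun t => t.2 v (Submodule.subset_span ⟨0, rfl⟩)
    refine Nat.card_le_card_of_injective (fun p => (⟨p.2.1.1 + p.1 • v, ?_, ?_, ?_⟩ : S)) ?_
    · rw [quad_add, quad_smul, hv, polar_smul_right, polar_comm (⇑Q) _ v, hmemv]
      simp only [smul_zero, mul_zero, add_zero]
      exact p.2.2.2
    · rw [polar_add_right, polar_smul_right, hmemv, QuadraticMap.polar_self, hv, smul_zero, smul_zero, add_zero]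
    · intro hc
      obtain ⟨c, hc⟩ := Submodule.mem_span_singleton.1 hc
      have e : p.2.1.1 = (c - p.1) • v := by rw [sub_smul, hc, add_sub_cancel_right]
      have h := p.2.1.2 v' (Submodule.subset_span ⟨1, rfl⟩)
      rw [e, polar_smul_right, polar_comm (⇑Q) v' v, hvv', smul_eq_mul, mul_one] at h
      exact p.2.2.1 (Subtype.ext (by rw [e, h, zero_smul]; rfl))
    · rintro ⟨a, ⟨s, hs⟩⟩ ⟨b, ⟨t, ht⟩⟩ h
      have h' : s.1 + a • v = t.1 + b • v := congrArg Subtype.val h
      have h1 := congrArg (fun x => polar Q v' x) h'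
      simp only [polar_add_right, polar_smul_right, s.2 v' (Submodule.subset_span ⟨1, rfl⟩),
        t.2 v' (Submodule.subset_span ⟨1, rfl⟩), polar_comm (⇑Q) v' v, hvv', smul_eq_mul, mul_one, zero_add] at h1
      subst h1
      exact Prod.ext rfl (Subtype.ext (Subtype.ext (add_right_cancel h')))
  -- each member through `v` covers few of them
  have hcov : ∀ x : S, ∃ U ∈ 𝒰, v ∈ U ∧ x.1 ∈ U := by
    intro x
    obtain ⟨u, huU, hun⟩ : ∃ u ∈ U, u ∉ Submodule.span F {v} := by
      by_contra hc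
      push Not at hc
      have := Submodule.finrank_mono (show U ≤ Submodule.span F {v} from hc)
      rw [hdim U hU, finrank_span_singleton hv0] at this
      omega
    obtain ⟨g, hgv, b, hb, hgu⟩ := exists_move_perp hQ hn hv0 hv (hts U hU u huU) x.2.1
      (ts_polar (hts U hU) hvU huU) x.2.2.1 hun x.2.2.2
    refine ⟨_, hinv g U hU, ⟨v, hvU, hgv⟩, b⁻¹ • u, U.smul_mem _ huU, ?_⟩
    rw [LinearEquiv.coe_coe, map_smul, hgu, smul_smul, inv_mul_cancel₀ hb, one_smul]
  set C := {U : Submodule F W // U ∈ 𝒰 ∧ v ∈ U}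
  haveI := Fintype.ofFinite C
  have hC : Nat.card S ≤ Nat.card C * (q ^ i - q) := by
    choose f hf hfv hfx using hcov
    refine le_trans (Nat.card_le_card_of_injective
      (fun x => (⟨⟨f x, hf x, hfv x⟩, x.1, hfx x, x.2.2.2⟩ :
        Σ U : C, {y : W // y ∈ U.1 ∧ y ∉ Submodule.span F {v}})) ?_) (le_of_eq ?_)
    · intro x y h
      exact Subtype.ext (congrArg (fun p : Σ U : C, {y : W // y ∈ U.1 ∧ y ∉ Submodule.span F {v}} => p.2.1) h)
    · rw [Nat.card_sigma]
      refine (Finset.sum_congr rfl fun U' _ => (?_ : _ = q ^ i - q)).trans (by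
        rw [Finset.sum_const, Finset.card_univ, smul_eq_mul, Nat.card_eq_fintype_card])
      have hle : Submodule.span F {v} ≤ U'.1 := (Submodule.span_singleton_le_iff_mem _ _).2 U'.2.2
      have e := Nat.card_congr (Equiv.sumCompl fun y : U'.1 => (y : W) ∈ Submodule.span F {v})
      rw [Nat.card_sum, Module.natCard_eq_pow_finrank (K := F) (V := U'.1), hdim _ U'.2.1,
        Nat.card_congr (Equiv.subtypeSubtypeEquivSubtypeInter (· ∈ U'.1) (· ∈ Submodule.span F {v})),
        Nat.card_congr (Equiv.subtypeSubtypeEquivSubtypeInter (· ∈ U'.1) (fun y => y ∉ Submodule.span F {v})),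
        Nat.card_congr ((Equiv.subtypeEquivRight fun y => ⟨And.right, fun h => ⟨hle h, h⟩⟩) :
          {y : W // y ∈ U'.1 ∧ y ∈ Submodule.span F {v}} ≃ ↥(Submodule.span F {v})),
        Module.natCard_eq_pow_finrank (K := F) (V := Submodule.span F {v}), finrank_span_singleton hv0,
        Nat.card_eq_fintype_card (α := F), pow_one, ← hq] at e
      omega
  have h1 := le_trans (Nat.mul_le_mul_left q hz) (hS.trans hC)
  obtain ⟨j, rfl⟩ : ∃ j, i = j + 2 := ⟨i - 2, by omega⟩
  rw [show j + 2 - 1 = j + 1 by omega, ← mul_assoc, mul_comm q, mul_comm (Nat.card C),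
    show q ^ (j + 2) - q = (q ^ (j + 1) - 1) * q by rw [Nat.sub_mul, one_mul, ← pow_succ]] at h1
  refine Nat.le_of_mul_le_mul_left h1 (Nat.mul_pos (Nat.sub_pos_of_lt ?_) Fintype.card_pos)
  exact Nat.one_lt_pow (by omega) Fintype.one_lt_card

/-- The number of members of the family. -/
theorem count_family (hi : 1 ≤ i) {k : ℕ}
    (hk : ∀ v : W, v ≠ 0 → Q v = 0 → k ≤ Nat.card {U : Submodule F W // U ∈ 𝒰 ∧ v ∈ U}) :
    nz Q 0 * k ≤ Nat.card 𝒰 * (Fintype.card F ^ i - 1) := by
  haveI : Finite W := Module.finite_of_finite F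
  haveI : Finite (Submodule F W) := Finite.of_injective _ SetLike.coe_injective
  haveI := Fintype.ofFinite W
  haveI := Fintype.ofFinite 𝒰
  haveI := Fintype.ofFinite {v : W // v ≠ 0 ∧ Q v = 0}
  have e : (Σ v : {v : W // v ≠ 0 ∧ Q v = 0}, {U : Submodule F W // U ∈ 𝒰 ∧ v.1 ∈ U}) ≃
      Σ U : 𝒰, {v : W // v ≠ 0 ∧ v ∈ U.1} :=
    { toFun := fun p => ⟨⟨p.2.1, p.2.2.1⟩, p.1.1, p.1.2.1, p.2.2.2⟩
      invFun := fun p => ⟨⟨p.2.1, p.2.2.1, hts _ p.1.2 _ p.2.2.2⟩, p.1.1, p.1.2, p.2.2.2⟩
      left_inv := fun p => rfl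
      right_inv := fun p => rfl }
  have hU : ∀ U : 𝒰, Nat.card {v : W // v ≠ 0 ∧ v ∈ U.1} = Fintype.card F ^ i - 1 := fun U => by
    have e := Nat.card_congr (Equiv.sumCompl fun y : U.1 => (y : W) = 0)
    rw [Nat.card_sum, Module.natCard_eq_pow_finrank (K := F) (V := U.1), hdim _ U.2,
      Nat.card_congr (Equiv.subtypeSubtypeEquivSubtypeInter (· ∈ U.1) (· = 0)),
      Nat.card_congr (Equiv.subtypeSubtypeEquivSubtypeInter (· ∈ U.1) (fun y => ¬y = 0)),
      show Nat.card {y : W // y ∈ U.1 ∧ y = 0} = 1 from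
        Nat.card_eq_one_iff_exists.2 ⟨⟨0, zero_mem _, rfl⟩, fun y => Subtype.ext y.2.2⟩,
      Nat.card_eq_fintype_card (α := F),
      Nat.card_congr (Equiv.subtypeEquivRight (q := fun y : W => y ≠ 0 ∧ y ∈ U.1)
        fun y => (and_comm : y ∈ U.1 ∧ ¬y = 0 ↔ _))] at e
    omega
  have h := Nat.card_congr e
  rw [Nat.card_sigma, Nat.card_sigma, Finset.sum_congr rfl (fun U _ => hU U), Finset.sum_const, Finset.card_univ,
    smul_eq_mul, ← Nat.card_eq_fintype_card (α := 𝒰)] at h
  rw [← h, nz, Nat.card_eq_fintype_card, ← Finset.card_univ]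
  exact le_trans (le_of_eq (by rw [Finset.sum_const, smul_eq_mul]))
    (Finset.sum_le_sum (f := fun _ => k) fun v _ => hk v.1 v.2.1 v.2.2)

theorem family_large (hi : 2 ≤ i) :
    (Fintype.card F ^ (finrank F W - i - 1) + 1) * (Fintype.card F ^ (finrank F W - i - 2) + 1) ≤
      Nat.card 𝒰 := by
  have h1 := count_family hQ hn hts hdim hne hinv (by omega) fun v hv0 hv =>
    count_through hQ hn hts hdim hne hinv hi hv0 hv
  obtain ⟨U, hU⟩ := hne
  have h2 := nz_zero_ts hQ U (hts U hU) (by rw [hdim U hU]; omega)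
  rw [hdim U hU] at h2
  refine Nat.le_of_mul_le_mul_left ?_ (Nat.sub_pos_of_lt (Nat.one_lt_pow (n := i) (by omega) (Fintype.one_lt_card (α := F))))
  rw [mul_comm _ (Nat.card 𝒰), ← mul_assoc]
  exact le_trans (Nat.mul_le_mul_right _ h2) h1

end CfsgLib.MinIdxOrth
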