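import Cfsg.Agent.MinDeg.OmegaWeight
import Mathlib.GroupTheory.GroupAction.Quotient

/-!
Orbits of a finite quadratic space acting on a set, described by the annihilators of the stabilisers.
-/

set_option autoImplicit false
set_option linter.style.haveILetI false
set_option linter.unusedSectionVars false

namespace CfsgLib.MinIdxOrth

open QuadraticMap Module AddAction CfsgLib.Forms CfsgLib.Quad CfsgLib.MinDeg.Om
open scoped Classical

variable {F : Type*} [Field F] [Fintype F] {M : Type*} [AddCommGroup M] [Module F M] [FiniteDimensional F M]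
  (Q : QuadraticForm F M) (ψ : AddChar F ℂ)

/-- The annihilator of an additive subgroup. -/
def ann (K : AddSubgroup M) : AddSubgroup M where
  carrier := {v | ∀ k ∈ K, ψ (polar Q k v) = 1}
  zero_mem' k _ := by simp
  add_mem' := fun {a b} ha hb k hk => by rw [polar_add_right, AddChar.map_add_eq_mul, ha k hk, hb k hk, one_mul]
  neg_mem' := fun {a} ha k hk => by
    rw [polar_neg_right, ← polar_neg_left]
    exact ha _ (K.neg_mem hk)

variable {Q ψ}

theorem mem_ann {K : AddSubgroup M} {v : M} : v ∈ ann Q ψ K ↔ ∀ k ∈ K, ψ (polar Q k v) = 1 := Iff.rfl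

variable (hQ : (polarBilin Q).Nondegenerate) (hψ : ψ ≠ 0)
include hQ hψ

theorem eq_of_char {v v' : M} (h : ∀ w, ψ (polar Q w v) = ψ (polar Q w v')) : v = v' := by
  haveI : Finite M := Module.finite_of_finite F
  haveI := Fintype.ofFinite M
  exact (chi_bijective hQ ψ hψ).1 (DFunLike.ext _ _ h)

theorem card_ann (K : AddSubgroup M) : Nat.card (ann Q ψ K) = K.index := by
  haveI : Finite M := Module.finite_of_finite F
  haveI := Fintype.ofFinite M
  let e1 : ann Q ψ K ≃ {χ : AddChar M ℂ // ∀ k ∈ K, χ k = 1} :=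
    (Equiv.ofBijective _ (chi_bijective hQ ψ hψ)).subtypeEquiv fun v => Iff.rfl
  let e2 : {χ : AddChar M ℂ // ∀ k ∈ K, χ k = 1} ≃ AddChar (M ⧸ K) ℂ :=
    { toFun := fun χ => AddChar.toAddMonoidHomEquiv.symm
        (QuotientAddGroup.lift K (AddChar.toAddMonoidHomEquiv χ.1)
          (fun k hk => AddMonoidHom.mem_ker.2 (by
            change Additive.ofMul (χ.1 k) = 0
            rw [χ.2 k hk]; rfl)))
      invFun := fun χ => ⟨χ.compAddMonoidHom (QuotientAddGroup.mk' K), fun k hk => by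
        rw [AddChar.compAddMonoidHom_apply, QuotientAddGroup.mk'_apply,
          (QuotientAddGroup.eq_zero_iff k).2 hk, AddChar.map_zero_eq_one]⟩
      left_inv := fun χ => Subtype.ext (DFunLike.ext _ _ fun x => rfl)
      right_inv := fun χ => DFunLike.ext _ _ fun x => QuotientAddGroup.induction_on x fun y => rfl }
  haveI : Fintype (M ⧸ K) := Fintype.ofFinite _
  rw [Nat.card_congr (e1.trans e2), Nat.card_eq_fintype_card, AddChar.card_eq,
    AddSubgroup.index, Nat.card_eq_fintype_card]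

theorem ann_ann (K : AddSubgroup M) : ann Q ψ (ann Q ψ K) = K := by
  haveI : Finite M := Module.finite_of_finite F
  refine (AddSubgroup.eq_of_le_of_card_ge (fun k hk v hv => ?_) ?_).symm
  · rw [polar_comm]; exact hv k hk
  · rw [card_ann hQ hψ]
    have h1 := K.card_mul_index
    rw [← card_ann hQ hψ K, ← (ann Q ψ K).card_mul_index, mul_comm] at h1
    exact le_of_eq (Nat.eq_of_mul_eq_mul_left Nat.card_pos h1).symm

theorem ann_top : ann Q ψ (⊤ : AddSubgroup M) = ⊥ := by
  refine (AddSubgroup.eq_bot_iff_forall _).2 fun v hv => eq_of_char hQ hψ fun w => ?_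
  rw [hv w trivial]; simp

theorem ann_bot : ann Q ψ (⊥ : AddSubgroup M) = ⊤ := by
  refine eq_top_iff.2 fun v _ k hk => ?_
  rw [AddSubgroup.mem_bot.1 hk]; simp

section action

variable (Q ψ) (Y : Type*) [AddAction M Y]

/-- The orbits. -/
abbrev Orb : Type _ := orbitRel.Quotient M Y

variable {Y}

omit hQ hψ in
/-- The weights of an orbit. -/
noncomputable def wt (o : Orb (M := M) Y) : AddSubgroup M := ann Q ψ (stabilizer M o.out)

omit hQ hψ in
theorem stabilizer_vadd_eq (w : M) (y : Y) : stabilizer M (w +ᵥ y) = stabilizer M y := by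
  ext k
  rw [mem_stabilizer_iff, mem_stabilizer_iff, vadd_comm, vadd_left_cancel_iff]

omit hQ hψ in
theorem wt_mk (y : Y) : wt Q ψ (Quotient.mk'' y : Orb (M := M) Y) = ann Q ψ (stabilizer M y) := by
  obtain ⟨w, hw⟩ := orbitRel_apply.1 (Quotient.mk_out (s := orbitRel M Y) y)
  rw [wt, show (Quotient.mk'' y : Orb (M := M) Y).out = w +ᵥ y from hw.symm, stabilizer_vadd_eq]

variable [Finite Y]

/-- The number of orbits having a given weight. -/
noncomputable def nwt (v : M) : ℕ := Nat.card {o : Orb (M := M) Y // v ∈ wt Q ψ o}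

theorem card_orbit (y : Y) : Nat.card (AddAction.orbit M y) = Nat.card (ann Q ψ (stabilizer M y)) := by
  rw [card_ann hQ hψ, AddSubgroup.index]
  exact Nat.card_congr (orbitEquivQuotientStabilizer M y)

theorem card_eq_sum [Fintype (Orb (M := M) Y)] :
    Nat.card Y = ∑ o : Orb (M := M) Y, Nat.card (wt Q ψ o) := by
  rw [Nat.card_congr (selfEquivSigmaOrbits M Y), Nat.card_sigma]
  exact Finset.sum_congr rfl fun o _ => card_orbit Q ψ hQ hψ o.out

theorem card_eq_sum_nwt [Fintype M] : Nat.card Y = ∑ v : M, nwt (Y := Y) Q ψ v := by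
  haveI := Fintype.ofFinite (Orb (M := M) Y)
  rw [card_eq_sum Q ψ hQ hψ]
  simp only [nwt, Nat.card_eq_fintype_card, Fintype.card_subtype, Finset.card_filter]
  exact Finset.sum_comm

theorem wt_eq_bot_iff (o : Orb (M := M) Y) : wt Q ψ o = ⊥ ↔ ∀ w : M, w +ᵥ o.out = o.out := by
  constructor
  · intro h w
    have h1 := congrArg (ann Q ψ) h
    rw [wt, ann_ann hQ hψ, ann_bot hQ hψ] at h1
    exact mem_stabilizer_iff.1 (h1 ▸ AddSubgroup.mem_top w)
  · intro h
    rw [wt, show stabilizer M o.out = ⊤ from eq_top_iff.2 fun w _ => mem_stabilizer_iff.2 (h w),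
      ann_top hQ hψ]

/-- A translation fixes the whole orbit when it annihilates the weights. -/
theorem fix_translate (u : M) (y : Y) :
    u +ᵥ y = y ↔ ∀ v ∈ wt Q ψ (Quotient.mk'' y : Orb (M := M) Y), ψ (polar Q u v) = 1 := by
  rw [← mem_stabilizer_iff, wt_mk]
  refine ⟨fun h v hv => hv u h, fun h => ?_⟩
  rw [← ann_ann hQ hψ (stabilizer M y)]
  intro v hv
  rw [polar_comm]
  exact h v hv

/-- Transport of weights along a semilinear bijection. -/
theorem exists_orb_perm (π : Y ≃ Y) (f f' : M ≃+ M) (hπ : ∀ (w : M) (y : Y), π (w +ᵥ y) = f w +ᵥ π y)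
    (hf : ∀ w v, ψ (polar Q (f w) (f' v)) = ψ (polar Q w v)) :
    ∃ σ : Orb (M := M) Y ≃ Orb (M := M) Y, (∀ y, σ (Quotient.mk'' y) = Quotient.mk'' (π y)) ∧
      ∀ o v, f' v ∈ wt Q ψ (σ o) ↔ v ∈ wt Q ψ o := by
  have hrel : ∀ x y, orbitRel M Y x y ↔ orbitRel M Y (π x) (π y) := by
    intro x y
    rw [orbitRel_apply, orbitRel_apply]
    constructor
    · rintro ⟨w, rfl⟩
      exact ⟨_, (hπ w y).symm⟩
    · rintro ⟨w, hw⟩
      refine ⟨f.symm w, π.injective ?_⟩
      show π (f.symm w +ᵥ y) = π x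
      rw [hπ, AddEquiv.apply_symm_apply]
      exact hw
  refine ⟨Quotient.congr π hrel, fun y => rfl, fun o v => ?_⟩
  induction o using Quotient.inductionOn' with
  | h y =>
    change f' v ∈ wt Q ψ (Quotient.mk'' (π y)) ↔ _
    rw [wt_mk, wt_mk, mem_ann, mem_ann]
    constructor
    · intro h k hk
      rw [← hf]
      refine h _ ?_
      rw [mem_stabilizer_iff] at hk ⊢
      rw [← hπ, hk]
    · intro h k hk
      rw [← f.apply_symm_apply k, hf]
      refine h _ (mem_stabilizer_iff.2 (π.injective ?_))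
      rw [hπ, AddEquiv.apply_symm_apply, mem_stabilizer_iff.1 hk]

/-- The number of weights is invariant under transport. -/
theorem nwt_map (π : Y ≃ Y) (f f' : M ≃+ M) (hπ : ∀ (w : M) (y : Y), π (w +ᵥ y) = f w +ᵥ π y)
    (hf : ∀ w v, ψ (polar Q (f w) (f' v)) = ψ (polar Q w v)) (v : M) :
    nwt (Y := Y) Q ψ (f' v) = nwt (Y := Y) Q ψ v := by
  obtain ⟨σ, -, hσ⟩ := exists_orb_perm Q ψ hQ hψ π f f' hπ hf
  exact (Nat.card_congr (σ.subtypeEquiv fun o => (hσ o v).symm)).symm

/-- A semilinear bijection has at most as many fixed points in an orbit as fixed weights. -/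
theorem card_fix_orbit_le (π : Y ≃ Y) (f f' : M ≃+ M) (hπ : ∀ (w : M) (y : Y), π (w +ᵥ y) = f w +ᵥ π y)
    (hf : ∀ w v, ψ (polar Q (f w) (f' v)) = ψ (polar Q w v)) (o : Orb (M := M) Y) :
    Nat.card {y : Y // Quotient.mk'' y = o ∧ π y = y} ≤
      Nat.card {v : M // v ∈ wt Q ψ o ∧ f' v = v} := by
  haveI : Finite M := Module.finite_of_finite F
  rcases isEmpty_or_nonempty {y : Y // Quotient.mk'' y = o ∧ π y = y} with h | ⟨y₀, rfl, hy₀⟩
  · simp
  set K := stabilizer M y₀ with hK
  have hfK : ∀ k ∈ K, f k ∈ K := fun k hk => by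
    rw [hK, mem_stabilizer_iff] at hk ⊢
    conv_lhs => rw [← hy₀, ← hπ, hk, hy₀]
  let φ : M →+ M ⧸ K := (QuotientAddGroup.mk' K).comp (f.toAddMonoidHom - AddMonoidHom.id M)
  have hφ : ∀ w, φ w = 0 ↔ f w - w ∈ K := fun w => QuotientAddGroup.eq_zero_iff _
  have hKφ : K ≤ φ.ker := fun k hk => (hφ k).2 (K.sub_mem (hfK k hk) hk)
  let R : AddSubgroup M := φ.range.comap (QuotientAddGroup.mk' K)
  have hmov : ∀ w : M, π (w +ᵥ y₀) = w +ᵥ y₀ ↔ w ∈ φ.ker := fun w => by
    rw [hπ, hy₀, AddMonoidHom.mem_ker, hφ, hK, mem_stabilizer_iff]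
    conv_rhs => rw [sub_eq_neg_add, add_vadd, neg_vadd_eq_iff]
  -- the fixed points of the orbit are the classes of the kernel
  have hmap : ∀ H : AddSubgroup M, K ≤ H →
      Nat.card (H.map (QuotientAddGroup.mk' K)) * Nat.card K = Nat.card H := fun H hH => by
    have h1 : K.relIndex H = Nat.card (H.map (QuotientAddGroup.mk' K)) := by
      conv_lhs => rw [← QuotientAddGroup.ker_mk' K]
      rw [AddSubgroup.relIndex_ker]
    have h2 := AddSubgroup.relIndex_mul_relIndex ⊥ K H bot_le hH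
    rw [AddSubgroup.relIndex_bot_left, AddSubgroup.relIndex_bot_left, h1] at h2
    rw [mul_comm, h2]
  have e1 : Nat.card {y : Y // (Quotient.mk'' y : Orb (M := M) Y) = Quotient.mk'' y₀ ∧ π y = y} =
      Nat.card (φ.ker.map (QuotientAddGroup.mk' K)) := by
    rw [show Nat.card (φ.ker.map (QuotientAddGroup.mk' K)) = Nat.card (ofQuotientStabilizer M y₀ ''
        (φ.ker.map (QuotientAddGroup.mk' K) : Set (M ⧸ K))) from
      (Nat.card_image_of_injective (injective_ofQuotientStabilizer M y₀) _).symm]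
    refine Nat.card_congr (Equiv.subtypeEquivRight fun y => ?_)
    constructor
    · rintro ⟨hy1, hy2⟩
      obtain ⟨w, hw⟩ := orbitRel_apply.1 (Quotient.eq''.1 hy1)
      exact ⟨QuotientAddGroup.mk w, ⟨w, (hmov w).1 (by rw [show w +ᵥ y₀ = y from hw, hy2]), rfl⟩, hw⟩
    · rintro ⟨x, ⟨w, hw, rfl⟩, rfl⟩
      exact ⟨Quotient.sound' (orbitRel_apply.2 ⟨w, rfl⟩), (hmov w).2 hw⟩
  have h2 : Nat.card (φ.ker.map (QuotientAddGroup.mk' K)) * Nat.card K = Nat.card φ.ker := hmap _ hKφ
  have h3 : Nat.card φ.ker * Nat.card φ.range = Nat.card M := by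
    rw [← φ.ker.card_mul_index, AddSubgroup.index_ker]
  have h4 : Nat.card R = Nat.card K * Nat.card φ.range := by
    rw [← hmap R fun k hk => show QuotientAddGroup.mk k ∈ φ.range by
        rw [(QuotientAddGroup.eq_zero_iff k).2 hk]; exact zero_mem _,
      AddSubgroup.map_comap_eq_self_of_surjective (QuotientAddGroup.mk'_surjective K), mul_comm]
  have h5 : Nat.card (φ.ker.map (QuotientAddGroup.mk' K)) * Nat.card R = Nat.card M := by
    rw [h4, ← mul_assoc, h2, h3]
  have h6 : Nat.card (φ.ker.map (QuotientAddGroup.mk' K)) = R.index := by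
    rw [← R.card_mul_index, mul_comm] at h5
    exact Nat.eq_of_mul_eq_mul_left Nat.card_pos h5
  rw [e1, h6]
  rw [← card_ann hQ hψ R, wt_mk]
  refine Nat.card_le_card_of_injective (fun v => ⟨v.1, fun k hk => v.2 k ?_, eq_of_char hQ hψ fun w => ?_⟩)
    fun a b h => Subtype.ext (congrArg (fun z : {v : M // v ∈ ann Q ψ K ∧ f' v = v} => z.1) h)
  · show QuotientAddGroup.mk k ∈ φ.range
    rw [(QuotientAddGroup.eq_zero_iff k).2 hk]
    exact zero_mem _
  · have h := v.2 (f (f.symm w) - f.symm w) ⟨f.symm w, rfl⟩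
    rw [f.apply_symm_apply, polar_sub_left, AddChar.map_sub_eq_div,
      div_eq_one_iff_eq] at h
    · rw [h, ← hf (f.symm w), f.apply_symm_apply]
    · intro h0
      have := AddChar.val_isUnit ψ (polar Q (f.symm w) v.1)
      rw [h0] at this
      exact not_isUnit_zero this

end action

end CfsgLib.MinIdxOrth
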