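import Cfsg.Agent.MinIdxOrth.Small
import Cfsg.Agent.MinIdxOrth.Cover

/-!
Siegel transformations of the Levi complement centred at a singular weight fix the orbits carrying it.
-/

set_option autoImplicit false
set_option linter.style.haveILetI false
set_option linter.unusedSectionVars false

namespace CfsgLib.MinIdxOrth

open QuadraticMap Module AddAction CfsgLib.Forms CfsgLib.Quad CfsgLib.MinDeg.Om
open scoped Classical

section general

variable {F : Type*} [Field F] [Fintype F] {M : Type*} [AddCommGroup M] [Module F M] [FiniteDimensional F M]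
  {Q : QuadraticForm F M} (hQ : (polarBilin Q).Nondegenerate) {ψ : AddChar F ℂ} (hψ : ψ ≠ 0)
  {Y : Type*} [AddAction M Y] [Finite Y]
include hQ hψ

/-- A quadratic space normalised by its Siegel transformations acts trivially on a very small set. -/
theorem trivial_of_small (h3 : 3 ≤ finrank F M)
    (hinv : ∀ x b : M, Q x = 0 → polar Q x b = 0 → ∃ π : Y ≃ Y,
      ∀ (w : M) (y : Y), π (w +ᵥ y) = (siegel Q x b).1 w +ᵥ π y)
    (hY : Nat.card Y ≤ Fintype.card F ^ (finrank F M - 2) ∨
      ((2 : F) ≠ 0 ∧ Nat.card Y ≤ 2 * Fintype.card F ^ (finrank F M - 2)))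
    (w : M) (y : Y) : w +ᵥ y = y := by
  haveI : Finite M := Module.finite_of_finite F
  haveI := Fintype.ofFinite M
  haveI : Nonempty Y := ⟨y⟩
  haveI := Fintype.ofFinite (Orb (M := M) Y)
  set N : Finset M := Finset.univ.filter fun a => a ≠ 0 ∧ 0 < nwt (Y := Y) Q ψ a with hN
  -- there are fewer weights than points
  have hlt : N.card < Nat.card Y := by
    rw [card_eq_sum_nwt Q ψ hQ hψ, ← Finset.add_sum_erase _ _ (Finset.mem_univ (0 : M))]
    have h0 : 0 < nwt (Y := Y) Q ψ (0 : M) := by
      haveI : Nonempty {o : Orb (M := M) Y // (0 : M) ∈ wt Q ψ o} := ⟨⟨Quotient.mk'' y, zero_mem _⟩⟩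
      exact Nat.card_pos
    have h1 : N.card ≤ ∑ a ∈ Finset.univ.erase (0 : M), nwt (Y := Y) Q ψ a := by
      rw [Finset.card_eq_sum_ones]
      refine le_trans (Finset.sum_le_sum fun a ha => (Finset.mem_filter.1 ha).2.2)
        (Finset.sum_le_sum_of_subset fun a ha => ?_)
      rw [hN, Finset.mem_filter] at ha
      exact Finset.mem_erase.2 ⟨ha.2.1, ha.1⟩
    omega
  -- if there is none, the action is trivial
  by_cases hne : N.Nonempty
  swap
  · rw [Finset.not_nonempty_iff_eq_empty] at hne
    refine (fix_translate Q ψ hQ hψ w y).2 fun v hv => ?_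
    have : v = 0 := by
      by_contra hv0
      haveI : Nonempty {o : Orb (M := M) Y // v ∈ wt Q ψ o} := ⟨⟨_, hv⟩⟩
      have : v ∈ N := Finset.mem_filter.2 ⟨Finset.mem_univ _, hv0, Nat.card_pos⟩
      rw [hne] at this
      exact Finset.notMem_empty _ this
    rw [this, polar_zero_right, AddChar.map_zero_eq_one]
  exfalso
  obtain ⟨a, ha⟩ := hne
  rw [hN, Finset.mem_filter] at ha
  obtain ⟨-, ha0, hap⟩ := ha
  obtain ⟨z, -, hz0, hz⟩ := exists_singular_of_three (Q := Q) (⊤ : Submodule F M) (by rw [finrank_top]; omega)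
  obtain ⟨z', hz'⟩ := exists_polar_ne hQ hz0
  have hspan := span_singular_eq hQ (X := (⊤ : Submodule F M)) (Submodule.mem_top (x := z))
    (Submodule.mem_top (x := z')) hz hz'
  obtain ⟨x, hx, hax⟩ : ∃ x, Q x = 0 ∧ polar Q a x ≠ 0 := by
    by_contra hc
    push Not at hc
    obtain ⟨y, hy⟩ := exists_polar_ne hQ ha0
    apply hy
    have hle : Submodule.span F {x | x ∈ (⊤ : Submodule F M) ∧ Q x = 0} ≤ perpS Q (Submodule.span F {a}) :=
      Submodule.span_le.2 fun x hx => mem_perpS_span hQ (hc x hx.2)
    rw [hspan] at hle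
    exact hle (Submodule.mem_top (x := y)) a (Submodule.mem_span_singleton_self a)
  have hx0 : x ≠ 0 := fun e => hax (by rw [e, polar_zero_right])
  obtain ⟨x', hQx', hxx', -, hTd⟩ := exists_partner hQ hx0 hx
  set T := perpS Q (Submodule.span F (Set.range ![x, x'])) with hT
  have hxb : ∀ b : T, polar Q x b.1 = 0 := fun b => b.2 x (Submodule.subset_span ⟨0, rfl⟩)
  -- the images of the weight
  set im : T → M := fun b => (siegel Q x b.1).1 a with him
  have himN : ∀ b, im b ∈ N ∧ -im b ∈ N := by
    intro b
    have h1 : nwt (Y := Y) Q ψ (im b) = nwt (Y := Y) Q ψ a := by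
      obtain ⟨π, hπ⟩ := hinv x b.1 hx (hxb b)
      exact nwt_map Q ψ hQ hψ π (siegel Q x b.1).1.toAddEquiv (siegel Q x b.1).1.toAddEquiv hπ
        (fun w v => by
          change ψ (polar Q ((siegel Q x b.1).1 w) ((siegel Q x b.1).1 v)) = _
          rw [polar_oGroup]) a
    have h2 : nwt (Y := Y) Q ψ (-im b) = nwt (Y := Y) Q ψ (im b) :=
      Nat.card_congr (Equiv.subtypeEquivRight fun o => neg_mem_iff)
    have h3 : im b ≠ 0 := fun e => ha0 ((LinearEquiv.map_eq_zero_iff _).1 e)
    exact ⟨Finset.mem_filter.2 ⟨Finset.mem_univ _, h3, by omega⟩,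
      Finset.mem_filter.2 ⟨Finset.mem_univ _, neg_ne_zero.2 h3, by omega⟩⟩
  have himx : ∀ b, polar Q (im b) x = polar Q a x := fun b => by
    rw [him]
    simp only [siegel_apply hx (hxb b), polar_sub_left, polar_add_left, polar_smul_left, polar_comm (⇑Q) b.1 x,
      hxb, QuadraticMap.polar_self, hx, smul_zero, add_zero, sub_zero]
  have hinj : Function.Injective im := by
    intro b c h
    rw [him] at h
    simp only [siegel_apply hx (hxb b), siegel_apply hx (hxb c)] at h
    have h' : polar Q a x • (b.1 - c.1) =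
        ((polar Q a b.1 + Q b.1 * polar Q a x) - (polar Q a c.1 + Q c.1 * polar Q a x)) • x := by
      linear_combination (norm := module) h
    have h1 := congrArg (fun y => polar Q y x') h'
    simp only [polar_smul_left, polar_sub_left, hxx', polar_comm (⇑Q) b.1 x', polar_comm (⇑Q) c.1 x',
      b.2 x' (Submodule.subset_span ⟨1, rfl⟩), c.2 x' (Submodule.subset_span ⟨1, rfl⟩), sub_zero,
      smul_eq_mul, mul_one, mul_zero] at h1
    rw [← h1, zero_smul] at h'
    exact Subtype.ext (sub_eq_zero.1 ((smul_eq_zero.1 h').resolve_left hax))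
  have hTc : Nat.card T = Fintype.card F ^ (finrank F M - 2) := by
    rw [Module.natCard_eq_pow_finrank (K := F), Nat.card_eq_fintype_card,
      show finrank F T = finrank F M - 2 by omega]
  haveI := Fintype.ofFinite T
  rcases hY with hY | ⟨h2, hY⟩
  · have h := Finset.card_le_card (show Finset.univ.image im ⊆ N from fun b hb => by
      obtain ⟨c, -, rfl⟩ := Finset.mem_image.1 hb
      exact (himN c).1)
    rw [Finset.card_image_of_injective _ hinj, Finset.card_univ, ← Nat.card_eq_fintype_card, hTc] at h
    omega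
  · have hdis : Disjoint (Finset.univ.image im) (Finset.univ.image fun b => -im b) := by
      rw [Finset.disjoint_left]
      intro m hm hm'
      obtain ⟨b, -, rfl⟩ := Finset.mem_image.1 hm
      obtain ⟨c, -, hc⟩ := Finset.mem_image.1 hm'
      have h := congrArg (fun y => polar Q y x) hc
      simp only [polar_neg_left, himx] at h
      exact hax ((mul_eq_zero.1 (show (2 : F) * polar Q a x = 0 by linear_combination -h)).resolve_left h2)
    have h := Finset.card_le_card (show Finset.univ.image im ∪ (Finset.univ.image fun b => -im b) ⊆ N from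
      fun b hb => by
        rcases Finset.mem_union.1 hb with hb | hb <;> obtain ⟨c, -, rfl⟩ := Finset.mem_image.1 hb
        · exact (himN c).1
        · exact (himN c).2)
    rw [Finset.card_union_of_disjoint hdis, Finset.card_image_of_injective _ hinj,
      Finset.card_image_of_injective (f := fun b : T => -im b) _ (neg_injective.comp hinj), Finset.card_univ,
      ← Nat.card_eq_fintype_card, hTc] at h
    omega

end general

variable {F : Type*} [Field F] [Fintype F] {W : Type*} [AddCommGroup W] [Module F W] [FiniteDimensional F W]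
  {Q : QuadraticForm F W} {hQ : (polarBilin Q).Nondegenerate} {hn : 5 ≤ finrank F W}

variable (hQ hn) in
/-- A Siegel element of `Ω(W)`. -/
noncomputable def sg (e a : W) : ↥(commutator (oGroup Q)) :=
  if h : Q e = 0 ∧ polar Q e a = 0 then ⟨siegel Q e a, siegel_mem_commutator hQ hn h.1 h.2⟩ else 1

theorem sg_val {e a : W} (he : Q e = 0) (hea : polar Q e a = 0) : (sg hQ hn e a).1 = siegel Q e a := by
  rw [sg, dif_pos ⟨he, hea⟩]

theorem sg_add {e a b : W} (he : Q e = 0) (hea : polar Q e a = 0) (heb : polar Q e b = 0) :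
    sg hQ hn e a * sg hQ hn e b = sg hQ hn e (a + b) := by
  refine Subtype.ext ?_
  rw [Subgroup.coe_mul, sg_val he hea, sg_val he heb, sg_val he (by rw [polar_add_right, hea, heb, add_zero]),
    siegel_mul he hea heb]

theorem sg_apply {e a : W} (he : Q e = 0) (hea : polar Q e a = 0) (x : W) :
    (sg hQ hn e a).1.1 x = x + polar Q x e • a - (polar Q x a + Q a * polar Q x e) • e := by
  rw [sg_val he hea, siegel_apply he hea]

variable {X : Type*} [MulAction (OG Q) X] [Finite X] {ψ : AddChar F ℂ} (hψ : ψ ≠ 0)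
include hψ

theorem sg_fix_singular (hsmall : IsSmall Q X) (hN : finrank F W = 5 → (2 : F) ≠ 0) {v : W} (hv0 : v ≠ 0) (hv : Q v = 0)
    {o : EOrb hQ hn X} (ho : v ∈ wt Q ψ o) {a : W} (hva : polar Q v a = 0) : sg hQ hn v a • o = o := by
  obtain ⟨v', hQv', hvv', hT, hTd⟩ := exists_partner hQ hv0 hv
  set T := perpS Q (Submodule.span F (Set.range ![v, v'])) with hTdef
  have hvt : ∀ t : T, polar Q v t.1 = 0 := fun t => t.2 v (Submodule.subset_span ⟨0, rfl⟩)
  have hsv : ∀ t : T, (sg hQ hn v t.1).1.1 v = v := fun t => by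
    rw [sg_apply hv (hvt t), QuadraticMap.polar_self, hv, hvt]
    simp
  letI : AddAction T {o : EOrb hQ hn X // v ∈ wt Q ψ o} :=
    { vadd := fun t o => ⟨sg hQ hn v t.1 • o.1, by
        have h := (mem_wt_smul hψ (sg hQ hn v t.1) o.1 v).2 o.2
        rwa [hsv] at h⟩
      zero_vadd := fun o => Subtype.ext (by
        change sg hQ hn v 0 • o.1 = o.1
        rw [show sg hQ hn v 0 = 1 from Subtype.ext (by rw [sg_val hv (polar_zero_right Q v), siegel_zero hv]; rfl),
          one_smul])
      add_vadd := fun s t o => Subtype.ext (by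
        change sg hQ hn v (s.1 + t.1) • o.1 = sg hQ hn v s.1 • sg hQ hn v t.1 • o.1
        rw [← sg_add hv (hvt s) (hvt t), mul_smul]) }
  have hTdim : finrank F T = finrank F W - 2 := by omega
  have htriv : ∀ (t : T) (o : {o : EOrb hQ hn X // v ∈ wt Q ψ o}), t +ᵥ o = o := by
    refine trivial_of_small hT hψ (by omega) (fun x b hx hxb => ?_) ?_
    · have hx' : Q x.1 = 0 := hx
      have hxb' : polar Q x.1 b.1 = 0 := hxb
      set g := sg hQ hn x.1 b.1
      have hgv : g.1.1 v = v := by
        rw [sg_apply hx' hxb', polar_comm (⇑Q) v x.1, polar_comm (⇑Q) v b.1, polar_comm (⇑Q) x.1 v,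
          polar_comm (⇑Q) b.1 v, hvt, hvt]
        simp
      refine ⟨⟨fun o => ⟨g • o.1, by have h := (mem_wt_smul hψ g o.1 v).2 o.2; rwa [hgv] at h⟩,
        fun o => ⟨g⁻¹ • o.1, by
          have h := mem_wt_smul hψ g (g⁻¹ • o.1) v
          rw [smul_inv_smul, hgv] at h
          exact h.1 o.2⟩, fun o => Subtype.ext (inv_smul_smul g o.1), fun o => Subtype.ext (smul_inv_smul g o.1)⟩,
        fun w o => Subtype.ext ?_⟩
      change g • sg hQ hn v w.1 • o.1 = sg hQ hn v ((siegel (resQ Q T) x b).1 w).1 • g • o.1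
      have hval : ((siegel (resQ Q T) x b).1 w).1 = g.1.1 w.1 := by
        rw [siegel_apply hx hxb, sg_apply hx' hxb']
        rfl
      rw [← mul_smul, ← mul_smul]
      congr 1
      have hgw : polar Q v (g.1.1 w.1) = 0 := by
        conv_lhs => rw [← hgv]
        rw [polar_oGroup, hvt]
      refine Subtype.ext ?_
      rw [Subgroup.coe_mul, Subgroup.coe_mul, hval, sg_val hv (hvt w), sg_val hv hgw]
      have h := siegel_conj g.1 hv (hvt w)
      rw [hgv] at h
      rw [← h, inv_mul_cancel_right]
    · have hr : Nat.card {o : EOrb hQ hn X // v ∈ wt Q ψ o} = nwt (Y := EX hQ hn X) Q ψ v := rfl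
      have hq := Fintype.one_lt_card (α := F)
      rw [hr, hTdim]
      by_cases h5 : finrank F W = 5
      · refine Or.inr ⟨hN h5, ?_⟩
        have h3 : 3 ≤ Fintype.card F := by
          by_contra hc
          apply hN h5
          have h2 : Fintype.card F = 2 := by omega
          have := Nat.cast_card_eq_zero F
          rwa [h2] at this
        have := nwt_singular_le' (X := X) (hQ := hQ) (hn := hn) hψ hsmall h3 hv0 hv
        rw [h5, show 5 - 2 - 2 = 1 by omega, pow_one]
        omega
      · left
        have := nwt_singular_le (X := X) (hQ := hQ) (hn := hn) hψ hsmall hv0 hv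
        have h2 : Fintype.card F ^ 2 ≤ Fintype.card F ^ (finrank F W - 2 - 2) :=
          Nat.pow_le_pow_right (by omega) (by omega)
        nlinarith
  -- reduce to the complement of the pair
  set t := a + (-(polar Q v' a)) • v
  have htT : t ∈ T := fun y hy => by
    obtain ⟨c, rfl⟩ := (Submodule.mem_span_range_iff_exists_fun F).1 hy
    simp [t, Fin.sum_univ_two, polar_add_left, polar_smul_left, polar_add_right, polar_smul_right, hva,
      QuadraticMap.polar_self, hv, polar_comm (⇑Q) v' v, hvv']
    ring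
  have h := congrArg Subtype.val (htriv ⟨t, htT⟩ ⟨o, ho⟩)
  change sg hQ hn v t • o = o at h
  rwa [show sg hQ hn v t = sg hQ hn v a from Subtype.ext (by
    rw [sg_val hv (hvt ⟨t, htT⟩), sg_val hv hva, siegel_add_smul hv hva])] at h

omit hψ in
/-- A permutation whose order divides a prime exceeding the number of points is trivial. -/
theorem perm_eq_one_of_small {α : Type*} [Finite α] {p : ℕ} [Fact p.Prime] (π : Equiv.Perm α) (h : π ^ p = 1)
    (hc : Nat.card α < p) : π = 1 := by
  haveI := Fintype.ofFinite α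
  rcases (Nat.dvd_prime (Fact.out : p.Prime)).1 (orderOf_dvd_of_pow_eq_one h) with h1 | h1
  · exact orderOf_eq_one_iff.1 h1
  · have h2 : p ∣ (Nat.card α).factorial := by
      rw [← h1, ← Nat.card_perm]
      exact orderOf_dvd_natCard π
    exact absurd ((Fact.out : p.Prime).dvd_factorial.1 h2) (by omega)

/-- Siegel elements fixing a non-singular weight fix the orbits carrying it, for fields of at least four elements. -/
theorem sg_fix_ns (hsmall : IsSmall Q X) (h4 : 4 ≤ Fintype.card F) {v : W} (hv : Q v ≠ 0) {o : EOrb hQ hn X}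
    (ho : v ∈ wt Q ψ o) {z x : W} (hz : Q z = 0) (hzx : polar Q z x = 0) (hvz : polar Q v z = 0)
    (hvx : polar Q v x = 0) : sg hQ hn z x • o = o := by
  obtain ⟨p, hchar⟩ := CharP.exists F
  have hp : p.Prime := (CharP.char_is_prime_or_zero F p).resolve_right fun e => by
    subst e
    haveI : CharZero F := CharP.charP_to_charZero F
    exact not_finite F
  haveI : Fact p.Prime := ⟨hp⟩
  set g := sg hQ hn z x
  have hgv : g.1.1 v = v := by rw [sg_apply hz hzx, hvz, hvx]; simp
  have hmem : ∀ o : EOrb hQ hn X, v ∈ wt Q ψ (g • o) ↔ v ∈ wt Q ψ o := fun o => by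
    have h := mem_wt_smul hψ g o v
    rwa [hgv] at h
  let π : Equiv.Perm {o : EOrb hQ hn X // v ∈ wt Q ψ o} :=
    (MulAction.toPerm g).subtypePerm fun o => hmem o
  have hpow : ∀ (k : ℕ) (o : {o : EOrb hQ hn X // v ∈ wt Q ψ o}), ((π ^ k) o).1 = sg hQ hn z (k • x) • o.1 := by
    intro k
    induction k with
    | zero =>
      intro o
      rw [zero_smul, show sg hQ hn z (0 : W) = 1 from Subtype.ext (by
        rw [sg_val hz (polar_zero_right Q z), siegel_zero hz]; rfl), one_smul]
      rfl
    | succ k ih =>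
      intro o
      rw [pow_succ, Equiv.Perm.mul_apply, ih, succ_nsmul]
      change sg hQ hn z (k • x) • g • o.1 = _
      have hk : polar Q z (k • x) = 0 := by
        rw [← Nat.cast_smul_eq_nsmul F, polar_smul_right, hzx, smul_zero]
      rw [← mul_smul, sg_add hz hk hzx]
  have hπp : π ^ p = 1 := Equiv.ext fun o => Subtype.ext (by
    rw [hpow, show p • x = 0 by rw [← Nat.cast_smul_eq_nsmul F, CharP.cast_eq_zero, zero_smul],
      show sg hQ hn z (0 : W) = 1 from Subtype.ext (by
        rw [sg_val hz (polar_zero_right Q z), siegel_zero hz]; rfl), one_smul]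
    rfl)
  have hcard : Nat.card {o : EOrb hQ hn X // v ∈ wt Q ψ o} < p := by
    set q := Fintype.card F with hqdef
    change nwt (Y := EX hQ hn X) Q ψ v < p
    set r := nwt (Y := EX hQ hn X) Q ψ v with hr
    by_cases h2 : p = 2
    · subst h2
      by_contra hc
      push Not at hc
      have hb := nwt_ns_bound (X := X) (hQ := hQ) (hn := hn) hψ hsmall hv (Finset.univ.erase 0) fun c hc => by
        obtain ⟨s, hs⟩ := (frobeniusEquiv F 2).surjective c
        rw [frobeniusEquiv_apply, frobenius_def, pow_two] at hs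
        exact ⟨s, fun e => Finset.ne_of_mem_erase hc (by rw [← hs, e, mul_zero]), hs.symm⟩
      rw [Finset.card_erase_of_mem (Finset.mem_univ _), Finset.card_univ, ← hqdef, ← hr] at hb
      obtain ⟨j, hj⟩ : ∃ j, q = j + 4 := ⟨q - 4, by omega⟩
      obtain ⟨r', hr'⟩ : ∃ r', r = r' + 2 := ⟨r - 2, by omega⟩
      rw [hj, hr', show j + 4 - 1 = j + 3 by omega, show (j + 4) ^ 2 - 1 = (j + 5) * (j + 3) by
        rw [show (j + 4) ^ 2 = (j + 5) * (j + 3) + 1 by ring, Nat.add_sub_cancel]] at hb
      nlinarith [Nat.zero_le (r' * ((j + 3) * (j + 3) * ((j + 5) * (j + 3)))), Nat.zero_le (j * j * j * j)]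
    · have h2' : (2 : F) ≠ 0 := by
        intro h
        have := (CharP.cast_eq_zero_iff F p 2).1 (by exact_mod_cast h)
        exact h2 ((Nat.prime_dvd_prime_iff_eq hp Nat.prime_two).1 this)
      obtain ⟨f, -, hf⟩ := FiniteField.card F p
      have hb := nwt_ns_bound (X := X) (hQ := hQ) (hn := hn) hψ hsmall hv
        ((Finset.univ.erase 0).image fun s => s * s) fun c hc => by
          obtain ⟨s, hs, rfl⟩ := Finset.mem_image.1 hc
          exact ⟨s, Finset.ne_of_mem_erase hs, rfl⟩
      rw [← hqdef, ← hr] at hb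
      have hS : q - 1 ≤ 2 * ((Finset.univ.erase (0 : F)).image fun s => s * s).card := by
        rw [hqdef, ← Finset.card_univ, ← Finset.card_erase_of_mem (Finset.mem_univ (0 : F))]
        refine Finset.card_le_mul_card_image _ 2 fun c _ => ?_
        rcases (Finset.filter (fun s => s * s = c) (Finset.univ.erase (0 : F))).eq_empty_or_nonempty with he | ⟨s, hs⟩
        · rw [he]; simp
        · refine le_trans (Finset.card_le_card (t := ({s, -s} : Finset F)) fun t ht => ?_) Finset.card_le_two
          rw [Finset.mem_filter] at hs ht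
          rcases mul_self_eq_mul_self_iff.1 (ht.2.trans hs.2.symm) with h | h <;> simp [h]
      set σ := ((Finset.univ.erase (0 : F)).image fun s => s * s).card
      have hp3 : 3 ≤ p := by have := hp.two_le; omega
      have hq9 : p = 3 → 9 ≤ q := by
        intro h3
        subst h3
        rcases Nat.lt_or_ge (f : ℕ) 2 with hf2 | hf2
        · have : (f : ℕ) = 1 := by have := f.pos; omega
          rw [this, pow_one] at hf
          omega
        · rw [hqdef, hf]
          exact le_trans (by norm_num) (Nat.pow_le_pow_right (by norm_num : 1 ≤ 3) hf2)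
      have hp5 : p ≠ 3 → 5 ≤ p := fun h => by
        have h4' : p ≠ 4 := fun e => by subst e; norm_num at hp
        omega
      have hq5 : 5 ≤ q := by
        by_cases h3 : p = 3
        · have := hq9 h3; omega
        · have hpq : p ≤ q := by
            rw [hqdef, hf]
            exact le_trans (le_of_eq (pow_one p).symm) (Nat.pow_le_pow_right hp.pos f.pos)
          have := hp5 h3
          omega
      obtain ⟨j, hj⟩ : ∃ j, q = j + 5 := ⟨q - 5, by omega⟩
      rw [hj, show j + 5 - 1 = j + 4 by omega, show (j + 5) ^ 2 - 1 = (j + 6) * (j + 4) by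
        rw [show (j + 5) ^ 2 = (j + 6) * (j + 4) + 1 by ring, Nat.add_sub_cancel]] at hb
      rw [hj, show j + 5 - 1 = j + 4 by omega] at hS
      have h1 : r * (j + 4) * ((j + 4) * ((j + 6) * (j + 4))) + 2 * (j + 5) <
          2 * ((j + 5) ^ 4 + (j + 5) ^ 2) := by
        have := Nat.mul_le_mul_left (r * ((j + 4) * ((j + 6) * (j + 4)))) hS
        nlinarith
      by_contra hc
      push Not at hc
      by_cases h3 : p = 3
      · obtain ⟨k, hk⟩ : ∃ k, j = k + 4 := ⟨j - 4, by have := hq9 h3; omega⟩
        subst hk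
        have h6 := Nat.mul_le_mul_right ((k + 4 + 4) * ((k + 4 + 4) * ((k + 4 + 6) * (k + 4 + 4))))
          (show 3 ≤ r by omega)
        nlinarith [Nat.zero_le (k * k * k * k), Nat.zero_le (k * k * k)]
      · have h6 := Nat.mul_le_mul_right ((j + 4) * ((j + 4) * ((j + 6) * (j + 4))))
          (show 4 ≤ r by have := hp5 h3; omega)
        nlinarith [Nat.zero_le (j * j * j * j), Nat.zero_le (j * j * j)]
  have h := congrArg Subtype.val (Equiv.Perm.congr_fun (perm_eq_one_of_small π hπp hcard) ⟨o, ho⟩)
  exact h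

end CfsgLib.MinIdxOrth
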