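import Cfsg.Agent.MinIdxOrth.Small
import Cfsg.Agent.MinIdxOrth.Cover

/-!
A point fixed by a radical gives a totally singular subspace with few conjugates.
-/

set_option autoImplicit false
set_option linter.style.haveILetI false
set_option linter.unusedSectionVars false

namespace CfsgLib.MinIdxOrth

open QuadraticMap Module AddAction CfsgLib.Forms CfsgLib.Quad CfsgLib.MinDeg.Om
open scoped Classical

variable {F : Type*} [Field F] [Fintype F] {W : Type*} [AddCommGroup W] [Module F W] [FiniteDimensional F W]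
  {Q : QuadraticForm F W} {hQ : (polarBilin Q).Nondegenerate} {hn : 5 ≤ finrank F W}

theorem cover_arith (q a b : ℕ) (hq : 2 ≤ q) (hab : a ≤ b) (hb : 1 ≤ b) :
    q ^ (a + 2 + 1) - 1 ≤ (q - 1) * ((q ^ (b + 1) + 1) * (q ^ b + 1)) := by
  obtain ⟨k, rfl⟩ : ∃ k, q = k + 2 := ⟨q - 2, by omega⟩
  rw [show k + 2 - 1 = k + 1 by omega]
  refine (Nat.sub_le_iff_le_add).2 ?_
  rcases Nat.lt_or_ge (2 * b + 1) (a + 3) with h | h
  · obtain ⟨rfl, rfl⟩ : a = 1 ∧ b = 1 := by omega
    exact le_of_eq (by ring)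
  · have h1 : (k + 2) ^ (a + 2 + 1) ≤ (k + 2) ^ (2 * b + 1) := Nat.pow_le_pow_right (by omega) (by omega)
    have h2 : (k + 2) ^ (2 * b + 1) ≤ (k + 1) * (((k + 2) ^ (b + 1) + 1) * ((k + 2) ^ b + 1)) := by
      refine le_trans ?_ (Nat.le_mul_of_pos_left _ (by omega))
      rw [show 2 * b + 1 = b + 1 + b by omega, pow_add]
      exact Nat.mul_le_mul (Nat.le_succ _) (Nat.le_succ _)
    omega

omit [FiniteDimensional F W] in
theorem nz_hypSum [Finite W] (Q : QuadraticForm F W) :
    (Nat.card {p : (F × F) × W // hypSum Q p = 0} : ℤ) =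
      ((Fintype.card F : ℤ) - 1) * Nat.card W + Fintype.card F * ((nz Q 0 : ℤ) + 1) := by
  rw [card_zero_hypSum Q Nat.card_eq_fintype_card, card_zero_eq]
  push_cast
  ring

/-- The non-zero singular vectors of `H ⊕ W`. -/
theorem nz_hypSum_eq (Q : QuadraticForm F W) :
    nz (hypSum Q) 0 = (Fintype.card F - 1) * (Fintype.card F ^ finrank F W + 1) + Fintype.card F * nz Q 0 := by
  haveI : Finite W := Module.finite_of_finite F
  have h := nz_hypSum Q
  rw [card_zero_eq, Module.natCard_eq_pow_finrank (K := F) (V := W), Nat.card_eq_fintype_card] at h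
  have h1 : 1 ≤ Fintype.card F := Fintype.card_pos
  zify [h1]
  push_cast at h ⊢
  linear_combination h

variable (hQ hn) in
/-- A Siegel element of `Ω(H ⊕ W)`. -/
noncomputable def sgV {e a : (F × F) × W} (he : hypSum Q e = 0) (hea : polar (hypSum Q) e a = 0) : OG Q :=
  ⟨siegel (hypSum Q) e a, siegel_mem_commutator (hypSum_nondeg hQ) (by rw [finrank_hyp]; omega) he hea⟩

variable {X : Type*} [MulAction (OG Q) X]

variable (hQ hn) in
/-- The singular vectors whose radical fixes a point. -/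
def fixS (ω : X) : Set ((F × F) × W) :=
  {e | ∃ he : hypSum Q e = 0, ∀ a, ∀ hea : polar (hypSum Q) e a = 0, sgV hQ hn he hea • ω = ω}

theorem smul_mem_fixS {ω : X} {e : (F × F) × W} (he : e ∈ fixS hQ hn ω) (t : F) : t • e ∈ fixS hQ hn ω := by
  obtain ⟨he0, hfix⟩ := he
  rcases eq_or_ne t 0 with rfl | ht
  · refine ⟨by simp, fun a ha => ?_⟩
    rw [show sgV hQ hn (e := (0 : F) • e) _ ha = 1 from Subtype.ext (Subtype.ext (LinearEquiv.ext fun x => by
      change (siegel (hypSum Q) ((0 : F) • e) a).1 x = x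
      rw [siegel_apply (by simp) (by simp)]
      simp)), one_smul]
  refine ⟨by rw [quad_smul, he0, mul_zero], fun a ha => ?_⟩
  rw [polar_smul_left, smul_eq_mul, mul_eq_zero, or_iff_right ht] at ha
  have hta : polar (hypSum Q) e (t • a) = 0 := by rw [polar_smul_right, ha, smul_zero]
  conv_rhs => rw [← hfix _ hta]
  congr 1
  exact Subtype.ext (siegel_smul he0 ha t)

theorem fixS_smul (g : OG Q) {ω : X} {e : (F × F) × W} (he : e ∈ fixS hQ hn ω) :
    g.1.1 e ∈ fixS hQ hn (g • ω) := by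
  obtain ⟨he0, hfix⟩ := he
  refine ⟨by rw [g.1.2, he0], fun a ha => ?_⟩
  have ha' : polar (hypSum Q) e (g.1.1.symm a) = 0 := by
    rw [← polar_oGroup g.1, LinearEquiv.apply_symm_apply, ha]
  conv_rhs => rw [← hfix _ ha']
  rw [← mul_smul, ← mul_smul]
  congr 1
  refine Subtype.ext ?_
  rw [Subgroup.coe_mul, Subgroup.coe_mul]
  change siegel (hypSum Q) (g.1.1 e) a * g.1 = g.1 * siegel (hypSum Q) e (g.1.1.symm a)
  have h := siegel_conj g.1 he0 ha'
  rw [LinearEquiv.apply_symm_apply] at h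
  rw [← h, inv_mul_cancel_right]

variable (hQ hn) in
/-- The span of the singular vectors whose radical fixes a point. -/
noncomputable def fixU (ω : X) : Submodule F ((F × F) × W) := Submodule.span F (fixS hQ hn ω)

theorem fixU_smul_le (g : OG Q) (ω : X) : (fixU hQ hn ω).map g.1.1.toLinearMap ≤ fixU hQ hn (g • ω) := by
  rw [fixU, Submodule.map_span]
  refine Submodule.span_mono ?_
  rintro _ ⟨e, he, rfl⟩
  exact fixS_smul g he

theorem fixU_smul (g : OG Q) (ω : X) : (fixU hQ hn ω).map g.1.1.toLinearMap = fixU hQ hn (g • ω) := by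
  refine le_antisymm (fixU_smul_le g ω) ?_
  intro x hx
  have h := fixU_smul_le g⁻¹ (g • ω) ⟨x, hx, rfl⟩
  rw [inv_smul_smul] at h
  exact ⟨_, h, g.1.1.apply_symm_apply x⟩

theorem fixS_orth [Nontrivial X] [MulAction.IsPretransitive (OG Q) X] {ω : X} {e f : (F × F) × W}
    (he : e ∈ fixS hQ hn ω) (hf : f ∈ fixS hQ hn ω) : polar (hypSum Q) e f = 0 := by
  by_contra hne
  have hn' : 5 ≤ finrank F ((F × F) × W) := by rw [finrank_hyp]; omega
  have hnd := hypSum_nondeg hQ
  -- vectors not orthogonal to a member belong to the set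
  have key : ∀ e f w : (F × F) × W, e ∈ fixS hQ hn ω → f ∈ fixS hQ hn ω → polar (hypSum Q) e f ≠ 0 →
      hypSum Q w = 0 → polar (hypSum Q) e w ≠ 0 → w ∈ fixS hQ hn ω := by
    intro e f w he hf hef hw hew
    obtain ⟨he0, hfix⟩ := he
    have hf0 := hf.choose
    set v1 := (polar (hypSum Q) e f)⁻¹ • f with hv1
    set w1 := (polar (hypSum Q) e w)⁻¹ • w with hw1
    have huv1 : polar (hypSum Q) e v1 = 1 := by rw [hv1, polar_smul_right, smul_eq_mul, inv_mul_cancel₀ hef]
    have huw1 : polar (hypSum Q) e w1 = 1 := by rw [hw1, polar_smul_right, smul_eq_mul, inv_mul_cancel₀ hew]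
    have hQv1 : hypSum Q v1 = 0 := by rw [hv1, quad_smul, hf0, mul_zero]
    have hQw1 : hypSum Q w1 = 0 := by rw [hw1, quad_smul, hw, mul_zero]
    set a := w1 - v1 with ha
    have hea : polar (hypSum Q) e a = 0 := by rw [ha, polar_sub_right, huv1, huw1, sub_self]
    have hsum : polar (hypSum Q) v1 a + hypSum Q a = 0 := by
      have h := quad_add (hypSum Q) v1 a
      rw [ha, add_sub_cancel, hQv1, hQw1] at h
      linear_combination -h
    have h1 : (sgV hQ hn he0 hea).1.1 v1 = w1 := by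
      change (siegel (hypSum Q) e a).1 v1 = w1
      rw [siegel_apply he0 hea, polar_comm (⇑(hypSum Q)) v1 e, huv1, mul_one, hsum, ha]
      module
    have h2 : v1 ∈ fixS hQ hn ω := smul_mem_fixS hf _
    have h3 := fixS_smul (sgV hQ hn he0 hea) h2
    rw [h1, hfix a hea] at h3
    have h4 := smul_mem_fixS h3 (polar (hypSum Q) e w)
    rwa [hw1, smul_smul, mul_inv_cancel₀ hew, one_smul] at h4
  have he' : e ≠ 0 := fun h => hne (by rw [h, polar_zero_left])
  have hall : ∀ w : (F × F) × W, w ≠ 0 → hypSum Q w = 0 → w ∈ fixS hQ hn ω := by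
    intro w hw0 hw
    obtain ⟨x, hx, hex, hwx⟩ := exists_common_nonorth hnd hn' he' hw0 he.choose hw
    exact key x e w (key e f x he hf hne hx hex) he (by rwa [polar_comm]) hw (by rwa [polar_comm])
  -- the whole group fixes the point
  obtain ⟨ω', hω'⟩ := exists_ne ω
  obtain ⟨g, hg⟩ := MulAction.exists_smul_eq (OG Q) ω ω'
  apply hω'
  rw [← hg]
  have hle : siegelGroup (hypSum Q) ≤
      (MulAction.stabilizer (OG Q) ω).map (commutator (oGroup (hypSum Q))).subtype := by
    refine (Subgroup.closure_le _).2 ?_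
    rintro _ ⟨u, a, hu, hua, rfl⟩
    rcases eq_or_ne u 0 with rfl | hu0
    · refine ⟨1, one_mem _, ?_⟩
      rw [map_one]
      exact (Subtype.ext (LinearEquiv.ext fun x => by rw [siegel_apply hu hua]; simp)).symm
    · exact ⟨sgV hQ hn hu hua, MulAction.mem_stabilizer_iff.2 ((hall u hu0 hu).choose_spec a hua), rfl⟩
  obtain ⟨x, hx, hxg⟩ := hle ((siegelGroup_eq_commutator hnd hn').symm ▸ g.2 : g.1 ∈ siegelGroup (hypSum Q))
  rw [show g = x from Subtype.ext hxg.symm]
  exact hx

theorem fixU_ts [Nontrivial X] [MulAction.IsPretransitive (OG Q) X] (ω : X) :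
    ∀ u ∈ fixU hQ hn ω, hypSum Q u = 0 := by
  have hs : ∀ u ∈ fixU hQ hn ω, ∀ e ∈ fixS hQ hn ω, polar (hypSum Q) u e = 0 := by
    intro u hu e he
    induction hu using Submodule.span_induction with
    | mem u hu => exact fixS_orth hu he
    | zero => exact polar_zero_left _ _
    | add u v _ _ h1 h2 => rw [polar_add_left, h1, h2, add_zero]
    | smul t u _ h => rw [polar_smul_left, h, smul_zero]
  intro u hu
  induction hu using Submodule.span_induction with
  | mem u hu => exact hu.choose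
  | zero => exact QuadraticMap.map_zero _
  | add u v hu hv h1 h2 =>
    rw [quad_add, h1, h2]
    have : ∀ x ∈ fixU hQ hn ω, polar (hypSum Q) u x = 0 := fun x hx => by
      induction hx using Submodule.span_induction with
      | mem x hx => exact hs u hu x hx
      | zero => exact polar_zero_right _ _
      | add x y _ _ h1 h2 => rw [polar_add_right, h1, h2, add_zero]
      | smul t x _ h => rw [polar_smul_right, h, smul_zero]
    rw [this v hv, add_zero, add_zero]
  | smul t u _ h => rw [quad_smul, h, mul_zero]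

variable [Finite X] [Nontrivial X] [MulAction.IsPretransitive (OG Q) X]

/-- On a small set the radical has no fixed point. -/
theorem not_fixed (hQ : (polarBilin Q).Nondegenerate) (hn : 5 ≤ finrank F W) (hsmall : IsSmall Q X) (ω : X)
    (hω : ∀ w : W, eH hQ hn w • ω = ω) : False := by
  haveI : Finite W := Module.finite_of_finite F
  haveI : Finite ((F × F) × W) := inferInstance
  haveI : Finite (Submodule F ((F × F) × W)) := Finite.of_injective _ SetLike.coe_injective
  haveI : Finite (Submodule F W) := Finite.of_injective _ SetLike.coe_injective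
  set q := Fintype.card F with hq
  have hnd := hypSum_nondeg hQ
  have hn' : 5 ≤ finrank F ((F × F) × W) := by rw [finrank_hyp]; omega
  have he0 : (e₀ : (F × F) × W) ∈ fixS hQ hn ω := by
    refine ⟨hyp_e₀, fun a ha => ?_⟩
    have h2 : a.1.2 = 0 := by
      have h := ha
      rw [hypSum_polar] at h
      simpa [e₀] using h
    have had : a = emb a.2 + a.1.1 • e₀ := by
      refine Prod.ext (Prod.ext ?_ ?_) ?_ <;> simp [emb, e₀, h2]
    conv_rhs => rw [← hω a.2]
    congr 1
    refine Subtype.ext ?_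
    change siegel (hypSum Q) e₀ a = siegel (hypSum Q) e₀ (emb a.2)
    conv_lhs => rw [had]
    exact siegel_add_smul hyp_e₀ (polar_e₀_emb _) _
  set j := finrank F (fixU hQ hn ω) with hj
  let 𝒱 : Set (Submodule F ((F × F) × W)) := Set.range fun x : X => fixU hQ hn x
  have hdimV : ∀ U ∈ 𝒱, finrank F U = j := by
    rintro _ ⟨x, rfl⟩
    obtain ⟨g, rfl⟩ := MulAction.exists_smul_eq (OG Q) ω x
    change finrank F (fixU hQ hn (g • ω)) = j
    rw [← fixU_smul, LinearEquiv.finrank_map_eq]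
  have htsV : ∀ U ∈ 𝒱, ∀ u ∈ U, hypSum Q u = 0 := by
    rintro _ ⟨x, rfl⟩; exact fixU_ts x
  have hinvV : ∀ g : OG Q, ∀ U ∈ 𝒱, U.map g.1.1.toLinearMap ∈ 𝒱 := by
    rintro g _ ⟨x, rfl⟩; exact ⟨g • x, (fixU_smul g x).symm⟩
  have hneV : 𝒱.Nonempty := ⟨_, ω, rfl⟩
  have he₀ : (e₀ : (F × F) × W) ≠ 0 := fun e => one_ne_zero (congrArg (fun p => p.1.1) e)
  have hj1 : 1 ≤ j := by
    have := Submodule.finrank_mono ((Submodule.span_singleton_le_iff_mem _ _).2
      (Submodule.subset_span he0 : (e₀ : (F × F) × W) ∈ fixU hQ hn ω))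
    rwa [finrank_span_singleton he₀] at this
  set c := Nat.card {U : Submodule F ((F × F) × W) // U ∈ 𝒱 ∧ e₀ ∈ U}
  -- every singular vector lies in equally many members
  have hconst : ∀ v : (F × F) × W, v ≠ 0 → hypSum Q v = 0 →
      c ≤ Nat.card {U : Submodule F ((F × F) × W) // U ∈ 𝒱 ∧ v ∈ U} := by
    intro v hv0 hv
    haveI := isPretransitive_spt hnd hn'
    obtain ⟨g, hg⟩ := MulAction.exists_smul_eq (OG Q) (spt (e₀ : (F × F) × W) he₀ hyp_e₀) (spt v hv0 hv)
    rw [smul_spt, spt_eq_iff] at hg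
    obtain ⟨t, ht⟩ := hg
    have ht0 : t ≠ 0 := fun e => iso_ne_zero g.1 he₀ (by rw [← ht, e, zero_smul])
    refine Nat.card_le_card_of_injective (fun U => ⟨U.1.map g.1.1.toLinearMap, hinvV g _ U.2.1,
      t⁻¹ • e₀, U.1.smul_mem _ U.2.2, ?_⟩) fun U U' h => Subtype.ext ?_
    · rw [LinearEquiv.coe_coe, map_smul, ← ht, smul_smul, inv_mul_cancel₀ ht0, one_smul]
    · exact Submodule.map_injective_of_injective g.1.1.injective (congrArg Subtype.val h)
  -- the members through `e₀` seen in `W`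
  let sndL : (F × F) × W →ₗ[F] W := LinearMap.snd F (F × F) W
  set 𝒲 : Set (Submodule F W) := (fun U => U.map sndL) '' {U | U ∈ 𝒱 ∧ e₀ ∈ U} with h𝒲
  have hcW : Nat.card 𝒲 ≤ c := by
    rw [Nat.card_coe_set_eq, h𝒲]
    exact (Set.ncard_image_le (Set.toFinite _)).trans (le_of_eq (Nat.card_coe_set_eq _).symm)
  have hperp : ∀ U ∈ 𝒱, e₀ ∈ U → ∀ x ∈ U, x.1.2 = (0 : F) := fun U hU he x hx => by
    have h := ts_polar (htsV U hU) he hx
    rw [hypSum_polar] at h
    simpa [e₀] using h
  have htsW : ∀ U ∈ 𝒲, ∀ u ∈ U, Q u = 0 := by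
    rintro _ ⟨U, ⟨hU, he⟩, rfl⟩ _ ⟨x, hx, rfl⟩
    have h := htsV U hU x hx
    rw [hypSum_apply, hperp U hU he x hx, mul_zero, zero_add] at h
    exact h
  have hdimW : ∀ U ∈ 𝒲, finrank F U = j - 1 := by
    rintro _ ⟨U, ⟨hU, he⟩, rfl⟩
    change finrank F (U.map sndL) = j - 1
    have h := (sndL.domRestrict U).finrank_range_add_finrank_ker
    rw [LinearMap.range_domRestrict, hdimV U hU,
      show LinearMap.ker (sndL.domRestrict U) = Submodule.span F {(⟨e₀, he⟩ : U)} from le_antisymm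
        (fun x hx => Submodule.mem_span_singleton.2 ⟨x.1.1.1, Subtype.ext (Prod.ext (Prod.ext
          (by simp [e₀]) (by simp [e₀, hperp U hU he x.1 x.2]))
          (by rw [LinearMap.mem_ker] at hx; simpa [e₀, sndL] using hx.symm))⟩)
        (by rw [Submodule.span_singleton_le_iff_mem, LinearMap.mem_ker]; simp [sndL, e₀]),
      finrank_span_singleton (fun e => he₀ (congrArg Subtype.val e))] at h
    omega
  have hneW : 𝒲.Nonempty := ⟨_, _, ⟨⟨ω, rfl⟩, Submodule.subset_span he0⟩, rfl⟩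
  have hinvW : ∀ g : ↥(commutator (oGroup Q)), ∀ U ∈ 𝒲, U.map g.1.1.toLinearMap ∈ 𝒲 := by
    rintro g _ ⟨U, ⟨hU, he⟩, rfl⟩
    refine ⟨U.map (liftC Q g).1.1.toLinearMap, ⟨hinvV _ U hU, e₀, he, ?_⟩, ?_⟩
    · rw [LinearEquiv.coe_coe, liftC_e₀, one_smul]
    · change (U.map (liftC Q g).1.1.toLinearMap).map sndL = (U.map sndL).map g.1.1.toLinearMap
      rw [← Submodule.map_comp, ← Submodule.map_comp]
      rfl
  have hc : q ^ j - 1 ≤ (q - 1) * c := by
    refine le_trans ?_ (Nat.mul_le_mul_left _ hcW)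
    have hq2 : 2 ≤ q := Fintype.one_lt_card
    obtain ⟨i, hi⟩ : ∃ i, j = i + 1 := ⟨j - 1, by omega⟩
    have hdim' : ∀ U ∈ 𝒲, finrank F U = i := fun U hU => by rw [hdimW U hU, hi, Nat.add_sub_cancel]
    rw [hi]
    rcases Nat.lt_or_ge i 2 with hlt | h2
    · interval_cases i
      · haveI : Nonempty 𝒲 := hneW.to_subtype
        rw [pow_one]
        exact Nat.le_mul_of_pos_right _ Nat.card_pos
      · have h := count_family hQ hn htsW hdim' hneW hinvW le_rfl (k := 1) fun v hv0 hv => by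
          obtain ⟨U, hU, hvU⟩ := exists_member_mem hQ hn hdim' hneW hinvW le_rfl htsW hv0 hv
          haveI : Nonempty {U : Submodule F W // U ∈ 𝒲 ∧ v ∈ U} := ⟨⟨U, hU, hvU⟩⟩
          exact Nat.card_pos
        rw [mul_one, pow_one, mul_comm] at h
        exact le_trans (le_trans (Nat.le_mul_of_pos_right _ (Nat.succ_pos _)) (nz_zero_lb hQ hn)) h
    · have h := family_large hQ hn htsW hdim' hneW hinvW h2
      have hNi : 2 * i ≤ finrank F W := by
        obtain ⟨U, hU⟩ := hneW
        have := finrank_ts_le hQ (htsW U hU)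
        rwa [hdim' U hU] at this
      refine le_trans ?_ (Nat.mul_le_mul_left _ h)
      obtain ⟨a, rfl⟩ : ∃ a, i = a + 2 := ⟨i - 2, by omega⟩
      obtain ⟨b, hb⟩ : ∃ b, finrank F W - (a + 2) - 2 = b := ⟨_, rfl⟩
      rw [hb, show finrank F W - (a + 2) - 1 = b + 1 by omega]
      exact cover_arith q a b hq2 (by omega) (by omega)
  have h1 := count_family hnd hn' htsV hdimV hneV hinvV hj1 hconst
  have h2 : Nat.card 𝒱 ≤ Nat.card X := Finite.card_range_le _
  rw [nz_hypSum_eq] at h1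
  set Z := (q - 1) * (q ^ finrank F W + 1) + q * nz Q 0
  have hpos : 0 < q ^ j - 1 := Nat.sub_pos_of_lt (Nat.one_lt_pow (by omega) Fintype.one_lt_card)
  have h3 : Z * (q ^ j - 1) ≤ (q - 1) * Nat.card X * (q ^ j - 1) :=
    calc Z * (q ^ j - 1) ≤ Z * ((q - 1) * c) := Nat.mul_le_mul_left _ hc
      _ = (q - 1) * (Z * c) := by ring
      _ ≤ (q - 1) * (Nat.card 𝒱 * (q ^ j - 1)) := Nat.mul_le_mul_left _ h1
      _ ≤ _ := by rw [← mul_assoc]; exact Nat.mul_le_mul_right _ (Nat.mul_le_mul_left _ h2)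
  exact absurd (Nat.le_of_mul_le_mul_right h3 hpos) (not_le.2 hsmall)

end CfsgLib.MinIdxOrth
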