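import Cfsg.Agent.MinIdxOrth.SmallField
import Cfsg.Agent.MinDeg.OmegaMain

/-!
Stabilisers of non-singular vectors and points, and the level counts used for the small fields.
-/

set_option autoImplicit false
set_option linter.style.haveILetI false
set_option linter.unusedSectionVars false

namespace CfsgLib.MinIdxOrth

open QuadraticMap Module CfsgLib.Forms CfsgLib.Quad CfsgLib.MinDeg.Om
open scoped Classical

variable {F : Type*} [Field F] [Fintype F] {W : Type*} [AddCommGroup W] [Module F W] [FiniteDimensional F W]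
  {Q : QuadraticForm F W} {ι : Type} [Fintype ι] [DecidableEq ι] (Qf : QuadraticForm F (ι → F))

theorem nz_eq_level {a : F} (ha : a ≠ 0) : nz Q a = Nat.card {v : W // Q v = a} :=
  Nat.card_congr (Equiv.subtypeEquivRight fun v =>
    ⟨And.right, fun h => ⟨fun e => ha (by rw [← h, e, QuadraticMap.map_zero]), h⟩⟩)

section transitive

variable (hQ : (polarBilin Q).Nondegenerate) (hn : 5 ≤ finrank F W) {a : F} (ha : a ≠ 0) {v₀ : (F × F) × W}
  (hv₀ : hypSum Q v₀ = a)
include hQ hn ha hv₀

theorem orbit_level : MulAction.orbit (OG Q) v₀ = {p | hypSum Q p = a} := by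
  ext p
  constructor
  · rintro ⟨g, rfl⟩
    exact (g.1.2 v₀).trans hv₀
  · intro hp
    have hn' : 5 ≤ finrank F ((F × F) × W) := by rw [finrank_hyp]; omega
    obtain ⟨h, hh, he⟩ := exists_siegel_apply_eq (hypSum_nondeg hQ) hn' (hv₀.trans hp.symm) (by rw [hv₀]; exact ha)
    exact ⟨⟨h, siegelGroup_le_commutator (hypSum_nondeg hQ) hn' hh⟩, he⟩

theorem index_stab_level :
    (MulAction.stabilizer (OG Q) v₀).index = Nat.card {p // hypSum Q p = a} := by
  rw [MulAction.index_stabilizer, orbit_level hQ hn ha hv₀, ← Nat.card_coe_set_eq]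
  rfl

theorem exists_index_level (h2 : (2 : F) = 0) (e : (ι → F) ≃ₗ[F] (F × F) × W)
    (he : ∀ v, hypSum Q (e v) = Qf v) :
    ∃ H : Subgroup (Cfsg.POmega F ⇑Qf), H.index = Nat.card {p // hypSum Q p = a} := by
  have hn' : 5 ≤ finrank F ((F × F) × W) := by rw [finrank_hyp]; omega
  refine ⟨(MulAction.stabilizer (OG Q) v₀).map (toP Qf e he), ?_⟩
  rw [Subgroup.index_map_eq _ (toP_surjective Qf e he) fun x hx => ?_, index_stab_level hQ hn ha hv₀]
  obtain ⟨c, hc2, hc⟩ := (center_iff (hypSum_nondeg hQ) hn' x).1 (ker_toP Qf e he hx)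
  have hc1 : c = 1 := by
    have h : (c - 1) * (c - 1) = 0 := by linear_combination hc2 + (1 - c) * h2
    exact sub_eq_zero.1 (mul_self_eq_zero.1 h)
  rw [MulAction.mem_stabilizer_iff]
  exact (hc v₀).trans (by rw [hc1, one_smul])

set_option synthInstance.maxHeartbeats 200000 in
theorem exists_index_pair (h2 : (2 : F) ≠ 0) (e : (ι → F) ≃ₗ[F] (F × F) × W)
    (he : ∀ v, hypSum Q (e v) = Qf v) :
    ∃ H : Subgroup (Cfsg.POmega F ⇑Qf), 2 * H.index = Nat.card {p // hypSum Q p = a} := by
  have hn' : 5 ≤ finrank F ((F × F) × W) := by rw [finrank_hyp]; omega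
  let K : Subgroup (OG Q) :=
    { carrier := {g | g • v₀ = v₀ ∨ g • v₀ = -v₀}
      one_mem' := Or.inl (one_smul _ v₀)
      mul_mem' := fun {g g'} hg hg' => by
        have hneg : ∀ (k : OG Q) (p : (F × F) × W), k • (-p) = -(k • p) := fun k p => map_neg k.1.1 p
        change (g * g') • v₀ = v₀ ∨ (g * g') • v₀ = -v₀
        rw [mul_smul]
        rcases hg' with h' | h' <;> rw [h']
        · exact hg
        · rw [hneg]
          rcases hg with h | h <;> rw [h]
          · exact Or.inr rfl
          · exact Or.inl (neg_neg _)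
      inv_mem' := fun {g} hg => by
        have hneg : ∀ (k : OG Q) (p : (F × F) × W), k • (-p) = -(k • p) := fun k p => map_neg k.1.1 p
        rcases hg with h | h
        · exact Or.inl (inv_smul_eq_iff.2 h.symm)
        · exact Or.inr (inv_smul_eq_iff.2 (by rw [hneg, h, neg_neg])) }
  have hle : MulAction.stabilizer (OG Q) v₀ ≤ K := fun g hg => Or.inl hg
  have hne : v₀ ≠ -v₀ := fun h => by
    have h' : (2 : F) • v₀ = 0 := by rw [two_smul]; exact add_eq_zero_iff_eq_neg.2 h
    exact ha (by rw [← hv₀, (smul_eq_zero.1 h').resolve_left h2, QuadraticMap.map_zero])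
  have horb : MulAction.orbit K v₀ = {v₀, -v₀} := by
    ext p
    constructor
    · rintro ⟨g, rfl⟩
      exact g.2.imp id id
    · rintro (rfl | rfl)
      · exact MulAction.mem_orbit_self _
      · have hm : -v₀ ∈ MulAction.orbit (OG Q) v₀ := by
          rw [orbit_level hQ hn ha hv₀, Set.mem_setOf_eq, QuadraticMap.map_neg, hv₀]
        obtain ⟨g, hg⟩ := hm
        exact ⟨⟨g, Or.inr hg⟩, hg⟩
  have hrel : (MulAction.stabilizer (OG Q) v₀).relIndex K = 2 := by
    rw [show (MulAction.stabilizer (OG Q) v₀).relIndex K = (MulAction.stabilizer K v₀).index from rfl,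
      MulAction.index_stabilizer, horb, Set.ncard_pair hne]
  refine ⟨K.map (toP Qf e he), ?_⟩
  rw [Subgroup.index_map_eq _ (toP_surjective Qf e he) fun x hx => ?_, ← index_stab_level hQ hn ha hv₀, ← hrel,
    Subgroup.relIndex_mul_index hle]
  obtain ⟨c, hc2, hc⟩ := (center_iff (hypSum_nondeg hQ) hn' x).1 (ker_toP Qf e he hx)
  rcases mul_self_eq_one_iff.1 hc2 with rfl | rfl
  · exact Or.inl ((hc v₀).trans (one_smul _ _))
  · exact Or.inr ((hc v₀).trans (neg_one_smul _ _))

end transitive

theorem exists_of_level_pos {a : F} (h : 0 < Nat.card {p // hypSum Q p = a}) : ∃ p, hypSum Q p = a := by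
  obtain ⟨⟨p, hp⟩⟩ := (Nat.card_pos_iff.1 h).1
  exact ⟨p, hp⟩

theorem three_levels (h3 : Fintype.card F = 3) {a : F} (ha : a ≠ 0) : a = 1 ∨ a = -1 :=
  (scalar_nat (Or.inr h3) a).resolve_left ha

/-- The levels of the form in odd dimension over three elements. -/
theorem level_odd_three (h3 : Fintype.card F = 3) : ∀ m : ℕ,
    (Nat.card {v // oddQ (F := F) m v = -1} : ℤ) = 3 ^ m * (3 ^ m - 1) ∧
    (Nat.card {v // oddQ (F := F) m v = 1} : ℤ) = 3 ^ m * (3 ^ m + 1) := by
  intro m
  induction m with
  | zero =>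
    let E : (Unit ⊕ (Fin 0 ⊕ Fin 0) → F) ≃ F :=
      { toFun := fun v => v (.inl ())
        invFun := fun x => fun _ => x
        left_inv := fun v => by
          funext i
          rcases i with u | i
          · rfl
          · rcases i with i | i <;> exact i.elim0
        right_inv := fun x => rfl }
    have hE : ∀ v, oddQ (F := F) 0 v = E v * E v := fun v => by
      rw [oddQ_coe]; simp [Cfsg.quadFormOdd, E, pow_two]
    have hc : ∀ a : F, Nat.card {v // oddQ (F := F) 0 v = a} = Nat.card {x : F // x * x = a} := fun a =>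
      Nat.card_congr (Equiv.subtypeEquiv E fun v => by rw [hE])
    have hne : (1 : F) ≠ -1 := fun e => by
      have h0 := Nat.cast_card_eq_zero F
      rw [h3] at h0
      exact one_ne_zero (show (1 : F) = 0 by push_cast at h0; linear_combination h0 - e)
    constructor
    · haveI : IsEmpty {x : F // x * x = -1} := ⟨fun ⟨x, hx⟩ => by
        rcases scalar_nat (Or.inr h3) x with rfl | rfl | rfl
        · rw [mul_zero] at hx; exact neg_ne_zero.2 one_ne_zero hx.symm
        · rw [mul_one] at hx; exact hne hx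
        · rw [neg_one_mul, neg_neg] at hx; exact hne hx⟩
      rw [hc, Nat.card_of_isEmpty]
      simp
    · have : Nat.card {x : F // x * x = 1} = 2 := by
        rw [← Set.ncard_pair hne, ← Nat.card_coe_set_eq]
        exact Nat.card_congr (Equiv.subtypeEquivRight fun x => mul_self_eq_one_iff)
      rw [hc, this]
      norm_num
  | succ m ih =>
    have hc : ∀ a : F, (Nat.card {v // oddQ (F := F) (m + 1) v = a} : ℤ) =
        2 * (3 : ℤ) ^ (2 * m + 1) + 3 * Nat.card {v // oddQ (F := F) m v = a} := by
      intro a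
      rw [Nat.card_congr (Equiv.subtypeEquiv (q := fun p => hypSum (oddQ (F := F) m) p = a) (oddSplit (F := F) m).toEquiv
        fun v => by
          change oddQ (m + 1) v = a ↔ hypSum (oddQ m) (oddSplit m v) = a
          rw [oddSplit_apply]), card_level_hypSum, h3, Nat.card_fun, Nat.card_sum, Nat.card_sum, Nat.card_fin,
        (Nat.card_unique : Nat.card Unit = 1), Nat.card_eq_fintype_card, h3]
      push_cast
      ring
    rw [hc, hc, ih.1, ih.2]
    constructor <;> ring

end CfsgLib.MinIdxOrth
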