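import Cfsg.Agent.MinDeg.OmegaCount
import Cfsg.Agent.MinDeg.OmegaModel

/-!
Lower bounds for the sizes of levels of a quadratic form met with a totally singular subspace.
-/

set_option autoImplicit false
set_option linter.style.haveILetI false
set_option linter.unusedSectionVars false

namespace CfsgLib.MinIdxOrth

open QuadraticMap Module CfsgLib.Forms CfsgLib.Quad CfsgLib.MinDeg.Om
open scoped Classical

variable {F : Type*} [Field F] [Fintype F] {W : Type*} [AddCommGroup W] [Module F W] [FiniteDimensional F W]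
  {Q : QuadraticForm F W}

/-- The nonzero vectors of a level. -/
noncomputable def nz (Q : QuadraticForm F W) (a : F) : ℕ := Nat.card {v : W // v ≠ 0 ∧ Q v = a}

omit [FiniteDimensional F W] in
theorem ts_polar {U : Submodule F W} (hU : ∀ u ∈ U, Q u = 0) {x y : W} (hx : x ∈ U) (hy : y ∈ U) :
    polar Q x y = 0 := by
  simp [polar, hU _ (U.add_mem hx hy), hU x hx, hU y hy]

/-- On a union of cosets of a totally singular subspace with nonzero polar functional, every level
has the same share. -/
theorem card_ts_share [Finite W] (A : Set W) (U : Submodule F W) (hU : ∀ u ∈ U, Q u = 0)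
    (hA : ∀ v ∈ A, ∀ u ∈ U, v + u ∈ A) (hne : ∀ v ∈ A, ∃ u ∈ U, polar Q v u ≠ 0) (a : F) :
    Nat.card {v // v ∈ A ∧ Q v = a} * Fintype.card F = Nat.card {v // v ∈ A} := by
  haveI := Fintype.ofFinite W
  set q := Fintype.card F
  have e : {v // v ∈ A ∧ Q v = a} × U ≃ Σ x : {v // v ∈ A}, {u : U // Q (x.1 + u.1) = a} :=
    { toFun := fun p => ⟨⟨p.1.1 + (-p.2).1, hA _ p.1.2.1 _ (-p.2).2⟩, p.2, by
        simpa using p.1.2.2⟩
      invFun := fun s => (⟨s.1.1 + s.2.1.1, hA _ s.1.2 _ s.2.1.2, s.2.2⟩, s.2.1)
      left_inv := fun p => by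
        refine Prod.ext (Subtype.ext ?_) rfl
        simp
      right_inv := by
        rintro ⟨⟨x, hx⟩, ⟨u, hu⟩⟩
        refine Sigma.subtype_ext (Subtype.ext ?_) rfl
        simp }
  have hfib : ∀ x : {v // v ∈ A}, Nat.card {u : U // Q (x.1 + u.1) = a} = q ^ (finrank F U - 1) := by
    rintro ⟨x, hx⟩
    obtain ⟨u, hu, hxu⟩ := hne x hx
    let φ : U →ₗ[F] F := (polarFun Q x).comp U.subtype
    have h1 : φ ((polar Q x u)⁻¹ • ⟨u, hu⟩) = 1 := by
      rw [map_smul, smul_eq_mul]
      rw [show φ ⟨u, hu⟩ = polar Q x u from polar_comm (⇑Q) u x]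
      exact inv_mul_cancel₀ hxu
    haveI : Nontrivial U := ⟨⟨⟨u, hu⟩, 0, fun e => hxu (by
      rw [show u = 0 from congrArg Subtype.val e, polar_zero_right])⟩⟩
    have hpos : 0 < finrank F U := Module.finrank_pos
    rw [Nat.card_congr (Equiv.subtypeEquivRight (q := fun w : U => φ w = a - Q x) fun w => by
      rw [quad_add, hU _ w.2, show φ w = polar Q x w.1 from polar_comm (⇑Q) w.1 x]
      constructor <;> intro h <;> linear_combination h), card_fibre φ h1, card_ker_one φ h1 (n := finrank F U - 1) (by omega)]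
  have h := Nat.card_congr e
  rw [Nat.card_prod, Nat.card_sigma, Finset.sum_congr rfl (fun x _ => hfib x), Finset.sum_const,
    Finset.card_univ, smul_eq_mul, ← Nat.card_eq_fintype_card, Module.natCard_eq_pow_finrank (K := F) (V := U),
    Nat.card_eq_fintype_card (α := F)] at h
  rcases isEmpty_or_nonempty {v // v ∈ A} with h0 | ⟨⟨v, hv⟩⟩
  · haveI : IsEmpty {v // v ∈ A ∧ Q v = a} := ⟨fun v => h0.false ⟨v.1, v.2.1⟩⟩
    simp
  obtain ⟨u, hu, hvu⟩ := hne v hv
  haveI : Nontrivial U := ⟨⟨⟨u, hu⟩, 0, fun e => hvu (by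
    rw [show u = 0 from congrArg Subtype.val e, polar_zero_right])⟩⟩
  have hpos : 0 < finrank F U := Module.finrank_pos
  have hq : 0 < q := Fintype.card_pos
  obtain ⟨j, hj⟩ : ∃ j, finrank F U = j + 1 := ⟨finrank F U - 1, by omega⟩
  rw [hj, pow_succ, Nat.add_sub_cancel] at h
  exact Nat.eq_of_mul_eq_mul_left (pow_pos hq j) (by
    rw [mul_comm (q ^ j) (Nat.card {v // v ∈ A})]
    linarith)

variable (hQ : (polarBilin Q).Nondegenerate)
include hQ

theorem finrank_ts_le {U : Submodule F W} (hU : ∀ u ∈ U, Q u = 0) : 2 * finrank F U ≤ finrank F W := by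
  have h1 := finrank_perpS hQ U
  have h2 : U ≤ perpS Q U := fun x hx y hy => ts_polar hU hy hx
  have := Submodule.finrank_mono h2
  omega

theorem level_ts (U : Submodule F W) (hU : ∀ u ∈ U, Q u = 0) (hi : 1 ≤ finrank F U) (a : F) :
    (Fintype.card F ^ finrank F U - 1) * Fintype.card F ^ (finrank F W - finrank F U - 1) +
      (if a = 0 then Fintype.card F ^ finrank F U else 0) ≤ Nat.card {v : W // Q v = a} := by
  haveI : Finite W := Module.finite_of_finite F
  haveI := Fintype.ofFinite W
  set q := Fintype.card F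
  set i := finrank F U
  set n := finrank F W
  have h2i := finrank_ts_le hQ hU
  have hq : 0 < q := Fintype.card_pos
  let A : Set W := {v | v ∉ perpS Q U}
  have hperp : U ≤ perpS Q U := fun x hx y hy => ts_polar hU hy hx
  have h1 := card_ts_share (Q := Q) A U hU (fun v hv u hu h => hv (by
      simpa using (perpS Q U).sub_mem h (hperp hu)))
    (fun v hv => by
      by_contra hc
      push Not at hc
      exact hv fun u hu => by rw [polar_comm]; exact hc u hu) a
  have hc : Nat.card {v // v ∈ A} + q ^ (n - i) = q ^ n := by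
    have e := Nat.card_congr (Equiv.sumCompl fun v : W => v ∈ perpS Q U)
    rw [Nat.card_sum, Module.natCard_eq_pow_finrank (K := F) (V := W)] at e
    have hp := finrank_perpS hQ U
    rw [show {v : W // v ∈ perpS Q U} = ↥(perpS Q U) from rfl,
      Module.natCard_eq_pow_finrank (K := F) (V := perpS Q U), Nat.card_eq_fintype_card (α := F),
      show finrank F (perpS Q U) = n - i by omega] at e
    rw [add_comm]
    exact e
  have h2 : (q ^ i - 1) * q ^ (n - i - 1) ≤ Nat.card {v // v ∈ A ∧ Q v = a} := by
    refine Nat.le_of_mul_le_mul_right ?_ hq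
    rw [h1, mul_assoc, ← pow_succ, show n - i - 1 + 1 = n - i by omega, Nat.sub_mul, ← pow_add,
      show i + (n - i) = n by omega, one_mul]
    omega
  have h3 : (if a = 0 then q ^ i else 0) ≤ Nat.card {v : W // v ∉ A ∧ Q v = a} := by
    split_ifs with ha
    · have e : Nat.card U = q ^ i := by
        rw [Module.natCard_eq_pow_finrank (K := F), Nat.card_eq_fintype_card]
      rw [← e]
      exact Nat.card_le_card_of_injective (fun u => ⟨u.1, fun h => h (hperp u.2), ha ▸ hU _ u.2⟩)
        fun x y h => Subtype.ext (congrArg (fun z : {v : W // v ∉ A ∧ Q v = a} => z.1) h)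
    · exact Nat.zero_le _
  have h4 : Nat.card {v : W // Q v = a} =
      Nat.card {v : W // v ∈ A ∧ Q v = a} + Nat.card {v : W // v ∉ A ∧ Q v = a} := by
    rw [← Nat.card_congr (Equiv.sumCompl fun x : {v : W // Q v = a} => x.1 ∈ A), Nat.card_sum]
    congr 1
    · exact Nat.card_congr ((Equiv.subtypeSubtypeEquivSubtypeInter (fun v => Q v = a) (· ∈ A)).trans
        (Equiv.subtypeEquivRight fun v => and_comm))
    · exact Nat.card_congr ((Equiv.subtypeSubtypeEquivSubtypeInter (fun v => Q v = a) (fun v => v ∉ A)).trans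
        (Equiv.subtypeEquivRight fun v => and_comm))
  omega

omit hQ in
theorem card_zero_eq : Nat.card {v : W // Q v = 0} = nz Q 0 + 1 := by
  haveI : Finite W := Module.finite_of_finite F
  rw [nz, ← Nat.card_congr (Equiv.sumCompl fun x : {v : W // Q v = 0} => x.1 ≠ 0), Nat.card_sum]
  congr 1
  · exact Nat.card_congr ((Equiv.subtypeSubtypeEquivSubtypeInter (fun v => Q v = 0) (fun v => v ≠ 0)).trans
      (Equiv.subtypeEquivRight fun v => and_comm))
  · exact Nat.card_eq_one_iff_exists.2 ⟨⟨⟨0, QuadraticMap.map_zero _⟩, fun h => h rfl⟩,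
      fun y => Subtype.ext (Subtype.ext (not_not.1 y.2))⟩

theorem nz_zero_ts (U : Submodule F W) (hU : ∀ u ∈ U, Q u = 0) (hi : 1 ≤ finrank F U) :
    (Fintype.card F ^ finrank F U - 1) * (Fintype.card F ^ (finrank F W - finrank F U - 1) + 1) ≤ nz Q 0 := by
  have h := level_ts hQ U hU hi 0
  rw [if_pos rfl, card_zero_eq] at h
  have : 1 ≤ Fintype.card F ^ finrank F U := Nat.one_le_pow _ _ Fintype.card_pos
  rw [Nat.mul_add, mul_one]
  omega

variable (hn : 5 ≤ finrank F W)
include hn

theorem exists_ts_plane : ∃ U : Submodule F W, finrank F U = 2 ∧ ∀ u ∈ U, Q u = 0 := by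
  obtain ⟨z, -, hz0, hz⟩ := exists_singular_of_three (Q := Q) (⊤ : Submodule F W) (by rw [finrank_top]; omega)
  obtain ⟨y, hy⟩ := exists_polar_ne hQ hz0
  have h1 := finrank_perpS hQ (Submodule.span F (Set.range ![z, y]))
  have h2 : finrank F (Submodule.span F (Set.range ![z, y])) ≤ 2 := (finrank_range_le_card _).trans (by simp)
  obtain ⟨w, hw, hw0, hQw⟩ := exists_singular_of_three (Q := Q) (perpS Q (Submodule.span F (Set.range ![z, y])))
    (by omega)
  have hzw : polar Q z w = 0 := hw z (Submodule.subset_span ⟨0, rfl⟩)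
  have hyw : polar Q y w = 0 := hw y (Submodule.subset_span ⟨1, rfl⟩)
  have hli : LinearIndependent F ![z, w] := by
    rw [LinearIndependent.pair_iff]
    intro s t hst
    have h := congrArg (fun x => polar Q y x) hst
    simp only [polar_add_right, polar_smul_right, hyw, smul_zero, add_zero, polar_zero_right,
      smul_eq_mul, mul_zero, mul_eq_zero, polar_comm (⇑Q) y z] at h
    have hs := h.resolve_right hy
    rw [hs, zero_smul, zero_add] at hst
    exact ⟨hs, (smul_eq_zero.1 hst).resolve_right hw0⟩
  refine ⟨Submodule.span F (Set.range ![z, w]), by rw [finrank_span_eq_card hli, Fintype.card_fin], fun u hu => ?_⟩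
  obtain ⟨c, rfl⟩ := (Submodule.mem_span_range_iff_exists_fun F).1 hu
  simp [Fin.sum_univ_two, quad_add, quad_smul, hz, hQw, polar_smul_left, polar_smul_right, hzw]

theorem nz_lb (a : F) : (Fintype.card F ^ 2 - 1) * Fintype.card F ^ (finrank F W - 3) ≤ nz Q a := by
  obtain ⟨U, hU2, hU⟩ := exists_ts_plane hQ hn
  by_cases ha : a = 0
  · subst ha
    have h := nz_zero_ts hQ U hU (by omega)
    rw [hU2, show finrank F W - 2 - 1 = finrank F W - 3 by omega, Nat.mul_add] at h
    omega
  · have h := level_ts hQ U hU (by omega) a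
    rw [hU2, show finrank F W - 2 - 1 = finrank F W - 3 by omega, if_neg ha, add_zero] at h
    refine h.trans (le_of_eq (Nat.card_congr (Equiv.subtypeEquivRight fun v =>
      ⟨fun h => ⟨fun e => ha ?_, h⟩, And.right⟩)))
    rw [← h, e, QuadraticMap.map_zero]

theorem nz_zero_lb : (Fintype.card F ^ 2 - 1) * (Fintype.card F ^ (finrank F W - 3) + 1) ≤ nz Q 0 := by
  obtain ⟨U, hU2, hU⟩ := exists_ts_plane hQ hn
  have h := nz_zero_ts hQ U hU (by omega)
  rwa [hU2, show finrank F W - 2 - 1 = finrank F W - 3 by omega] at h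

theorem nz_zero_ub : nz Q 0 + 1 + (Fintype.card F - 1) *
    ((Fintype.card F ^ 2 - 1) * Fintype.card F ^ (finrank F W - 3)) ≤ Fintype.card F ^ finrank F W := by
  haveI : Finite W := Module.finite_of_finite F
  have h1 : Fintype.card F ^ finrank F W = ∑ a : F, Nat.card {v : W // Q v = a} := by
    rw [← Nat.card_sigma, Nat.card_congr (Equiv.sigmaFiberEquiv fun v : W => Q v),
      Module.natCard_eq_pow_finrank (K := F), Nat.card_eq_fintype_card]
  rw [h1, ← Finset.add_sum_erase _ _ (Finset.mem_univ (0 : F)), card_zero_eq]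
  refine Nat.add_le_add_left ?_ _
  calc (Fintype.card F - 1) * ((Fintype.card F ^ 2 - 1) * Fintype.card F ^ (finrank F W - 3))
      = ∑ _a ∈ Finset.univ.erase (0 : F), (Fintype.card F ^ 2 - 1) * Fintype.card F ^ (finrank F W - 3) := by
        rw [Finset.sum_const, Finset.card_erase_of_mem (Finset.mem_univ _), Finset.card_univ, smul_eq_mul]
    _ ≤ _ := Finset.sum_le_sum fun a _ => (nz_lb hQ hn a).trans
        (Nat.card_le_card_of_injective (fun v => ⟨v.1, v.2.2⟩)
          fun x y h => Subtype.ext (congrArg (fun z : {v : W // Q v = a} => z.1) h))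

omit hn in
/-- Vectors orthogonal to one but not to the other of two singular vectors meet all levels equally. -/
theorem card_perp_diff {u w : W} (hw : Q w = 0) (huw : polar Q u w = 0)
    (hli : LinearIndependent F ![u, w]) (a : F) :
    Nat.card {v : W // (polar Q u v = 0 ∧ polar Q w v ≠ 0) ∧ Q v = a} =
      (Fintype.card F - 1) * Fintype.card F ^ (finrank F W - 2) / Fintype.card F := by
  haveI : Finite W := Module.finite_of_finite F
  haveI := Fintype.ofFinite W
  let U := Submodule.span F ({w} : Set W)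
  have h1 := card_ts_share (Q := Q) {v : W | polar Q u v = 0 ∧ polar Q w v ≠ 0} U
    (fun x hx => by
      obtain ⟨c, rfl⟩ := Submodule.mem_span_singleton.1 hx
      rw [quad_smul, hw, mul_zero])
    (fun v hv x hx => by
      obtain ⟨c, rfl⟩ := Submodule.mem_span_singleton.1 hx
      refine ⟨?_, ?_⟩
      · rw [polar_add_right, polar_smul_right, hv.1, huw, smul_zero, add_zero]
      · rw [polar_add_right, polar_smul_right, QuadraticMap.polar_self, hw, smul_zero, smul_zero, add_zero]
        exact hv.2)
    (fun v hv => ⟨w, Submodule.mem_span_singleton_self w, by rw [polar_comm]; exact hv.2⟩) a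
  have hc : Nat.card {v : W // polar Q u v = 0 ∧ polar Q w v ≠ 0} + Fintype.card F ^ (finrank F W - 2) =
      Fintype.card F ^ (finrank F W - 1) := by
    have e := Nat.card_congr (Equiv.sumCompl fun x : {v : W // polar Q u v = 0} => polar Q w x.1 ≠ 0)
    rw [Nat.card_sum, Nat.card_congr (Equiv.subtypeSubtypeEquivSubtypeInter (fun v => polar Q u v = 0)
      (fun v => polar Q w v ≠ 0)), Nat.card_congr (Equiv.subtypeSubtypeEquivSubtypeInter
      (fun v => polar Q u v = 0) (fun v => ¬(polar Q w v ≠ 0)))] at e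
    have hk : ∀ K : Submodule F W, Nat.card (perpS Q K) = Fintype.card F ^ (finrank F W - finrank F K) := by
      intro K
      have := finrank_perpS hQ K
      rw [Module.natCard_eq_pow_finrank (K := F), Nat.card_eq_fintype_card]
      congr 1
      omega
    have hu : u ≠ 0 := hli.ne_zero 0
    have e1 : Nat.card {v : W // polar Q u v = 0} = Fintype.card F ^ (finrank F W - 1) := by
      rw [← finrank_span_singleton (K := F) hu, ← hk]
      refine Nat.card_congr (Equiv.subtypeEquivRight fun v => ?_)
      rw [mem_perpS]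
      exact ⟨fun h x hx => by obtain ⟨c, rfl⟩ := Submodule.mem_span_singleton.1 hx
                              rw [polar_smul_left, h, smul_zero],
        fun h => h u (Submodule.mem_span_singleton_self u)⟩
    have e2 : Nat.card {v : W // polar Q u v = 0 ∧ ¬(polar Q w v ≠ 0)} =
        Fintype.card F ^ (finrank F W - 2) := by
      rw [show (2 : ℕ) = finrank F (Submodule.span F (Set.range ![u, w])) by
        rw [finrank_span_eq_card hli, Fintype.card_fin], ← hk]
      refine Nat.card_congr (Equiv.subtypeEquivRight fun v => ?_)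
      rw [mem_perpS, not_not]
      refine ⟨fun h x hx => ?_, fun h => ⟨h u (Submodule.subset_span ⟨0, rfl⟩), h w (Submodule.subset_span ⟨1, rfl⟩)⟩⟩
      obtain ⟨c, rfl⟩ := (Submodule.mem_span_range_iff_exists_fun F).1 hx
      simp [Fin.sum_univ_two, polar_add_left, polar_smul_left, h.1, h.2]
    rw [e1, e2] at e
    exact e
  have h2 : finrank F W ≥ 2 := by
    have := hli.fintype_card_le_finrank
    rwa [Fintype.card_fin] at this
  symm
  refine Nat.div_eq_of_eq_mul_left Fintype.card_pos ?_
  change _ = Nat.card {v // v ∈ {v : W | polar Q u v = 0 ∧ polar Q w v ≠ 0} ∧ Q v = a} * _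
  rw [h1]
  change _ = Nat.card {v : W // polar Q u v = 0 ∧ polar Q w v ≠ 0}
  rw [Nat.sub_mul, one_mul, ← pow_succ', show finrank F W - 2 + 1 = finrank F W - 1 by omega]
  omega

end CfsgLib.MinIdxOrth
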