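import Cfsg.Agent.MinIdxOrth.Structure

/-!
Orbits of the three possible kinds and their transport.
-/

set_option autoImplicit false
set_option linter.style.haveILetI false
set_option linter.unusedSectionVars false

namespace CfsgLib.MinIdxOrth

open QuadraticMap Module AddAction CfsgLib.Forms CfsgLib.Quad CfsgLib.MinDeg.Om
open scoped Classical

variable {F : Type*} [Field F] [Fintype F] {W : Type*} [AddCommGroup W] [Module F W] [FiniteDimensional F W]
  {Q : QuadraticForm F W} {hQ : (polarBilin Q).Nondegenerate} {hn : 5 ≤ finrank F W}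
  {X : Type*} [MulAction (OG Q) X] [Finite X] {ψ : AddChar F ℂ}

/-- An orbit whose weights lie on a line. -/
def IsLine (ψ : AddChar F ℂ) (o : EOrb hQ hn X) : Prop :=
  wt Q ψ o ≠ ⊤ ∧ ∃ v : W, v ≠ 0 ∧ ∀ b ∈ wt Q ψ o, b ∈ Submodule.span F {v}

variable (hQ hn X) in
/-- The number of line orbits carrying a weight. -/
noncomputable def nline (ψ : AddChar F ℂ) (v : W) : ℕ :=
  Nat.card {o : EOrb hQ hn X // IsLine ψ o ∧ v ∈ wt Q ψ o}

variable (hψ : ψ ≠ 0)
include hψ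

theorem exists_orb_lev {g : OG Q} {h : oGroup Q} {c : F} (hc : c ≠ 0) (hge : g.1.1 e₀ = c • e₀)
    (hgw : ∀ w, g.1.1 (emb w) = emb (h.1 w)) :
    ∃ σ : EOrb hQ hn X ≃ EOrb hQ hn X, (∀ y, σ (Quotient.mk'' y) = Quotient.mk'' (mv g y)) ∧
      (∀ o v, c⁻¹ • h.1 v ∈ wt Q ψ (σ o) ↔ v ∈ wt Q ψ o) ∧ ∀ o, IsLine ψ o → IsLine ψ (σ o) := by
  obtain ⟨σ, hσy, hσ⟩ := exists_orb_perm Q ψ hQ hψ (mv g) (levF h hc) (levF h (inv_ne_zero hc))
    (mv_vadd hc hge hgw) (levF_dual h hc ψ) (Y := EX hQ hn X)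
  refine ⟨σ, hσy, hσ, fun o ⟨ht, v, hv, hspan⟩ => ⟨fun e => ht (eq_top_iff.2 fun b _ => ?_), c⁻¹ • h.1 v,
    smul_ne_zero (inv_ne_zero hc) fun e => hv ((LinearEquiv.map_eq_zero_iff _).1 e), fun b hb => ?_⟩⟩
  · rw [← hσ, e]; trivial
  · obtain ⟨b', rfl⟩ := (levF h (inv_ne_zero hc)).surjective b
    obtain ⟨t, rfl⟩ := Submodule.mem_span_singleton.1 (hspan b' ((hσ o b').1 hb))
    refine Submodule.mem_span_singleton.2 ⟨t, ?_⟩
    rw [levF_apply, map_smul, smul_comm]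

theorem nline_move {g : OG Q} {h : oGroup Q} {c : F} (hc : c ≠ 0) (hge : g.1.1 e₀ = c • e₀)
    (hgw : ∀ w, g.1.1 (emb w) = emb (h.1 w)) (v : W) :
    nline hQ hn X ψ v ≤ nline hQ hn X ψ (c⁻¹ • h.1 v) := by
  obtain ⟨σ, -, hσ, hl⟩ := exists_orb_lev (hQ := hQ) (hn := hn) (X := X) hψ hc hge hgw
  exact Nat.card_le_card_of_injective (fun o => ⟨σ o.1, hl _ o.2.1, (hσ _ v).2 o.2.2⟩)
    fun a b e => Subtype.ext (σ.injective (congrArg Subtype.val e))

theorem nline_level {v v' : W} (hv : v ≠ 0) (hv' : v' ≠ 0) (h : Q v = Q v') :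
    nline hQ hn X ψ v = nline hQ hn X ψ v' := by
  suffices key : ∀ v v' : W, v ≠ 0 → v' ≠ 0 → Q v = Q v' → nline hQ hn X ψ v ≤ nline hQ hn X ψ v' from
    le_antisymm (key v v' hv hv' h) (key v' v hv' hv h.symm)
  intro v v' hv hv' h
  obtain ⟨g, hg, hgv⟩ := exists_map_vec hQ (four_le hn) hv hv' h
  have h1 := nline_move (X := X) (hQ := hQ) (hn := hn) hψ (g := ⟨oExtend Q g, hg⟩) (h := g) one_ne_zero
    (by rw [one_smul]; exact Prod.ext rfl (map_zero g.1)) (fun w => rfl) v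
  rwa [inv_one, one_smul, hgv] at h1

theorem nline_scale {v v' : W} (hv : v ≠ 0) (hv' : v' ≠ 0) {s : F} (hs : s ≠ 0) (h : Q v' = s * s * Q v) :
    nline hQ hn X ψ v ≤ nline hQ hn X ψ v' := by
  obtain ⟨k, hk, g, hke, hkw⟩ := exists_scaling hQ (four_le hn) (inv_ne_zero hs)
  refine le_trans (nline_move (X := X) (hQ := hQ) (hn := hn) hψ (g := ⟨k, hk⟩) (inv_ne_zero hs) hke hkw v)
    (le_of_eq (nline_level hψ ?_ hv' ?_))
  · rw [inv_inv]
    exact smul_ne_zero hs fun e => hv ((LinearEquiv.map_eq_zero_iff _).1 e)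
  · rw [inv_inv, quad_smul, g.2, h]

omit hψ in
theorem card_wt_line {o : EOrb hQ hn X} (h : IsLine ψ o) : Nat.card (wt Q ψ o) ≤ Fintype.card F := by
  haveI : Finite W := Module.finite_of_finite F
  obtain ⟨-, v, hv, hspan⟩ := h
  calc Nat.card (wt Q ψ o) ≤ Nat.card (Submodule.span F {v}) :=
        Nat.card_le_card_of_injective (fun b => ⟨b.1, hspan b.1 b.2⟩)
          fun a b e => Subtype.ext (congrArg (fun z : Submodule.span F {v} => z.1) e)
    _ = Fintype.card F := by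
        rw [Module.natCard_eq_pow_finrank (K := F), finrank_span_singleton hv, pow_one, Nat.card_eq_fintype_card]

omit hψ in
theorem card_wt_top {o : EOrb hQ hn X} (h : wt Q ψ o = ⊤) :
    Nat.card (wt Q ψ o) = Fintype.card F ^ finrank F W := by
  haveI : Finite W := Module.finite_of_finite F
  rw [h, AddSubgroup.card_top, Module.natCard_eq_pow_finrank (K := F), Nat.card_eq_fintype_card]

omit hψ in
theorem exists_psi_ne (hψ : ψ ≠ 0) {u v : W} (huv : polar Q u v ≠ 0) : ∃ t : F, ψ (polar Q u (t • v)) ≠ 1 := by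
  obtain ⟨b, hb⟩ := AddChar.ne_zero_iff.1 hψ
  refine ⟨b / polar Q u v, ?_⟩
  rwa [polar_smul_right, smul_eq_mul, div_mul_cancel₀ _ huv]

theorem eH_conj_level (hQ : (polarBilin Q).Nondegenerate) (hn : 5 ≤ finrank F W) {u w : W} (hu : u ≠ 0) (hw : w ≠ 0)
    (h : Q u = Q w) : fixX X (eH hQ hn w) = fixX X (eH hQ hn u) := by
  obtain ⟨g, hg, hgu⟩ := exists_map_vec hQ (four_le hn) hu hw h
  set G : OG Q := ⟨oExtend Q g, hg⟩
  have e : eH hQ hn w * G = G * eH hQ hn u := by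
    have h1 := eHom_move hQ (four_le hn) (g := G) (h := g) one_ne_zero
      (by rw [one_smul]; exact Prod.ext rfl (map_zero g.1)) (fun w => rfl) w
    rw [inv_one, one_smul, show g.1.symm w = u by rw [← hgu, g.1.symm_apply_apply]] at h1
    exact h1
  rw [← fixX_conj (X := X) (eH hQ hn u) G, ← e, mul_inv_cancel_right]

end CfsgLib.MinIdxOrth
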