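import Cfsg.Agent.MinIdxOrth.Geometry

/-!
The number of singular points, and the double count of free radicals.
-/

set_option autoImplicit false
set_option linter.style.haveILetI false
set_option linter.unusedSectionVars false

namespace CfsgLib.MinIdxOrth

open QuadraticMap Module AddAction CfsgLib.Forms CfsgLib.Quad CfsgLib.MinDeg.Om
open scoped Classical

variable {F : Type*} [Field F] [Fintype F] {V : Type*} [AddCommGroup V] [Module F V]

/-- Singular points times scalars. -/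
theorem card_spt_mul [Finite V] (Q : QuadraticForm F V) :
    Nat.card (SPt Q) * (Fintype.card F - 1) = nz Q 0 := by
  have hu : Nat.card Fˣ = Fintype.card F - 1 := by rw [Nat.card_units, Nat.card_eq_fintype_card]
  rw [← hu, ← Nat.card_prod, nz]
  refine Nat.card_congr (Equiv.ofBijective (fun p => ⟨(p.2 : F) • p.1.1.rep,
    smul_ne_zero p.2.ne_zero p.1.1.rep_nonzero, by rw [quad_smul, p.1.2, mul_zero]⟩) ⟨?_, ?_⟩)
  · rintro ⟨P, a⟩ ⟨R, b⟩ h
    have h' : (a : F) • P.1.rep = (b : F) • R.1.rep :=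
      congrArg (fun x : {v : V // v ≠ 0 ∧ Q v = 0} => x.1) h
    have hPR : P = R := by
      refine Subtype.ext ?_
      rw [← Projectivization.mk_rep P.1, ← Projectivization.mk_rep R.1, Projectivization.mk_eq_mk_iff']
      exact ⟨(a : F)⁻¹ * b, by rw [← smul_smul, ← h', smul_smul, inv_mul_cancel₀ a.ne_zero, one_smul]⟩
    subst hPR
    exact Prod.ext rfl (Units.ext (smul_left_injective F P.1.rep_nonzero h'))
  · rintro ⟨v, hv0, hv⟩
    obtain ⟨a, ha⟩ := Projectivization.exists_smul_eq_mk_rep F v hv0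
    refine ⟨⟨spt v hv0 hv, a⁻¹⟩, Subtype.ext ?_⟩
    change ((a⁻¹ : Fˣ) : F) • (Projectivization.mk F v hv0).rep = v
    rw [← ha, Units.smul_def, smul_smul, Units.inv_mul, one_smul]

variable {W : Type*} [AddCommGroup W] [Module F W] [FiniteDimensional F W]
  {Q : QuadraticForm F W} {hQ : (polarBilin Q).Nondegenerate} {hn : 5 ≤ finrank F W}
  {X : Type*} [MulAction (OG Q) X]

omit [MulAction (OG Q) X] in
theorem isSmall_iff (X : Type*) : IsSmall Q X ↔ Nat.card X < Nat.card (SPt (hypSum Q)) := by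
  haveI : Finite W := Module.finite_of_finite F
  have h1 : 0 < Fintype.card F - 1 := Nat.sub_pos_of_lt Fintype.one_lt_card
  rw [IsSmall, ← nz_hypSum_eq, ← card_spt_mul, mul_comm (Nat.card (SPt (hypSum Q))), Nat.mul_lt_mul_left h1]

variable (hQ hn) in
/-- The radical of a singular point acts freely at a point. -/
def Free (ω : X) (P : SPt (hypSum Q)) : Prop :=
  ∀ a, ∀ ha : polar (hypSum Q) P.1.rep a = 0, sgV hQ hn P.2 ha • ω = ω → sgV hQ hn P.2 ha = 1

theorem free_smul (g : OG Q) {ω : X} {P : SPt (hypSum Q)} (h : Free hQ hn ω P) :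
    Free hQ hn (g • ω) (g • P) := by
  intro a ha hfix
  obtain ⟨t, ht⟩ : ∃ t : Fˣ, t • g.1.1 P.1.rep = (g • P).1.rep :=
    Projectivization.exists_smul_eq_mk_rep F _ (iso_ne_zero g.1 P.1.rep_nonzero)
  set b := g.1.1.symm ((t : F) • a)
  have hgb : g.1.1 b = (t : F) • a := g.1.1.apply_symm_apply _
  have hga : polar (hypSum Q) (g.1.1 P.1.rep) a = 0 := by
    have h' := ha
    rw [← ht, Units.smul_def, polar_smul_left, smul_eq_mul, mul_eq_zero] at h'
    exact h'.resolve_left t.ne_zero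
  have hb : polar (hypSum Q) P.1.rep b = 0 := by
    rw [← polar_oGroup g.1, hgb, polar_smul_right, hga, smul_zero]
  have e : g * sgV hQ hn P.2 hb * g⁻¹ = sgV hQ hn (g • P).2 ha := by
    refine Subtype.ext ?_
    rw [Subgroup.coe_mul, Subgroup.coe_mul, Subgroup.coe_inv]
    change g.1 * siegel (hypSum Q) P.1.rep b * g.1⁻¹ = siegel (hypSum Q) (g • P).1.rep a
    rw [siegel_conj g.1 P.2 hb, hgb, ← siegel_smul (by rw [g.1.2, P.2]) hga, ← ht, Units.smul_def]
  rw [← e, h b hb (by
    rw [← e, mul_smul, mul_smul, inv_smul_smul, smul_left_cancel_iff] at hfix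
    exact hfix), mul_one, mul_inv_cancel]

theorem free_smul_iff (g : OG Q) (ω : X) (P : SPt (hypSum Q)) :
    Free hQ hn (g • ω) (g • P) ↔ Free hQ hn ω P := by
  refine ⟨fun h => ?_, free_smul g⟩
  have := free_smul g⁻¹ h
  rwa [inv_smul_smul, inv_smul_smul] at this

/-- The point of the first hyperbolic vector. -/
def pt₀ (Q : QuadraticForm F W) : SPt (hypSum Q) :=
  spt e₀ (fun e => one_ne_zero (congrArg (fun p : (F × F) × W => p.1.1) e)) hyp_e₀

theorem free_pt₀_iff (ω : X) :
    Free hQ hn ω (pt₀ Q) ↔ ∀ w : W, eH hQ hn w • ω = ω → w = 0 := by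
  obtain ⟨t, ht⟩ : ∃ t : Fˣ, t • (e₀ : (F × F) × W) = (pt₀ Q).1.rep :=
    Projectivization.exists_smul_eq_mk_rep F _ (fun e => one_ne_zero (congrArg (fun p : (F × F) × W => p.1.1) e))
  have hrep : ∀ b : W, polar (hypSum Q) (pt₀ Q).1.rep (emb b) = 0 := fun b => by
    rw [← ht, Units.smul_def, polar_smul_left, polar_e₀_emb, smul_zero]
  have hval : ∀ b : W, sgV hQ hn (pt₀ Q).2 (hrep b) = eH hQ hn ((t : F) • b) := fun b => by
    refine Subtype.ext ?_
    change siegel (hypSum Q) (pt₀ Q).1.rep (emb b) = siegel (hypSum Q) e₀ (emb ((t : F) • b))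
    rw [← ht, Units.smul_def, siegel_smul hyp_e₀ (polar_e₀_emb b)]
    congr 1
    simp [emb]
  constructor
  · intro h w hw
    have he := h (emb ((t : F)⁻¹ • w)) (hrep _) (by rw [hval, smul_smul, mul_inv_cancel₀ t.ne_zero, one_smul]; exact hw)
    rw [hval, smul_smul, mul_inv_cancel₀ t.ne_zero, one_smul] at he
    have h1 := congrArg (fun g : OG Q => (g.1.1 f₀).2) he
    change ((siegel (hypSum Q) e₀ (emb w)).1 f₀).2 = (f₀ : (F × F) × W).2 at h1
    rw [siegel_apply hyp_e₀ (polar_e₀_emb w), polar_comm (⇑(hypSum Q)) f₀ e₀, hyp_ef] at h1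
    simpa [e₀, f₀, emb] using h1
  · intro h a ha hfix
    have h2 : a.1.2 = 0 := by
      have h' := ha
      rw [← ht, Units.smul_def, polar_smul_left, smul_eq_mul, mul_eq_zero, hypSum_polar] at h'
      simpa [e₀] using h'.resolve_left t.ne_zero
    have had : a = emb a.2 + a.1.1 • e₀ := by
      refine Prod.ext (Prod.ext ?_ ?_) ?_ <;> simp [emb, e₀, h2]
    have e : sgV hQ hn (pt₀ Q).2 ha = eH hQ hn ((t : F) • a.2) := by
      rw [← hval]
      refine Subtype.ext ?_
      change siegel (hypSum Q) (pt₀ Q).1.rep a = siegel (hypSum Q) (pt₀ Q).1.rep (emb a.2)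
      conv_lhs => rw [had]
      rw [show a.1.1 • (e₀ : (F × F) × W) = (a.1.1 * (t : F)⁻¹) • (pt₀ Q).1.rep by
        rw [← ht, Units.smul_def, smul_smul, inv_mul_cancel_right₀ t.ne_zero]]
      exact siegel_add_smul (pt₀ Q).2 (hrep _) _
    rw [e] at hfix ⊢
    rw [h _ hfix, eH_zero]

/-- The double count. -/
theorem dvd_free [Finite X] [MulAction.IsPretransitive (OG Q) X] (hQ : (polarBilin Q).Nondegenerate)
    (hn : 5 ≤ finrank F W) :
    Nat.card X ∣ Nat.card (SPt (hypSum Q)) * Nat.card {ω : X // ∀ w : W, eH hQ hn w • ω = ω → w = 0} := by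
  haveI : Finite W := Module.finite_of_finite F
  haveI : Finite (SPt (hypSum Q)) :=
    Finite.of_injective (fun P : SPt (hypSum Q) => P.1.rep) fun P R h => Subtype.ext (by
      rw [← Projectivization.mk_rep P.1, ← Projectivization.mk_rep R.1]
      exact (Projectivization.mk_eq_mk_iff' F _ _ _ _).2 ⟨1, by rw [one_smul]; exact h.symm⟩)
  haveI := Fintype.ofFinite X
  haveI := Fintype.ofFinite (SPt (hypSum Q))
  haveI := isPretransitive_spt (hypSum_nondeg hQ) (by rw [finrank_hyp]; omega)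
  rcases isEmpty_or_nonempty X with h | ⟨⟨ω₀⟩⟩
  · exact ⟨0, by simp⟩
  have e : (Σ ω : X, {P : SPt (hypSum Q) // Free hQ hn ω P}) ≃ Σ P : SPt (hypSum Q), {ω : X // Free hQ hn ω P} :=
    { toFun := fun p => ⟨p.2.1, p.1, p.2.2⟩
      invFun := fun p => ⟨p.2.1, p.1, p.2.2⟩
      left_inv := fun p => rfl
      right_inv := fun p => rfl }
  have h := Nat.card_congr e
  rw [Nat.card_sigma, Nat.card_sigma] at h
  have h1 : ∀ ω : X, Nat.card {P : SPt (hypSum Q) // Free hQ hn ω P} =
      Nat.card {P : SPt (hypSum Q) // Free hQ hn ω₀ P} := fun ω => by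
    obtain ⟨g, rfl⟩ := MulAction.exists_smul_eq (OG Q) ω₀ ω
    exact (Nat.card_congr ((MulAction.toPerm g).subtypeEquiv fun P => (free_smul_iff g ω₀ P).symm)).symm
  have h2 : ∀ P : SPt (hypSum Q), Nat.card {ω : X // Free hQ hn ω P} =
      Nat.card {ω : X // ∀ w : W, eH hQ hn w • ω = ω → w = 0} := fun P => by
    obtain ⟨g, rfl⟩ := MulAction.exists_smul_eq (OG Q) (pt₀ Q) P
    rw [Nat.card_congr ((MulAction.toPerm g).subtypeEquiv fun ω => (free_smul_iff g ω (pt₀ Q)).symm).symm]
    exact Nat.card_congr (Equiv.subtypeEquivRight free_pt₀_iff)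
  rw [Finset.sum_congr rfl (fun ω _ => h1 ω), Finset.sum_congr rfl (fun P _ => h2 P), Finset.sum_const,
    Finset.sum_const, smul_eq_mul, smul_eq_mul, Finset.card_univ, Finset.card_univ, ← Nat.card_eq_fintype_card,
    ← Nat.card_eq_fintype_card] at h
  exact ⟨_, h.symm⟩

end CfsgLib.MinIdxOrth
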