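import Cfsg.Agent.MinIdxOrth.Special
import Cfsg.Agent.MinIdxOrth.Points

/-!
`Ω(H ⊕ W)` has no transitive set smaller than the set of singular points, over fields of at least four elements.
-/

set_option autoImplicit false
set_option linter.style.haveILetI false
set_option linter.unusedSectionVars false

namespace CfsgLib.MinIdxOrth

open QuadraticMap Module AddAction CfsgLib.Forms CfsgLib.Quad CfsgLib.MinDeg.Om
open scoped Classical

variable {F : Type*} [Field F] [Fintype F] {W : Type*} [AddCommGroup W] [Module F W] [FiniteDimensional F W]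
  {Q : QuadraticForm F W} {hQ : (polarBilin Q).Nondegenerate} {hn : 5 ≤ finrank F W}
  {X : Type*} [MulAction (OG Q) X] [Finite X] {ψ : AddChar F ℂ}

variable (hψ : ψ ≠ 0)
include hψ

/-- With no weight subspace, few vectors are weights of line orbits. -/
theorem line_ineq [Fintype W] [Fintype (EOrb hQ hn X)]
    (hcases : ∀ o : EOrb hQ hn X, wt Q ψ o = ⊤ ∨ IsLine ψ o) {u w' : W} (hu0 : u ≠ 0) (hu : Q u = 0)
    (hw' : Q w' = 0) (huw : polar Q u w' = 0) (hli : LinearIndependent F ![u, w']) :
    Fintype.card F * ∑ v : {v : W // polar Q u v = 0 ∧ polar Q w' v ≠ 0}, nline hQ hn X ψ v.1 ≤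
      (Fintype.card F - 1) * ((Finset.univ.filter fun o : EOrb hQ hn X => wt Q ψ o = ⊤).card *
        Fintype.card F ^ (finrank F W - 2)) := by
  set q := Fintype.card F with hq
  set g : ↥(commutator (oGroup Q)) := ⟨siegel Q u w', siegel_mem_commutator hQ hn hu huw⟩
  have hgv : ∀ v, g.1.1 v = v ↔ polar Q u v = 0 ∧ polar Q w' v = 0 := by
    intro v
    change (siegel Q u w').1 v = v ↔ _
    rw [siegel_apply hu huw, add_sub_assoc, add_eq_left, polar_comm (⇑Q) u v, polar_comm (⇑Q) w' v]
    refine ⟨fun h => ?_, fun ⟨h1, h2⟩ => by rw [h1, h2]; simp⟩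
    obtain ⟨h1, h2⟩ := LinearIndependent.pair_iff.1 hli (-(polar Q v w' + Q w' * polar Q v u)) (polar Q v u) (by
      rw [neg_smul, add_comm, ← sub_eq_add_neg]; exact h)
    rw [h2] at h1
    exact ⟨h2, by simpa using h1⟩
  set T := Finset.univ.filter fun o : EOrb hQ hn X => wt Q ψ o = ⊤ with hT
  set A := Finset.univ.filter fun o : EOrb hQ hn X => IsLine ψ o ∧ ∀ b ∈ wt Q ψ o, polar Q u b = 0 with hA
  set B := A.filter fun o => ∀ b ∈ wt Q ψ o, polar Q w' b = 0 with hB
  set D := A.filter fun o => ¬∀ b ∈ wt Q ψ o, polar Q w' b = 0 with hD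
  -- fixed points of the element of the radical
  have h1 : ∑ o ∈ A, Nat.card (wt Q ψ o) ≤ fixX X (eH hQ hn u) := by
    rw [fixX_eH hψ]
    refine le_trans (le_of_eq (Finset.sum_congr rfl fun o ho => ?_))
      (Finset.sum_le_sum_of_subset (Finset.subset_univ A))
    rw [hA, Finset.mem_filter] at ho
    rw [if_pos fun v hv => by rw [ho.2.2 v hv, AddChar.map_zero_eq_one]]
  -- fixed points of the element of the Levi complement
  have h2 : fixX X (liftC Q g) ≤ T.card * q ^ (finrank F W - 2) + ∑ o ∈ B, Nat.card (wt Q ψ o) := by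
    refine le_trans (fixX_liftC_le (hQ := hQ) (hn := hn) hψ g) ?_
    rw [← Finset.sum_filter, ← Finset.sum_filter_add_sum_filter_not (Finset.univ.filter fun o => g • o = o)
      fun o => wt Q ψ o = ⊤]
    refine Nat.add_le_add ?_ ?_
    · refine le_trans (Finset.sum_le_card_nsmul _ _ (q ^ (finrank F W - 2)) fun o ho => ?_) ?_
      · set P := perpS Q (Submodule.span F (Set.range ![u, w']))
        have hP : finrank F P = finrank F W - 2 := by
          have h : _ + finrank F P = _ := finrank_perpS hQ (Submodule.span F (Set.range ![u, w']))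
          rw [finrank_span_eq_card hli, Fintype.card_fin] at h
          omega
        refine le_trans (Nat.card_le_card_of_injective (fun v => (⟨v.1, fun y hy => ?_⟩ : P))
          fun a b e => Subtype.ext (congrArg (fun z : P => z.1) e)) (le_of_eq ?_)
        · obtain ⟨c, rfl⟩ := (Submodule.mem_span_range_iff_exists_fun F).1 hy
          obtain ⟨e1, e2⟩ := (hgv v.1).1 v.2.2
          simp [Fin.sum_univ_two, polar_add_left, polar_smul_left, e1, e2]
        · rw [Module.natCard_eq_pow_finrank (K := F), hP, Nat.card_eq_fintype_card]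
      · rw [smul_eq_mul]
        refine Nat.mul_le_mul_right _ (Finset.card_le_card fun o ho => ?_)
        simp only [Finset.mem_filter] at ho
        exact Finset.mem_filter.2 ⟨Finset.mem_univ _, ho.2⟩
    · refine le_trans (Finset.sum_le_sum fun o _ => Nat.card_le_card_of_injective
        (fun v => (⟨v.1, v.2.1⟩ : wt Q ψ o)) fun a b e => Subtype.ext (congrArg (fun z : wt Q ψ o => z.1) e)) ?_
      refine Finset.sum_le_sum_of_subset fun o ho => ?_
      simp only [Finset.mem_filter, Finset.mem_univ, true_and] at ho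
      obtain ⟨ho, hnt⟩ := ho
      have hl := (hcases o).resolve_left hnt
      have hfixed : ∀ b ∈ wt Q ψ o, g.1.1 b = b := by
        intro b hb
        rcases eq_or_ne b 0 with rfl | hb0
        · exact map_zero _
        obtain ⟨-, v, hv, hspan⟩ := hl
        have hgb : g.1.1 b ∈ wt Q ψ o := by rw [← ho]; exact (mem_wt_smul hψ g o b).2 hb
        obtain ⟨a, ha⟩ := Submodule.mem_span_singleton.1 (hspan b hb)
        obtain ⟨a', ha'⟩ := Submodule.mem_span_singleton.1 (hspan _ hgb)
        have ha0 : a ≠ 0 := fun e => hb0 (by rw [← ha, e, zero_smul])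
        -- an eigenvector of a unipotent element is fixed
        set μ := a' / a with hμ
        have hev : g.1.1 b = μ • b := by
          rw [← ha', ← ha, hμ, smul_smul, div_mul_cancel₀ _ ha0]
        by_contra hne
        have hμ1 : μ - 1 ≠ 0 := fun e => hne (by rw [hev, sub_eq_zero.1 e, one_smul])
        have hval : (μ - 1) • b = polar Q b u • w' - (polar Q b w' + Q w' * polar Q b u) • u := by
          rw [sub_smul, one_smul, ← hev]
          change (siegel Q u w').1 b - b = _
          rw [siegel_apply hu huw]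
          abel
        apply hne
        rw [hgv]
        have huu : polar Q u u = 0 := by rw [QuadraticMap.polar_self, hu, smul_zero]
        have hww : polar Q w' w' = 0 := by rw [QuadraticMap.polar_self, hw', smul_zero]
        constructor
        · have e := congrArg (polar Q u) hval
          simp only [polar_smul_right, polar_sub_right, huu, huw, smul_eq_mul, mul_zero, sub_zero, mul_eq_zero,
            or_iff_right hμ1] at e
          exact e
        · have e := congrArg (polar Q w') hval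
          simp only [polar_smul_right, polar_sub_right, hww, polar_comm (⇑Q) w' u, huw,
            smul_eq_mul, mul_zero, sub_zero, mul_eq_zero, or_iff_right hμ1] at e
          exact e
      simp only [hB, hA, Finset.mem_filter, Finset.mem_univ, true_and]
      exact ⟨⟨hl, fun b hb => ((hgv b).1 (hfixed b hb)).1⟩, fun b hb => ((hgv b).1 (hfixed b hb)).2⟩
  -- the two elements are conjugate
  have h3 : fixX X (eH hQ hn u) = fixX X (liftC Q g) := by
    obtain ⟨w, c, k, hc, hQw, hconj⟩ := exists_fix_eq (hQ := hQ) (hn := hn) hu hu0 huw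
    have hw0 : w ≠ 0 := fun e => by
      rw [e, eH_zero, eq_comm, mul_inv_eq_one, mul_eq_left] at hconj
      obtain ⟨y, hy⟩ := exists_polar_ne hQ hu0
      have hy' : polar Q u y = 0 := ((hgv y).1 (by
        have h := congrArg (fun z : OG Q => (z.1.1 (emb y)).2) hconj
        exact h)).1
      exact hy hy'
    rw [← eH_conj_level hψ hQ hn hu0 hw0 (by rw [hu, hQw, hw', mul_zero]), hconj, fixX_conj]
  have h4 : ∑ o ∈ D, Nat.card (wt Q ψ o) ≤ T.card * q ^ (finrank F W - 2) := by
    have hsp : ∑ o ∈ B, Nat.card (wt Q ψ o) + ∑ o ∈ D, Nat.card (wt Q ψ o) = ∑ o ∈ A, Nat.card (wt Q ψ o) := by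
      rw [hB, hD]
      convert Finset.sum_filter_add_sum_filter_not A _ _ using 3
    rw [h3] at h1
    omega
  -- per non-zero weight
  have h5 : q * ∑ v : {v : W // polar Q u v = 0 ∧ polar Q w' v ≠ 0}, nline hQ hn X ψ v.1 ≤
      (q - 1) * ∑ o ∈ D, Nat.card (wt Q ψ o) := by
    simp only [nline, Nat.card_eq_fintype_card (α := {o : EOrb hQ hn X // _}), Fintype.card_subtype,
      Finset.card_filter]
    rw [Finset.sum_comm, Finset.mul_sum, Finset.mul_sum]
    refine le_trans (le_of_eq (Finset.sum_subset (Finset.subset_univ D) fun o _ ho => ?_).symm) ?_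
    rotate_left
    · refine Finset.sum_le_sum fun o ho => ?_
      have hl : IsLine ψ o := by
        simp only [hD, hA, Finset.mem_filter] at ho
        exact ho.1.2.1
      set k := ∑ v : {v : W // polar Q u v = 0 ∧ polar Q w' v ≠ 0}, if IsLine ψ o ∧ v.1 ∈ wt Q ψ o then 1 else 0
      have hk : k + 1 ≤ Nat.card (wt Q ψ o) := by
        rw [show k = (Finset.univ.filter fun v : {v : W // polar Q u v = 0 ∧ polar Q w' v ≠ 0} =>
          IsLine ψ o ∧ v.1 ∈ wt Q ψ o).card from (Finset.card_filter _ _).symm, Nat.card_eq_fintype_card,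
          ← Fintype.card_coe, ← Fintype.card_option]
        refine Fintype.card_le_of_injective (fun x => x.elim (0 : wt Q ψ o) fun v => (⟨v.1.1, (Finset.mem_filter.1 v.2).2.2⟩ : wt Q ψ o)) ?_
        rintro (_ | v) (_ | v') h
        · rfl
        · exact absurd (congrArg (fun z : wt Q ψ o => (z : W)) h).symm fun e => v'.1.2.2 (by
            rw [show v'.1.1 = 0 from e, polar_zero_right])
        · exact absurd (congrArg (fun z : wt Q ψ o => (z : W)) h) fun e => v.1.2.2 (by
            rw [show v.1.1 = 0 from e, polar_zero_right])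
        · exact congrArg some (Subtype.ext (Subtype.ext (congrArg (fun z : wt Q ψ o => (z : W)) h)))
      have hle : Nat.card (wt Q ψ o) ≤ q := card_wt_line hl
      obtain ⟨p, hp⟩ : ∃ p, q = p + 1 := ⟨q - 1, by omega⟩
      rw [hp, Nat.add_sub_cancel]
      nlinarith
    · rw [mul_eq_zero]
      refine Or.inr (Finset.sum_eq_zero fun v _ => if_neg ?_)
      rintro ⟨hl, hv⟩
      apply ho
      obtain ⟨-, x, hx, hspan⟩ := id hl
      obtain ⟨a, ha⟩ := Submodule.mem_span_singleton.1 (hspan v.1 hv)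
      have ha0 : a ≠ 0 := fun e => v.2.2 (by rw [← ha, e, zero_smul, polar_zero_right])
      have hx1 : polar Q u x = 0 := by
        have h := v.2.1
        rw [← ha, polar_smul_right, smul_eq_mul, mul_eq_zero] at h
        exact h.resolve_left ha0
      simp only [hD, hA, Finset.mem_filter, Finset.mem_univ, true_and]
      exact ⟨⟨hl, fun b hb => by
        obtain ⟨c, rfl⟩ := Submodule.mem_span_singleton.1 (hspan b hb)
        rw [polar_smul_right, hx1, smul_zero]⟩, fun h => v.2.2 (h v.1 hv)⟩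
  exact h5.trans (Nat.mul_le_mul_left _ h4)

/-- The counting argument, with the inputs that depend on the size of the field as hypotheses. -/
theorem false_of_data [Nontrivial X] [MulAction.IsPretransitive (OG Q) X] (hsmall : IsSmall Q X)
    (hN : finrank F W = 5 → (2 : F) ≠ 0) (hns : NSTop hQ hn X ψ)
    (hspec : ∀ (o : EOrb hQ hn X) (U : Submodule F W), 2 ≤ finrank F U → (∀ u ∈ U, Q u = 0) →
      wt Q ψ o = U.toAddSubgroup → False)
    (h2N : Nat.card X < 2 * Fintype.card F ^ finrank F W)
    (hnl : ∀ v : W, Q v ≠ 0 → 0 < nline hQ hn X ψ v →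
      (∀ (S : Finset F) (k : ℕ), (∀ a ∈ S, ∀ v : W, v ≠ 0 → Q v = a → k ≤ nline hQ hn X ψ v) →
        S.card * k ≤ Nat.card {o : EOrb hQ hn X // wt Q ψ o = ⊤}) →
      Nat.card {o : EOrb hQ hn X // wt Q ψ o = ⊤} ≤ 1 → False)
    (hreg : ∀ o₁ : EOrb hQ hn X, (∀ o : EOrb hQ hn X, o = o₁) → wt Q ψ o₁ = ⊤ → False) : False := by
  haveI : Finite W := Module.finite_of_finite F
  haveI := Fintype.ofFinite W
  have hlt := (isSmall_iff X).1 hsmall
  haveI := Fintype.ofFinite (EOrb hQ hn X)
  set q := Fintype.card F with hq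
  have hq2 : 2 ≤ q := Fintype.one_lt_card
  set N := finrank F W with hNdef
  -- no fixed point of the radical
  have hfree : ∀ o : EOrb hQ hn X, wt Q ψ o ≠ ⊥ := fun o ho =>
    not_fixed hQ hn hsmall o.out.pt fun w => (wt_eq_bot_iff Q ψ hQ hψ o).1 ho w
  have hcases : ∀ o : EOrb hQ hn X, wt Q ψ o = ⊤ ∨ IsLine ψ o := fun o => by
    by_cases ht : wt Q ψ o = ⊤
    · exact Or.inl ht
    rcases wt_cases hψ hsmall hN hns o with h | h | ⟨U, hU2, hUts, hU⟩
    · exact Or.inl h
    · exact Or.inr ⟨ht, h⟩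
    · exact (hspec o U hU2 hUts hU).elim
  set T := Finset.univ.filter fun o : EOrb hQ hn X => wt Q ψ o = ⊤ with hT
  have hd : Nat.card X = ∑ o : EOrb hQ hn X, Nat.card (wt Q ψ o) := card_eq_sum Q ψ hQ hψ (Y := EX hQ hn X)
  have hTd : T.card * q ^ N + ∑ o ∈ Tᶜ, Nat.card (wt Q ψ o) = Nat.card X := by
    rw [hd, ← Finset.sum_add_sum_compl T, Finset.sum_congr rfl fun o ho => card_wt_top (Finset.mem_filter.1 ho).2,
      Finset.sum_const, smul_eq_mul]
  have hT1 : T.card ≤ 1 := by
    by_contra h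
    push Not at h
    have h2 := h2N
    have := Nat.mul_le_mul_right (q ^ N) h
    omega
  -- a totally singular plane
  obtain ⟨P, hP2, hPts⟩ := exists_ts_plane hQ hn
  let bP := Module.finBasisOfFinrankEq F P hP2
  set u : W := (bP 0).1
  set w' : W := (bP 1).1
  have hli : LinearIndependent F ![u, w'] := by
    have h := bP.linearIndependent.map' P.subtype P.ker_subtype
    have e : (P.subtype : P → W) ∘ bP = ![u, w'] := by funext j; fin_cases j <;> rfl
    rw [e] at h
    exact h
  have hu0 : u ≠ 0 := hli.ne_zero 0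
  have huw : polar Q u w' = 0 := ts_polar hPts (bP 0).2 (bP 1).2
  have hu : Q u = 0 := hPts _ (bP 0).2
  have hw' : Q w' = 0 := hPts _ (bP 1).2
  have hineq := line_ineq hψ hcases hu0 hu hw' huw hli
  rw [← hq, ← hNdef, ← hT] at hineq
  -- a level set inside the range of the inequality
  have hclass : ∀ (S : Finset F) (k : ℕ),
      (∀ a ∈ S, ∀ v : W, v ≠ 0 → Q v = a → k ≤ nline hQ hn X ψ v) → S.card * k ≤ T.card := by
    intro S k hk
    set c := (q - 1) * q ^ (N - 2) / q
    have hcq : q * c = (q - 1) * q ^ (N - 2) := by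
      refine Nat.mul_div_cancel' (Dvd.dvd.mul_left ?_ _)
      exact dvd_pow_self q (by omega)
    have h1 : S.card * k * c ≤ ∑ v : {v : W // polar Q u v = 0 ∧ polar Q w' v ≠ 0}, nline hQ hn X ψ v.1 := by
      have hdis : Set.PairwiseDisjoint (S : Set F) fun a => Finset.univ.filter
          fun v : {v : W // polar Q u v = 0 ∧ polar Q w' v ≠ 0} => Q v.1 = a :=
        fun a _ b _ hab => Finset.disjoint_left.2 fun v hva hvb => hab (by
          simp only [Finset.mem_filter] at hva hvb
          exact hva.2.symm.trans hvb.2)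
      refine le_trans ?_ (Finset.sum_le_sum_of_subset (Finset.subset_univ (S.biUnion fun a => Finset.univ.filter
        fun v : {v : W // polar Q u v = 0 ∧ polar Q w' v ≠ 0} => Q v.1 = a)))
      rw [Finset.sum_biUnion hdis, mul_assoc, ← smul_eq_mul, ← Finset.sum_const]
      refine Finset.sum_le_sum fun a ha => ?_
      refine le_trans (le_of_eq ?_) (Finset.card_nsmul_le_sum _ _ k fun v hv => hk a ha v.1
        (fun e => v.2.2 (by rw [e, polar_zero_right])) (Finset.mem_filter.1 hv).2)
      rw [smul_eq_mul, mul_comm, ← Fintype.card_subtype, ← Nat.card_eq_fintype_card,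
        Nat.card_congr (Equiv.subtypeSubtypeEquivSubtypeInter
          (fun v => polar Q u v = 0 ∧ polar Q w' v ≠ 0) (fun v => Q v = a)),
        card_perp_diff hQ hw' huw hli a]
    have hpos : 0 < (q - 1) * q ^ (N - 2) := Nat.mul_pos (by omega) (pow_pos (by omega) _)
    refine Nat.le_of_mul_le_mul_right ?_ hpos
    have := Nat.mul_le_mul_left q h1
    calc S.card * k * ((q - 1) * q ^ (N - 2)) = q * (S.card * k * c) := by rw [← hcq]; ring
      _ ≤ (q - 1) * (T.card * q ^ (N - 2)) := this.trans hineq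
      _ = _ := by ring
  -- no non-singular line weights
  have hns0 : ∀ v : W, Q v ≠ 0 → nline hQ hn X ψ v = 0 := fun v hv => by
    by_contra h
    have hTn : Nat.card {o : EOrb hQ hn X // wt Q ψ o = ⊤} = T.card := by
      rw [Nat.card_eq_fintype_card, Fintype.card_subtype]
    exact hnl v hv (Nat.pos_of_ne_zero h) (fun S k hk => hTn.symm ▸ hclass S k hk) (hTn.symm ▸ hT1)
  have hsing : nline hQ hn X ψ u ≤ T.card := by
    have h := hclass {0} (nline hQ hn X ψ u) fun a ha w hw0 hw => by
      rw [Finset.mem_singleton] at ha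
      exact le_of_eq (nline_level hψ hu0 hw0 (by rw [hu, hw, ha]))
    rwa [Finset.card_singleton, one_mul] at h
  obtain ⟨x₀⟩ : Nonempty X := inferInstance
  set o₀ : EOrb hQ hn X := Quotient.mk'' (EX.of x₀)
  -- vectors of line orbits
  have hline0 : ∀ o : EOrb hQ hn X, IsLine ψ o → 0 < nline hQ hn X ψ u := by
    intro o ho
    obtain ⟨b, hb, hb0⟩ : ∃ b ∈ wt Q ψ o, b ≠ 0 := by
      by_contra h0
      push Not at h0
      exact hfree o ((AddSubgroup.eq_bot_iff_forall _).2 h0)
    have hpos : 0 < nline hQ hn X ψ b := by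
      haveI : Nonempty {o : EOrb hQ hn X // IsLine ψ o ∧ b ∈ wt Q ψ o} := ⟨⟨o, ho, hb⟩⟩
      exact Nat.card_pos
    have hQb : Q b = 0 := by
      by_contra h
      rw [hns0 b h] at hpos
      exact lt_irrefl 0 hpos
    rwa [nline_level hψ hu0 hb0 (by rw [hu, hQb])]
  have hTc : T.card = 1 := by
    by_contra h
    have h0 : T.card = 0 := by omega
    have : ¬IsLine ψ o₀ := fun hl => by have := hline0 o₀ hl; omega
    have hmem : o₀ ∈ T := Finset.mem_filter.2 ⟨Finset.mem_univ _, (hcases o₀).resolve_right this⟩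
    rw [Finset.card_eq_zero.1 h0] at hmem
    exact Finset.notMem_empty _ hmem
  obtain ⟨o₁, ho₁⟩ := Finset.card_eq_one.1 hTc
  have hmem₁ : ∀ o, wt Q ψ o = ⊤ ↔ o = o₁ := fun o => by
    rw [show wt Q ψ o = ⊤ ↔ o ∈ T by simp [hT], ho₁, Finset.mem_singleton]
  by_cases hline : ∃ o : EOrb hQ hn X, IsLine ψ o
  swap
  · -- a single regular orbit
    push Not at hline
    have hall : ∀ o : EOrb hQ hn X, o = o₁ := fun o => (hmem₁ o).1 ((hcases o).resolve_right (hline o))
    exact hreg o₁ hall ((hmem₁ o₁).2 rfl)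
  obtain ⟨ol, hol⟩ := hline
  have hR : nline hQ hn X ψ u = 1 := by have := hline0 ol hol; omega
  -- the line orbits cover the singular vectors
  have hsum : nz Q 0 + (Tᶜ).card ≤ ∑ o ∈ Tᶜ, Nat.card (wt Q ψ o) := by
    have hk : ∀ v : {v : W // v ≠ 0 ∧ Q v = 0}, ∃ o : EOrb hQ hn X, o ∈ Tᶜ ∧ v.1 ∈ wt Q ψ o := by
      rintro ⟨v, hv0, hv⟩
      have hp : 0 < nline hQ hn X ψ v := by
        rw [← nline_level hψ hu0 hv0 (by rw [hu, hv]), hR]; exact one_pos
      obtain ⟨⟨o, hl, hvo⟩⟩ := (Nat.card_pos_iff.1 hp).1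
      exact ⟨o, Finset.mem_compl.2 fun h => hl.1 (Finset.mem_filter.1 h).2, hvo⟩
    choose f hf hfv using hk
    rw [nz, ← Fintype.card_coe, ← Nat.card_eq_fintype_card (α := {o // o ∈ Tᶜ}), ← Nat.card_sum,
      ← Finset.sum_attach, ← Finset.univ_eq_attach, ← Nat.card_sigma]
    refine Nat.card_le_card_of_injective (Sum.elim (fun v => ⟨⟨f v, hf v⟩, v.1, hfv v⟩)
      (fun o => ⟨o, 0, zero_mem _⟩) : _ → Σ o : {o // o ∈ Tᶜ}, wt Q ψ o.1) ?_
    rintro (v | o) (v' | o') h
    · exact congrArg Sum.inl (Subtype.ext (congrArg (fun p : Σ o : {o // o ∈ Tᶜ}, wt Q ψ o.1 => (p.2 : W)) h))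
    · exact absurd (congrArg (fun p : Σ o : {o // o ∈ Tᶜ}, wt Q ψ o.1 => (p.2 : W)) h) v.2.1
    · exact absurd (congrArg (fun p : Σ o : {o // o ∈ Tᶜ}, wt Q ψ o.1 => (p.2 : W)) h).symm v'.2.1
    · exact congrArg Sum.inr (congrArg (fun p : Σ o : {o // o ∈ Tᶜ}, wt Q ψ o.1 => p.1) h)
  have hsum2 : ∑ o ∈ Tᶜ, Nat.card (wt Q ψ o) ≤ (Tᶜ).card * q := by
    refine le_trans (Finset.sum_le_card_nsmul _ _ q fun o ho => card_wt_line
      ((hcases o).resolve_left fun h => Finset.mem_compl.1 ho (Finset.mem_filter.2 ⟨Finset.mem_univ _, h⟩))) ?_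
    rw [smul_eq_mul]
  set Sl := ∑ o ∈ Tᶜ, Nat.card (wt Q ψ o) with hSl
  have hline_ge : q * nz Q 0 ≤ (q - 1) * Sl := by
    have h1 := Nat.mul_le_mul_left q hsum
    rw [Nat.mul_add] at h1
    rw [mul_comm (Tᶜ).card q] at hsum2
    rw [Nat.sub_mul, one_mul]
    omega
  -- so the set has one element less than the points
  have hspt : (q - 1) * Nat.card (SPt (hypSum Q)) = (q - 1) * (q ^ N + 1) + q * nz Q 0 := by
    rw [mul_comm, card_spt_mul, nz_hypSum_eq]
  have hd1 : Nat.card X + 1 = Nat.card (SPt (hypSum Q)) := by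
    refine le_antisymm hlt ?_
    refine Nat.le_of_mul_le_mul_left ?_ (show 0 < q - 1 by omega)
    rw [hspt, ← hTd, hTc, one_mul, Nat.mul_add, Nat.mul_add, Nat.mul_add]
    omega
  -- the free points form the regular orbit
  have hfree_card : Nat.card {ω : X // ∀ w : W, eH hQ hn w • ω = ω → w = 0} = q ^ N := by
    rw [← card_wt_top ((hmem₁ o₁).2 rfl), show wt Q ψ o₁ = ann Q ψ (stabilizer W o₁.out) from rfl,
      ← card_orbit Q ψ hQ hψ o₁.out]
    refine Nat.card_congr (Equiv.subtypeEquivRight (α := EX hQ hn X) fun y => ?_)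
    have hiff : (∀ w : W, eH hQ hn w • y.pt = y.pt → w = 0) ↔
        wt Q ψ (Quotient.mk'' y : EOrb hQ hn X) = ⊤ := by
      rw [wt_mk]
      constructor
      · intro h
        rw [show stabilizer W y = ⊥ from (AddSubgroup.eq_bot_iff_forall _).2 fun w hw => h w hw]
        exact ann_bot hQ hψ
      · intro h w hw
        have hst := congrArg (ann Q ψ) h
        rw [ann_ann hQ hψ, ann_top hQ hψ] at hst
        exact AddSubgroup.mem_bot.1 (hst ▸ hw)
    refine hiff.trans ((hmem₁ _).trans ?_)
    exact ⟨fun h => orbitRel_apply.1 (Quotient.eq''.1 (h.trans (Quotient.out_eq' o₁).symm)),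
      fun h => (Quotient.sound' (orbitRel_apply.2 h)).trans (Quotient.out_eq' o₁)⟩
  have hdvd := dvd_free (X := X) hQ hn
  rw [hfree_card, ← hd1] at hdvd
  have hco : Nat.Coprime (Nat.card X) (Nat.card X + 1) := Nat.coprime_self_add_right.2 (Nat.coprime_one_right _)
  have hle := Nat.le_of_dvd (pow_pos (by omega) N) (hco.dvd_of_dvd_mul_left hdvd)
  have hpos : 0 < Sl := by
    refine lt_of_lt_of_le ?_ (Finset.single_le_sum (fun o _ => Nat.zero_le _)
      (Finset.mem_compl.2 fun h => hol.1 (Finset.mem_filter.1 h).2 : ol ∈ Tᶜ))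
    exact Nat.card_pos
  rw [hTc, one_mul] at hTd
  omega

/-- A single regular orbit is impossible when some torus element has no fixed vector. -/
theorem false_of_regular (hQ : (polarBilin Q).Nondegenerate) (hn : 5 ≤ finrank F W) (h4 : 4 ≤ Fintype.card F)
    (o₁ : EOrb hQ hn X) (hall : ∀ o : EOrb hQ hn X, o = o₁) (ho₁ : wt Q ψ o₁ = ⊤) : False := by
    haveI := Fintype.ofFinite (EOrb hQ hn X)
    obtain ⟨P, hP2, hPts⟩ := exists_ts_plane hQ hn
    let bP := Module.finBasisOfFinrankEq F P hP2
    set u : W := (bP 0).1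
    set w' : W := (bP 1).1
    have hli : LinearIndependent F ![u, w'] := by
      have h := bP.linearIndependent.map' P.subtype P.ker_subtype
      have e : (P.subtype : P → W) ∘ bP = ![u, w'] := by funext j; fin_cases j <;> rfl
      rw [e] at h
      exact h
    have hu0 : u ≠ 0 := hli.ne_zero 0
    have huw : polar Q u w' = 0 := ts_polar hPts (bP 0).2 (bP 1).2
    have hu : Q u = 0 := hPts _ (bP 0).2
    obtain ⟨s, hs, hs1⟩ := exists_unit_not_sq_one (F := F) h4
    have h1 := exists_torus_fixed hψ s hs hs1 o₁ (fun y _ => hall _)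
      ⟨siegel Q u w', siegel_mem_commutator hQ hn hu huw⟩ (hall _)
    obtain ⟨w, c, g, hc, hQw, hconj⟩ := exists_fix_eq (hQ := hQ) (hn := hn) hu hu0 huw
    have h2 : fixX X (eH hQ hn w) = fixX X (liftC Q ⟨siegel Q u w', siegel_mem_commutator hQ hn hu huw⟩) := by
      rw [hconj, fixX_conj]
    rw [← h2] at h1
    rw [fixX_eH hψ] at h1
    refine absurd (le_of_le_of_eq h1 (Finset.sum_eq_zero fun o _ => if_neg fun h => ?_)) (by omega)
    by_cases hw0 : w = 0
    · -- then the element of the Levi complement is trivial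
      rw [hw0, eH_zero, eq_comm, mul_inv_eq_one, mul_eq_left] at hconj
      obtain ⟨y, hy⟩ := exists_polar_ne hQ hu0
      have hv := congrArg (fun z : OG Q => (z.1.1 (emb y)).2) hconj
      change (siegel Q u w').1 y = y at hv
      rw [siegel_apply hu huw, add_sub_assoc, add_eq_left, polar_comm (⇑Q) y u, sub_eq_add_neg, ← neg_smul] at hv
      exact hy ((LinearIndependent.pair_iff.1 hli _ _ (by rw [add_comm]; exact hv)).2)
    · obtain ⟨y, hy⟩ := exists_polar_ne hQ hw0
      obtain ⟨r, hr⟩ := exists_psi_ne hψ hy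
      exact hr (h _ (by rw [show wt Q ψ o = ⊤ by rw [hall o]; exact ho₁]; trivial))

omit hψ in
/-- The minimal size of a transitive set. -/
theorem spt_le_card [Nontrivial X] [MulAction.IsPretransitive (OG Q) X] (hQ : (polarBilin Q).Nondegenerate)
    (hn : 5 ≤ finrank F W) (hN : finrank F W = 5 → (2 : F) ≠ 0) (h4 : 4 ≤ Fintype.card F) :
    Nat.card (SPt (hypSum Q)) ≤ Nat.card X := by
  by_contra hlt
  push Not at hlt
  have hsmall : IsSmall Q X := (isSmall_iff X).2 hlt
  obtain ⟨ψ, hψ1⟩ : ∃ ψ : AddChar F ℂ, ψ 1 ≠ 1 := AddChar.exists_apply_ne_zero.2 one_ne_zero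
  have hψ : ψ ≠ 0 := fun e => hψ1 (by rw [e]; rfl)
  have hns : NSTop hQ hn X ψ := nsTop_of_fix hψ hsmall hN
    fun v hv o ho z x hz hzx hvz hvx => sg_fix_ns hψ hsmall h4 hv ho hz hzx hvz hvx
  refine false_of_data hψ hsmall hN hns
    (fun o U hU2 hUts hU => no_special hψ hsmall hN h4 hns (fun o ho => not_fixed hQ hn hsmall o.out.pt
      fun w => (wt_eq_bot_iff Q ψ hQ hψ o).1 ho w) o hU2 hUts hU)
    (small_le_two_mul hsmall hQ hn (by omega)) (fun v hv hpos hclass hT1 => ?_)
    (fun o₁ hall ho₁ => false_of_regular hψ hQ hn h4 o₁ hall ho₁)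
  obtain ⟨s, hs, hs1⟩ := exists_unit_not_sq_one (F := F) h4
  have hv0 : v ≠ 0 := fun e => hv (by rw [e, QuadraticMap.map_zero])
  have h := hclass {Q v, s * s * Q v} (nline hQ hn X ψ v) fun a ha w hw0 hw => by
    rcases Finset.mem_insert.1 ha with rfl | ha
    · exact le_of_eq (nline_level hψ hv0 hw0 hw.symm)
    · rw [Finset.mem_singleton] at ha
      exact nline_scale hψ hv0 hw0 hs (hw.trans ha)
  rw [Finset.card_pair fun e => hs1 (mul_right_cancel₀ hv (e.symm.trans (one_mul _).symm))] at h
  omega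

end CfsgLib.MinIdxOrth
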