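import Cfsg.Agent.MinIdxOrth.Main

/-!
A single regular orbit of the radical is impossible over fields with two or three elements:
the cocycle of the Levi complement would give a symmetric map commuting with its Siegel elements
and without eigenvectors.
-/

set_option autoImplicit false
set_option linter.style.haveILetI false
set_option linter.unusedSectionVars false

namespace CfsgLib.MinIdxOrth

open QuadraticMap Module AddAction CfsgLib.Forms CfsgLib.Quad CfsgLib.MinDeg.Om
open scoped Classical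

variable {F : Type*} [Field F] [Fintype F] {W : Type*} [AddCommGroup W] [Module F W] [FiniteDimensional F W]
  {Q : QuadraticForm F W}

/-- Prescribed polar values against two independent vectors. -/
theorem exists_pair_values (hQ : (polarBilin Q).Nondegenerate) {a x : W} (hli : LinearIndependent F ![a, x]) (α β : F) :
    ∃ y : W, polar Q y a = α ∧ polar Q y x = β := by
  let φ : W →ₗ[F] F × F := (polarFun Q a).prod (polarFun Q x)
  have hker : LinearMap.ker φ ≤ perpS Q (Submodule.span F (Set.range ![a, x])) := fun y hy w hw => by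
    obtain ⟨c, rfl⟩ := (Submodule.mem_span_range_iff_exists_fun F).1 hw
    rw [LinearMap.mem_ker] at hy
    have h1 : polar Q y a = 0 := congrArg Prod.fst hy
    have h2 : polar Q y x = 0 := congrArg Prod.snd hy
    simp [Fin.sum_univ_two, polar_add_left, polar_smul_left, polar_comm (⇑Q) a y, polar_comm (⇑Q) x y, h1, h2]
  have h1 := φ.finrank_range_add_finrank_ker
  have h2 := finrank_perpS hQ (Submodule.span F (Set.range ![a, x]))
  rw [finrank_span_eq_card hli, Fintype.card_fin] at h2
  have h3 := Submodule.finrank_mono hker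
  have h4 : finrank F (F × F) = 2 := by simp
  have htop : LinearMap.range φ = ⊤ := Submodule.eq_top_of_finrank_eq (by
    have := Submodule.finrank_le (LinearMap.range φ)
    omega)
  obtain ⟨y, hy⟩ := (LinearMap.range_eq_top.1 htop) (α, β)
  exact ⟨y, congrArg Prod.fst hy, congrArg Prod.snd hy⟩

/-- Equivariance of a map under a Siegel element, up to a scalar. -/
def SiegelCompat (Q : QuadraticForm F W) (T : Submodule F W) (cb : W → W) : Prop :=
  ∀ x ∈ T, ∀ b ∈ T, Q x = 0 → polar Q x b = 0 → ∃ l : F, ∀ a ∈ T, ∀ t ∈ T,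
    polar Q (a + polar Q a x • b - (polar Q a b + Q b * polar Q a x) • x) (cb t) =
      polar Q (cb a + polar Q (cb a) x • b - (polar Q (cb a) b + Q b * polar Q (cb a) x) • x) t
        - l * polar Q (a + polar Q a x • b - (polar Q a b + Q b * polar Q a x) • x) t

variable (hQ : (polarBilin Q).Nondegenerate) {T : Submodule F W}
  (hT : (polarBilin (resQ Q T)).Nondegenerate) {cb : W → W}
  (hcbT : ∀ a ∈ T, cb a ∈ T) (hsym : ∀ a ∈ T, ∀ t ∈ T, polar Q (cb a) t = polar Q a (cb t))
  (hcompat : SiegelCompat Q T cb)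
include hQ hT hcbT hsym hcompat

omit hQ hsym hcompat in
theorem eq_smul_of_forall {a : W} (ha : a ∈ T) {l : F} (h : ∀ t ∈ T, polar Q (cb a) t = l * polar Q a t) :
    cb a = l • a := by
  have hm : cb a - l • a ∈ T := T.sub_mem (hcbT a ha) (T.smul_mem _ ha)
  have h0 := hT.1 ⟨_, hm⟩ fun y => by
    change polar Q (cb a - l • a) y.1 = 0
    rw [polar_sub_left, polar_smul_left, h y.1 y.2, smul_eq_mul, sub_self]
  exact sub_eq_zero.1 (congrArg Subtype.val h0)

theorem exists_eigen_two (h2 : Fintype.card F = 2) (hd : 4 ≤ finrank F T) :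
    ∃ a ∈ T, a ≠ 0 ∧ ∃ l : F, cb a = l • a := by
  have htwo : (2 : F) = 0 := by
    have h := Nat.cast_card_eq_zero F
    rwa [h2] at h
  have h01 : ∀ t : F, t = 0 ∨ t = 1 := by
    intro t
    by_contra hc
    push Not at hc
    have h3 : ({0, 1, t} : Finset F).card = 3 := by
      rw [Finset.card_insert_of_notMem (by simp [hc.1.symm]), Finset.card_pair hc.2.symm]
    have := Finset.card_le_univ ({0, 1, t} : Finset F)
    omega
  have hsq : ∀ t : F, t * t = t := fun t => by rcases h01 t with rfl | rfl <;> simp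
  obtain ⟨⟨a, haT⟩, haQ⟩ := exists_aniso hT (by omega)
  have hQa : Q a = 1 := (h01 _).resolve_left haQ
  have ha0 : a ≠ 0 := fun e => haQ (show Q a = 0 by rw [e, QuadraticMap.map_zero])
  refine ⟨a, haT, ha0, ?_⟩
  set A : Submodule F T := Submodule.span F {(⟨a, haT⟩ : T)}
  set P := perpS (resQ Q T) A
  have hP : _ + finrank F P = _ := finrank_perpS hT A
  have hA : finrank F A = 1 := finrank_span_singleton fun e => ha0 (congrArg Subtype.val e)
  obtain ⟨y₁, hy₁P, hy₁⟩ : ∃ y ∈ P, y ∉ A := by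
    by_contra hc
    push Not at hc
    have := Submodule.finrank_mono (show P ≤ A from hc)
    omega
  obtain ⟨y₂, hy₂P, hy₂⟩ : ∃ y ∈ P, y ∉ A ⊔ Submodule.span F {y₁} := by
    by_contra hc
    push Not at hc
    have h := Submodule.finrank_mono (show P ≤ A ⊔ Submodule.span F {y₁} from hc)
    have h' := Submodule.finrank_add_le_finrank_add_finrank A (Submodule.span F {y₁})
    have h'' : finrank F (Submodule.span F ({y₁} : Set T)) ≤ 1 := by
      refine (finrank_span_le_card ({y₁} : Set T)).trans ?_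
      simp
    omega
  have haP : ∀ y ∈ P, polar Q a y.1 = 0 := fun y hy => hy ⟨a, haT⟩ (Submodule.mem_span_singleton_self _)
  -- unit vectors orthogonal to `a`
  have mk : ∀ y ∈ P, ∃ a' ∈ T, polar Q a a' = 0 ∧ Q a' = 1 ∧ ∃ k : F, a' = y.1 + k • a := by
    intro y hy
    refine ⟨y.1 + (1 + Q y.1) • a, T.add_mem y.2 (T.smul_mem _ haT), ?_, ?_, _, rfl⟩
    · rw [polar_add_right, haP y hy, polar_smul_right, QuadraticMap.polar_self, hQa, two_nsmul, one_add_one_eq_two,
        htwo, smul_zero, add_zero]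
    · rw [quad_add, quad_smul, hQa, polar_smul_right, polar_comm (⇑Q) y.1 a, haP y hy, smul_zero, add_zero, hsq]
      linear_combination (Q y.1) * htwo
  have key : ∀ a' ∈ T, polar Q a a' = 0 → Q a' = 1 → a' ∉ Submodule.span F {a} →
      ∃ k k' : F, cb a = k • a + k' • a' := by
    intro a' ha'T haa' hQa' hna'
    set x := a + a'
    have hxT : x ∈ T := T.add_mem haT ha'T
    have hx : Q x = 0 := by
      rw [show x = a + a' from rfl, quad_add, hQa, hQa', haa', add_zero, one_add_one_eq_two, htwo]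
    have haa : polar Q a a = 0 := by rw [QuadraticMap.polar_self, hQa, two_nsmul, one_add_one_eq_two, htwo]
    have hxa : polar Q x a = 0 := by rw [polar_add_left, haa, polar_comm, haa', add_zero]
    obtain ⟨l, hl⟩ := hcompat x hxT a haT hx hxa
    set U : Submodule F T := Submodule.span F (Set.range ![(⟨a, haT⟩ : T), ⟨x, hxT⟩])
    set Z := perpS (resQ Q T) U
    have hZ : ∀ z ∈ Z, polar Q a z.1 = 0 ∧ polar Q x z.1 = 0 := fun z hz =>
      ⟨hz _ (Submodule.subset_span ⟨0, rfl⟩), hz _ (Submodule.subset_span ⟨1, rfl⟩)⟩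
    have hx0 : x ≠ 0 := fun e => hna' (Submodule.mem_span_singleton.2 ⟨-1, by
      rw [neg_one_smul, eq_neg_of_add_eq_zero_right e]⟩)
    have hli : LinearIndependent F ![(⟨a, haT⟩ : T), ⟨x, hxT⟩] := by
      rw [LinearIndependent.pair_iff' (fun e => ha0 (congrArg Subtype.val e))]
      intro k hk
      have hk' : k • a = x := congrArg Subtype.val hk
      exact hna' (Submodule.mem_span_singleton.2 ⟨k - 1, by rw [sub_smul, one_smul, hk', add_sub_cancel_left]⟩)
    -- partners
    obtain ⟨⟨y, hyT⟩, hya, hyx⟩ := exists_pair_values hT hli (0 : F) 1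
    obtain ⟨⟨w, hwT⟩, hwa, hwx⟩ := exists_pair_values hT hli (1 : F) 0
    change polar Q y a = 0 at hya
    change polar Q y x = 1 at hyx
    change polar Q w a = 1 at hwa
    change polar Q w x = 0 at hwx
    -- the scalar is trivial
    have hl0 : l = 0 := by
      have h := hl y hyT y hyT
      rw [hyx, hya] at h
      simp only [polar_add_left, polar_sub_left, polar_smul_left, smul_eq_mul, polar_comm (⇑Q) a y, hya,
        polar_comm (⇑Q) x y, hyx, hQa, mul_zero, mul_one, one_mul, zero_add, add_zero] at h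
      rw [hsym y hyT y hyT, hsym y hyT a haT, hsym y hyT x hxT, polar_comm (⇑Q) y (cb a),
        polar_comm (⇑Q) y (cb x), hsym a haT y hyT, hsym x hxT y hyT] at h
      rw [QuadraticMap.polar_self, two_nsmul, ← two_mul, htwo] at h
      linear_combination -h + (polar Q a (cb y)) * htwo
    -- the orthogonal space is invariant
    have hinv : ∀ z ∈ Z, polar Q a (cb z.1) = 0 := by
      intro z hz
      obtain ⟨h1, h2⟩ := hZ z hz
      have hzero : ∀ w ∈ T, polar Q (polar Q w x • a - (polar Q w a + polar Q w x) • x) (cb z.1) = 0 := by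
        intro w hw
        have h := hl w hw z.1 z.2
        rw [hl0, zero_mul, sub_zero, add_sub_assoc, add_sub_assoc, polar_add_left, hQa, one_mul, hsym w hw z.1 z.2 |>.symm,
          one_mul, polar_add_left] at h
        simp only [polar_sub_left, polar_smul_left, h1, h2, smul_zero, sub_zero, add_zero] at h
        rw [polar_sub_left, polar_smul_left, polar_smul_left]
        linear_combination h
      have h := hzero y hyT
      rw [hyx, hya, one_smul, zero_add, one_smul, polar_sub_left] at h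
      have h' := hzero w hwT
      rw [hwx, hwa, zero_smul, add_zero, one_smul, zero_sub, polar_neg_left, neg_eq_zero] at h'
      rwa [h', sub_zero] at h
    have hmem : (⟨cb a, hcbT a haT⟩ : T) ∈ perpS (resQ Q T) Z := fun z hz => by
      change polar Q z.1 (cb a) = 0
      rw [polar_comm, hsym a haT z.1 z.2]
      exact hinv z hz
    rw [perpS_perpS hT, Submodule.mem_span_range_iff_exists_fun] at hmem
    obtain ⟨k, hk⟩ := hmem
    have hk' := congrArg Subtype.val hk
    rw [Fin.sum_univ_two] at hk'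
    refine ⟨k 0 + k 1, k 1, ?_⟩
    rw [← show k 0 • a + k 1 • x = cb a from hk', smul_add, add_smul, add_assoc]
  obtain ⟨a₁, ha₁T, haa₁, hQa₁, k₁, hk₁⟩ := mk y₁ hy₁P
  obtain ⟨a₂, ha₂T, haa₂, hQa₂, k₂, hk₂⟩ := mk y₂ hy₂P
  have hn₁ : a₁ ∉ Submodule.span F {a} := fun h => by
    obtain ⟨k, hk⟩ := Submodule.mem_span_singleton.1 h
    exact hy₁ (Submodule.mem_span_singleton.2 ⟨k - k₁, Subtype.ext (by
      change (k - k₁) • a = y₁.1
      rw [sub_smul, hk, hk₁, add_sub_cancel_right])⟩)
  have hn₂ : a₂ ∉ Submodule.span F {a} := fun h => by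
    obtain ⟨k, hk⟩ := Submodule.mem_span_singleton.1 h
    exact hy₂ (Submodule.mem_sup_left (Submodule.mem_span_singleton.2 ⟨k - k₂, Subtype.ext (by
      change (k - k₂) • a = y₂.1
      rw [sub_smul, hk, hk₂, add_sub_cancel_right])⟩))
  obtain ⟨p, p', hp⟩ := key a₁ ha₁T haa₁ hQa₁ hn₁
  obtain ⟨r, r', hr⟩ := key a₂ ha₂T haa₂ hQa₂ hn₂
  refine ⟨p, ?_⟩
  by_cases hr' : r' = 0
  · have hp' : p' = 0 := by
      by_contra hne
      refine hn₁ (Submodule.mem_span_singleton.2 ⟨p'⁻¹ * (r - p), ?_⟩)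
      have e : p' • a₁ = (r - p) • a := by
        rw [hp, hr', zero_smul, add_zero] at hr
        rw [sub_smul, ← hr, add_sub_cancel_left]
      rw [← smul_smul, ← e, smul_smul, inv_mul_cancel₀ hne, one_smul]
    rw [hp, hp', zero_smul, add_zero]
  · exfalso
    apply hy₂
    have e : r' • a₂ = (p - r) • a + p' • a₁ := by
      rw [hp] at hr
      linear_combination (norm := module) -hr
    rw [Submodule.mem_sup]
    refine ⟨(r'⁻¹ * (p - r + p' * k₁) - k₂) • ⟨a, haT⟩,
      Submodule.smul_mem _ _ (Submodule.mem_span_singleton_self _), (r'⁻¹ * p') • y₁,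
      Submodule.smul_mem _ _ (Submodule.mem_span_singleton_self _), Subtype.ext ?_⟩
    change (r'⁻¹ * (p - r + p' * k₁) - k₂) • a + (r'⁻¹ * p') • y₁.1 = y₂.1
    have e2 : a₂ = r'⁻¹ • ((p - r) • a + p' • a₁) := by rw [← e, smul_smul, inv_mul_cancel₀ hr', one_smul]
    rw [eq_sub_of_add_eq hk₂.symm, e2, hk₁]
    module

omit hQ in
theorem exists_eigen_three (h3 : Fintype.card F = 3) (hd : 3 ≤ finrank F T) :
    ∃ a ∈ T, a ≠ 0 ∧ ∃ l : F, cb a = l • a := by
  have hthree : (3 : F) = 0 := by
    have h := Nat.cast_card_eq_zero F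
    rwa [h3] at h
  have htwo : (2 : F) ≠ 0 := fun h => one_ne_zero (show (1 : F) = 0 by linear_combination hthree - h)
  have hsq : ∀ t : F, t ≠ 0 → t * t = 1 := fun t ht => by
    rw [← pow_two, show (2 : ℕ) = Fintype.card F - 1 by omega, FiniteField.pow_card_sub_one_eq_one t ht]
  obtain ⟨z, -, hz0, hz⟩ := exists_singular_of_three (Q := resQ Q T) (⊤ : Submodule F T) (by rw [finrank_top]; omega)
  obtain ⟨y', hy', hxy', hR, hRd⟩ := exists_partner hT hz0 hz
  set R := perpS (resQ Q T) (Submodule.span F (Set.range ![z, y']))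
  -- consequences for a singular pair
  have pair : ∀ x y b : T, Q x.1 = 0 → Q y.1 = 0 → polar Q x.1 y.1 = 1 → polar Q x.1 b.1 = 0 →
      polar Q y.1 b.1 = 0 → Q b.1 ≠ 0 →
      polar Q (cb x.1) x.1 = 0 ∧ polar Q (cb y.1) b.1 = Q b.1 * polar Q (cb x.1) b.1 := by
    intro x y b hx hy hxy hxb hyb hb
    obtain ⟨l, hl⟩ := hcompat x.1 x.2 b.1 b.2 hx hxb
    have hxx : polar Q x.1 x.1 = 0 := by rw [QuadraticMap.polar_self, hx, smul_zero]
    have hyy : polar Q y.1 y.1 = 0 := by rw [QuadraticMap.polar_self, hy, smul_zero]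
    have hbb : polar Q b.1 b.1 = 2 * Q b.1 := by rw [QuadraticMap.polar_self, two_nsmul, two_mul]
    have h1 := hl x.1 x.2 b.1 b.2
    simp only [polar_add_left, polar_sub_left, polar_smul_left, smul_eq_mul, hxx, hxb, hbb, mul_zero, zero_mul,
      add_zero, sub_zero] at h1
    rw [← hsym x.1 x.2 b.1 b.2] at h1
    have e1 : polar Q (cb x.1) x.1 = 0 :=
      (mul_eq_zero.1 (show 2 * Q b.1 * polar Q (cb x.1) x.1 = 0 by linear_combination -h1)).resolve_left
        (mul_ne_zero htwo hb)
    have h2 := hl x.1 x.2 y.1 y.2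
    simp only [polar_add_left, polar_sub_left, polar_smul_left, smul_eq_mul, hxx, hxb, hxy, e1,
      polar_comm (⇑Q) b.1 y.1, hyb, mul_zero, mul_one, zero_mul, add_zero, sub_zero] at h2
    rw [← hsym x.1 x.2 y.1 y.2] at h2
    have el : l = -polar Q (cb x.1) b.1 := by linear_combination h2
    have h4 := hl y.1 y.2 y.1 y.2
    simp only [polar_add_left, polar_sub_left, polar_smul_left, smul_eq_mul, hyy, hyb, polar_comm (⇑Q) y.1 x.1, hxy,
      polar_comm (⇑Q) b.1 y.1, mul_zero, mul_one, one_mul, zero_add, add_zero, zero_sub] at h4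
    rw [← hsym y.1 y.2 y.1 y.2, ← hsym b.1 b.2 y.1 y.2, ← hsym x.1 x.2 y.1 y.2, hsym y.1 y.2 b.1 b.2,
      polar_comm (⇑Q) y.1 (cb b.1), hsym y.1 y.2 x.1 x.2, polar_comm (⇑Q) y.1 (cb x.1)] at h4
    refine ⟨e1, ?_⟩
    rw [hsym y.1 y.2 b.1 b.2, polar_comm (⇑Q) y.1 (cb b.1)]
    subst el
    linear_combination -h4 + (polar Q (cb b.1) y.1) * hthree
  have sing : ∀ x : T, Q x.1 = 0 → polar Q (cb x.1) x.1 = 0 := fun x hx => by
    rcases eq_or_ne x 0 with rfl | hx0
    · exact polar_zero_right _ _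
    obtain ⟨y, hy, hxy, hR', hRd'⟩ := exists_partner hT hx0 hx
    obtain ⟨b, hb⟩ := exists_aniso hR' (by omega)
    exact (pair x y b.1 hx hy hxy (b.2 x (Submodule.subset_span ⟨0, rfl⟩))
      (b.2 y (Submodule.subset_span ⟨1, rfl⟩)) hb).1
  have hzy : polar Q z.1 y'.1 = 1 := hxy'
  have hRv : ∀ b : R, polar Q z.1 b.1.1 = 0 ∧ polar Q y'.1 b.1.1 = 0 := fun b =>
    ⟨b.2 z (Submodule.subset_span ⟨0, rfl⟩), b.2 y' (Submodule.subset_span ⟨1, rfl⟩)⟩
  -- decomposition
  have hdec : ∀ t : T, ∃ b : R, t.1 = polar Q y'.1 t.1 • z.1 + polar Q z.1 t.1 • y'.1 + b.1.1 := by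
    intro t
    refine ⟨⟨t - polar Q y'.1 t.1 • z - polar Q z.1 t.1 • y', fun w hw => ?_⟩, ?_⟩
    · obtain ⟨c, rfl⟩ := (Submodule.mem_span_range_iff_exists_fun F).1 hw
      rw [Fin.sum_univ_two]
      change polar Q (c 0 • z.1 + c 1 • y'.1) (t.1 - polar Q y'.1 t.1 • z.1 - polar Q z.1 t.1 • y'.1) = 0
      simp only [polar_add_left, polar_sub_right, polar_smul_left, polar_smul_right, QuadraticMap.polar_self,
        show Q z.1 = 0 from hz, show Q y'.1 = 0 from hy', hzy, polar_comm (⇑Q) y'.1 z.1, smul_eq_mul, smul_zero]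
      ring
    · change t.1 = polar Q y'.1 t.1 • z.1 + polar Q z.1 t.1 • y'.1 +
        (t.1 - polar Q y'.1 t.1 • z.1 - polar Q z.1 t.1 • y'.1)
      abel
  obtain ⟨b₀, hb₀⟩ := exists_aniso hR (by omega)
  have hb₀' : Q b₀.1.1 ≠ 0 := hb₀
  obtain ⟨ez, eb⟩ := pair z y' b₀ hz hy' hzy (hRv b₀).1 (hRv b₀).2 hb₀'
  obtain ⟨ey, -⟩ := pair y' z b₀ hy' hz (by rw [polar_comm]; exact hzy) (hRv b₀).2 (hRv b₀).1 hb₀'
  rcases Nat.lt_or_ge (finrank F T) 4 with hlt | hge
  · -- the complement is a line
    set r := Q b₀.1.1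
    refine ⟨z.1 - r • y'.1, T.sub_mem z.2 (T.smul_mem _ y'.2), fun e => ?_, polar Q (cb z.1) y'.1,
      eq_smul_of_forall hT hcbT (T.sub_mem z.2 (T.smul_mem _ y'.2)) fun t ht => ?_⟩
    · have h := congrArg (fun v => polar Q y'.1 v) e
      simp [polar_sub_right, polar_smul_right, QuadraticMap.polar_self, show Q y'.1 = 0 from hy',
        polar_comm (⇑Q) y'.1 z.1, hzy] at h
    obtain ⟨b, hb⟩ := hdec ⟨t, ht⟩
    change t = polar Q y'.1 t • z.1 + polar Q z.1 t • y'.1 + b.1.1 at hb
    obtain ⟨s, hs⟩ : ∃ s : F, s • b₀.1.1 = b.1.1 := by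
      have h : finrank F R = 1 := by omega
      obtain ⟨s, hs⟩ := exists_smul_eq_of_finrank_eq_one h
        (fun e : b₀ = 0 => hb₀ (by rw [e]; exact QuadraticMap.map_zero _)) b
      exact ⟨s, congrArg (fun x : R => x.1.1) hs⟩
    rw [← hs] at hb
    rw [hsym _ (T.sub_mem z.2 (T.smul_mem _ y'.2)) t ht, polar_sub_left, polar_smul_left, ← hsym z.1 z.2 t ht,
      ← hsym y'.1 y'.2 t ht]
    conv_lhs => rw [hb]
    conv_rhs => rw [hb]
    simp only [polar_add_right, polar_sub_left, polar_smul_left, polar_smul_right, smul_eq_mul, (hRv b₀).1,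
      (hRv b₀).2, hzy, polar_comm (⇑Q) y'.1 z.1, QuadraticMap.polar_self, show Q z.1 = 0 from hz,
      show Q y'.1 = 0 from hy', smul_zero, ez, ey, eb]
    rw [hsym y'.1 y'.2 z.1 z.2, polar_comm (⇑Q) y'.1 (cb z.1)]
    linear_combination -(s * polar Q (cb z.1) b₀.1.1) * hsq r hb₀'
  · refine ⟨z.1, z.2, fun e => hz0 (Subtype.ext e), polar Q (cb z.1) y'.1,
      eq_smul_of_forall hT hcbT z.2 fun t ht => ?_⟩
    obtain ⟨b, hb⟩ := hdec ⟨t, ht⟩
    change t = polar Q y'.1 t • z.1 + polar Q z.1 t • y'.1 + b.1.1 at hb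
    -- the linear functional vanishes on the complement
    have hns : ∀ b : R, Q b.1.1 ≠ 0 → polar Q (cb z.1) b.1.1 = 0 := by
      intro b hb
      have hbd : Submodule.span F {b} ⊓ perpS (resQ (resQ Q T) R) (Submodule.span F {b}) = ⊥ := by
        refine (Submodule.eq_bot_iff _).2 ?_
        rintro w ⟨hw1, hw2⟩
        obtain ⟨c, rfl⟩ := Submodule.mem_span_singleton.1 hw1
        have h : polar Q b.1.1 (c • b.1.1) = 0 := hw2 b (Submodule.mem_span_singleton_self b)
        rw [polar_smul_right, QuadraticMap.polar_self, smul_eq_mul, two_nsmul, ← two_mul, mul_eq_zero,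
          or_iff_left (mul_ne_zero htwo hb)] at h
        rw [h, zero_smul]
      have hd' : _ + finrank F (perpS (resQ (resQ Q T) R) (Submodule.span F {b})) = finrank F R :=
        finrank_perpS hR _
      rw [finrank_span_singleton fun e : b = 0 => hb (by rw [e]; exact QuadraticMap.map_zero _)] at hd'
      obtain ⟨⟨b₂, hb₂⟩, hQb₂⟩ := exists_aniso (nondeg_perpS hR hbd) (by omega)
      have hb₂' : Q b₂.1.1 ≠ 0 := hQb₂
      have horth : polar Q b.1.1 b₂.1.1 = 0 := hb₂ b (Submodule.mem_span_singleton_self b)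
      have f : ∀ c : R, Q c.1.1 ≠ 0 → polar Q (cb y'.1) c.1.1 = Q c.1.1 * polar Q (cb z.1) c.1.1 := fun c hc =>
        (pair z y' c hz hy' hzy (hRv c).1 (hRv c).2 hc).2
      have h1 := f b hb
      have h2 := f b₂ hb₂'
      have hQs : Q (b + b₂).1.1 = Q b.1.1 + Q b₂.1.1 := by
        change Q (b.1.1 + b₂.1.1) = _
        rw [quad_add, horth, add_zero]
      have hQd : Q (b - b₂).1.1 = Q b.1.1 + Q b₂.1.1 := by
        change Q (b.1.1 - b₂.1.1) = _
        rw [sub_eq_add_neg, quad_add, QuadraticMap.map_neg, polar_neg_right, horth, neg_zero, add_zero]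
      rcases eq_or_ne (Q b.1.1) (Q b₂.1.1) with he | hne
      · have hs0 : Q b.1.1 + Q b₂.1.1 ≠ 0 := by
          rw [← he, ← two_mul]; exact mul_ne_zero htwo hb
        have h5 := f (b + b₂) (by rw [hQs]; exact hs0)
        have h6 := f (b - b₂) (by rw [hQd]; exact hs0)
        rw [hQs] at h5
        rw [hQd] at h6
        change polar Q (cb y'.1) (b.1.1 + b₂.1.1) = _ * polar Q (cb z.1) (b.1.1 + b₂.1.1) at h5
        change polar Q (cb y'.1) (b.1.1 - b₂.1.1) = _ * polar Q (cb z.1) (b.1.1 - b₂.1.1) at h6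
        rw [polar_add_right, polar_add_right, h1, h2, ← he] at h5
        rw [polar_sub_right, polar_sub_right, h1, h2, ← he] at h6
        refine (mul_eq_zero.1 (show 2 * Q b.1.1 * polar Q (cb z.1) b.1.1 = 0 from ?_)).resolve_left
          (mul_ne_zero htwo hb)
        linear_combination -h5 - h6
      · -- singular combinations
        have hs0 : Q b.1.1 + Q b₂.1.1 = 0 := by
          rcases mul_self_eq_mul_self_iff.1 ((hsq _ hb₂').trans (hsq _ hb).symm) with e | e
          · exact absurd e.symm hne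
          · rw [e, add_neg_cancel]
        have hc : ∀ c : R, Q c.1.1 = 0 → polar Q (cb z.1) c.1.1 = 0 := by
          intro c hc
          have e1 := sing c.1 hc
          have e2 := sing (z + c.1) (by
            change Q (z.1 + c.1.1) = 0
            rw [quad_add, show Q z.1 = 0 from hz, hc, (hRv c).1, add_zero, add_zero])
          change polar Q (cb (z.1 + c.1.1)) (z.1 + c.1.1) = 0 at e2
          rw [hsym _ (T.add_mem z.2 c.1.2) _ (T.add_mem z.2 c.1.2), polar_add_left,
            ← hsym z.1 z.2 _ (T.add_mem z.2 c.1.2), ← hsym c.1.1 c.1.2 _ (T.add_mem z.2 c.1.2), polar_add_right,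
            polar_add_right, ez, e1, hsym c.1.1 c.1.2 z.1 z.2, polar_comm (⇑Q) c.1.1 (cb z.1)] at e2
          exact (mul_eq_zero.1 (show 2 * polar Q (cb z.1) c.1.1 = 0 by linear_combination e2)).resolve_left htwo
        have h5 := hc (b + b₂) (by rw [hQs, hs0])
        have h6 := hc (b - b₂) (by rw [hQd, hs0])
        change polar Q (cb z.1) (b.1.1 + b₂.1.1) = 0 at h5
        change polar Q (cb z.1) (b.1.1 - b₂.1.1) = 0 at h6
        rw [polar_add_right] at h5
        rw [polar_sub_right] at h6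
        refine (mul_eq_zero.1 (show 2 * polar Q (cb z.1) b.1.1 = 0 from ?_)).resolve_left htwo
        linear_combination h5 + h6
    have hall : polar Q (cb z.1) b.1.1 = 0 := by
      by_cases hb' : Q b.1.1 = 0
      · obtain ⟨b₁, hb₁⟩ : ∃ b₁ : R, Q b₁.1.1 ≠ 0 := ⟨b₀, hb₀'⟩
        have h1 : Q (b + b₁).1.1 = Q b₁.1.1 + polar Q b.1.1 b₁.1.1 := by
          change Q (b.1.1 + b₁.1.1) = _
          rw [quad_add, hb', zero_add]
        have h2 : Q (b - b₁).1.1 = Q b₁.1.1 - polar Q b.1.1 b₁.1.1 := by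
          change Q (b.1.1 - b₁.1.1) = _
          rw [sub_eq_add_neg, quad_add, QuadraticMap.map_neg, polar_neg_right, hb']
          ring
        by_cases h : Q (b + b₁).1.1 = 0
        · have h3 := hns (b - b₁) (by
            rw [h2]
            intro e
            rw [h1] at h
            exact mul_ne_zero htwo hb₁ (by linear_combination h + e))
          change polar Q (cb z.1) (b.1.1 - b₁.1.1) = 0 at h3
          rw [polar_sub_right, hns b₁ hb₁, sub_zero] at h3
          exact h3
        · have h3 := hns (b + b₁) h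
          change polar Q (cb z.1) (b.1.1 + b₁.1.1) = 0 at h3
          rw [polar_add_right, hns b₁ hb₁, add_zero] at h3
          exact h3
      · exact hns b hb'
    conv_lhs => rw [hb]
    rw [polar_add_right, polar_add_right, polar_smul_right, polar_smul_right, ez, hall, smul_eq_mul, smul_eq_mul,
      mul_zero, zero_add, add_zero, mul_comm]

omit hQ hT hcbT hsym hcompat

variable {hQ : (polarBilin Q).Nondegenerate} {hn : 5 ≤ finrank F W} {X : Type*} [MulAction (OG Q) X] [Finite X]
  {ψ : AddChar F ℂ}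

/-- A single regular orbit is impossible over the fields with two or three elements. -/
theorem false_of_regular_small (hψ : ψ ≠ 0) (h23 : Fintype.card F = 2 ∧ 6 ≤ finrank F W ∨ Fintype.card F = 3)
    (o₁ : EOrb hQ hn X) (hall : ∀ o : EOrb hQ hn X, o = o₁) (ho₁ : wt Q ψ o₁ = ⊤) : False := by
  haveI : Finite W := Module.finite_of_finite F
  set y₀ : EX hQ hn X := o₁.out
  have hmk : ∀ y : EX hQ hn X, (Quotient.mk'' y : EOrb hQ hn X) = o₁ := fun y => hall _
  have hfree : ∀ (w : W) (y : EX hQ hn X), w +ᵥ y = y → w = 0 := by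
    intro w y h
    have h1 := ho₁
    rw [← hmk y, wt_mk] at h1
    have h2 := congrArg (ann Q ψ) h1
    rw [ann_ann hQ hψ, ann_top hQ hψ] at h2
    exact AddSubgroup.mem_bot.1 (h2 ▸ (mem_stabilizer_iff.2 h))
  have hinj : ∀ (v w : W), v +ᵥ y₀ = w +ᵥ y₀ → v = w := by
    intro v w h
    have h1 : (-w + v) +ᵥ y₀ = y₀ := by rw [add_vadd, h, neg_vadd_vadd]
    have h2 := hfree _ _ h1
    rw [neg_add_eq_sub, sub_eq_zero] at h2
    exact h2
  have horb : ∀ g : ↥(commutator (oGroup Q)), ∃ c : W, c +ᵥ y₀ = mv (liftC Q g) y₀ := fun g =>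
    orbitRel_apply.1 (Quotient.eq''.1 ((hmk _).trans (hmk y₀).symm))
  choose cc hcc using horb
  have hmul : ∀ g h, cc (g * h) = cc g + g.1.1 (cc h) := by
    intro g h
    apply hinj
    rw [hcc, show mv (liftC Q (g * h)) y₀ = mv (liftC Q g) (mv (liftC Q h) y₀) from by
      change liftC Q (g * h) • EX.pt y₀ = liftC Q g • liftC Q h • EX.pt y₀
      rw [map_mul, mul_smul], ← hcc h, mv_liftC, ← hcc g, vadd_vadd, add_comm]
  have hone : cc 1 = 0 := by
    have h := hmul 1 1
    rw [one_mul] at h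
    exact add_left_cancel (a := cc 1) (h.symm.trans (add_zero _).symm)
  obtain ⟨u, -, hu0, hu⟩ := exists_singular_of_three (Q := Q) (⊤ : Submodule F W) (by rw [finrank_top]; omega)
  obtain ⟨u', hQu', huu', hT, hTd⟩ := exists_partner hQ hu0 hu
  set T := perpS Q (Submodule.span F (Set.range ![u, u'])) with hTdef
  have huT : ∀ a ∈ T, polar Q u a = 0 := fun a ha => ha u (Submodule.subset_span ⟨0, rfl⟩)
  have hu'T : ∀ a ∈ T, polar Q u' a = 0 := fun a ha => ha u' (Submodule.subset_span ⟨1, rfl⟩)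
  have huu : polar Q u u = 0 := by rw [QuadraticMap.polar_self, hu, smul_zero]
  set C : W → W := fun a => cc (sg hQ hn u a)
  -- no fixed points
  have hnofix : ∀ a ∈ T, a ≠ 0 → ∀ x : W, C a ≠ x - (sg hQ hn u a).1.1 x := by
    intro a ha ha0 x hx
    have hfix : mv (liftC Q (sg hQ hn u a)) (x +ᵥ y₀) = x +ᵥ y₀ := by
      rw [mv_liftC, ← hcc, vadd_vadd, show cc (sg hQ hn u a) = C a from rfl, hx, add_sub_cancel]
    obtain ⟨w, c, g, hc, hQw, hconj⟩ := exists_fix_eq (hQ := hQ) (hn := hn) hu hu0 (huT a ha)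
    have hg : liftC Q ⟨siegel Q u a, siegel_mem_commutator hQ hn hu (huT a ha)⟩ = liftC Q (sg hQ hn u a) :=
      congrArg _ (Subtype.ext (sg_val hu (huT a ha)).symm)
    have hw : eH hQ hn w • (g • (x +ᵥ y₀).pt) = g • (x +ᵥ y₀).pt := by
      rw [hconj, hg, mul_smul, mul_smul, inv_smul_smul]
      exact congrArg _ (congrArg EX.pt hfix)
    have hw0 := hfree w (EX.of (g • (x +ᵥ y₀).pt)) hw
    rw [hw0, eH_zero, eq_comm, mul_inv_eq_one, mul_eq_left] at hconj
    obtain ⟨t, ht⟩ := exists_polar_ne hT (x := (⟨a, ha⟩ : T)) fun e => ha0 (congrArg Subtype.val e)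
    have h := congrArg (fun z : OG Q => (z.1.1 (emb t.1)).2) hconj
    change (siegel Q u a).1 t.1 = t.1 at h
    rw [siegel_apply hu (huT a ha), polar_comm (⇑Q) t.1 u, huT _ t.2, zero_smul, add_zero, mul_zero, add_zero,
      sub_eq_self, smul_eq_zero] at h
    rw [polar_comm] at ht
    exact ht (h.resolve_right hu0)
  -- commuting Siegel elements
  have hcomm : ∀ a ∈ T, ∀ b ∈ T, (sg hQ hn u a).1.1 (C b) - C b = (sg hQ hn u b).1.1 (C a) - C a := by
    intro a ha b hb
    have h := hmul (sg hQ hn u a) (sg hQ hn u b)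
    rw [sg_add hu (huT a ha) (huT b hb), add_comm a b, ← sg_add hu (huT b hb) (huT a ha),
      hmul (sg hQ hn u b) (sg hQ hn u a)] at h
    change C b + (sg hQ hn u b).1.1 (C a) = C a + (sg hQ hn u a).1.1 (C b) at h
    linear_combination (norm := module) -h
  have hTd' : 3 ≤ finrank F T := by omega
  have hCu : ∀ b ∈ T, polar Q (C b) u = 0 := by
    intro b hb
    rcases eq_or_ne b 0 with rfl | hb0
    · rw [show C 0 = 0 from by
        change cc (sg hQ hn u 0) = 0
        rw [show sg hQ hn u 0 = 1 from Subtype.ext (by rw [sg_val hu (polar_zero_right Q u), siegel_zero hu]; rfl),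
          hone], polar_zero_left]
    obtain ⟨⟨a, haT⟩, hab⟩ : ∃ a : T, a ∉ Submodule.span F {(⟨b, hb⟩ : T)} := by
      by_contra hc
      push Not at hc
      have := Submodule.finrank_mono (show (⊤ : Submodule F T) ≤ Submodule.span F {(⟨b, hb⟩ : T)} from fun x _ => hc x)
      rw [finrank_top, finrank_span_singleton fun e => hb0 (congrArg Subtype.val e)] at this
      omega
    obtain ⟨⟨t, htT⟩, htb, hta⟩ := exists_pair_values hT (a := (⟨b, hb⟩ : T)) (x := ⟨a, haT⟩) ((LinearIndependent.pair_iff'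
      fun e => hb0 (congrArg Subtype.val e)).2 fun k hk => hab (Submodule.mem_span_singleton.2 ⟨k, hk⟩)) (0 : F) 1
    have h := congrArg (fun x => polar Q t x) (hcomm a haT b hb)
    change polar Q t b = 0 at htb
    change polar Q t a = 1 at hta
    simp only [sg_apply hu (huT a haT), sg_apply hu (huT b hb), polar_sub_right, polar_add_right, polar_smul_right,
      polar_comm (⇑Q) t u, huT t htT, htb, hta, smul_eq_mul, mul_zero, mul_one, add_zero, sub_zero] at h
    linear_combination h
  have hsym : ∀ a ∈ T, ∀ b ∈ T, polar Q (C b) a = polar Q (C a) b := by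
    intro a ha b hb
    have h := congrArg (fun x => polar Q u' x) (hcomm a ha b hb)
    simp only [sg_apply hu (huT a ha), sg_apply hu (huT b hb), polar_sub_right, polar_add_right, polar_smul_right,
      hCu a ha, hCu b hb, polar_comm (⇑Q) u' u, huu', smul_eq_mul, mul_zero, zero_mul, mul_one, add_zero] at h
    linear_combination -h
  -- the map on the complement
  set cb : W → W := fun a => C a - polar Q (C a) u' • u
  have hcbT : ∀ a ∈ T, cb a ∈ T := fun a ha y hy => by
    obtain ⟨c, rfl⟩ := (Submodule.mem_span_range_iff_exists_fun F).1 hy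
    simp [cb, Fin.sum_univ_two, polar_add_left, polar_smul_left, polar_sub_right, polar_smul_right, huu,
      polar_comm (⇑Q) u (C a), hCu a ha, polar_comm (⇑Q) u' u, huu', polar_comm (⇑Q) u' (C a)]
    ring
  have hcbp : ∀ a, ∀ t ∈ T, polar Q (cb a) t = polar Q (C a) t := fun a t ht => by
    change polar Q (C a - polar Q (C a) u' • u) t = _
    rw [polar_sub_left, polar_smul_left, huT t ht, smul_zero, sub_zero]
  have hcompat : SiegelCompat Q T cb := by
    intro x hx b hb hQx hxb
    set g := sg hQ hn x b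
    refine ⟨polar Q (cc g) u, fun a ha t ht => ?_⟩
    set a' := a + polar Q a x • b - (polar Q a b + Q b * polar Q a x) • x
    have hga : g.1.1 a = a' := sg_apply hQx hxb a
    have ha'T : a' ∈ T := T.sub_mem (T.add_mem ha (T.smul_mem _ hb)) (T.smul_mem _ hx)
    have hgu : g.1.1 u = u := by rw [sg_apply hQx hxb, huT x hx, huT b hb]; simp
    have hconj : g * sg hQ hn u a = sg hQ hn u a' * g := by
      refine Subtype.ext ?_
      rw [Subgroup.coe_mul, Subgroup.coe_mul, sg_val hu (huT a ha), sg_val hu (huT a' ha'T)]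
      have h := siegel_conj g.1 hu (huT a ha)
      rw [hgu, hga] at h
      rw [← h, inv_mul_cancel_right]
    have h := hmul g (sg hQ hn u a)
    rw [hconj, hmul] at h
    change C a' + (sg hQ hn u a').1.1 (cc g) = cc g + g.1.1 (C a) at h
    have h' := congrArg (fun y => polar Q y t) h
    simp only [sg_apply hu (huT a' ha'T), polar_add_left, polar_sub_left, polar_smul_left, huT t ht, smul_eq_mul,
      mul_zero, sub_zero] at h'
    rw [← sg_apply (hQ := hQ) (hn := hn) hQx hxb (cb a)]
    change polar Q a' (cb t) = polar Q (g.1.1 (cb a)) t - polar Q (cc g) u * polar Q a' t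
    rw [polar_comm (⇑Q) a' (cb t), hcbp t a' ha'T, hsym a' ha'T t ht]
    change polar Q (C a') t = polar Q (g.1.1 (C a - polar Q (C a) u' • u)) t - _
    rw [map_sub, map_smul, hgu, polar_sub_left, polar_smul_left, huT t ht, smul_zero, sub_zero]
    linear_combination h'
  have hsym' : ∀ a ∈ T, ∀ t ∈ T, polar Q (cb a) t = polar Q a (cb t) := fun a ha t ht => by
    rw [polar_comm (⇑Q) a (cb t), hcbp a t ht, hcbp t a ha, hsym a ha t ht]
  obtain ⟨a, haT, ha0, l, hl⟩ : ∃ a ∈ T, a ≠ 0 ∧ ∃ l : F, cb a = l • a := by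
    rcases h23 with ⟨h2, h6⟩ | h3
    · exact exists_eigen_two hQ hT hcbT hsym' hcompat h2 (by omega)
    · exact exists_eigen_three hT hcbT hsym' hcompat h3 hTd'
  -- an eigenvector gives a fixed point
  obtain ⟨t, ht⟩ := exists_polar_ne hT (x := (⟨a, haT⟩ : T)) fun e => ha0 (congrArg Subtype.val e)
  set α := -l
  set γ := (polar Q (C a) u' - α * Q a) / polar Q a t.1
  refine hnofix a haT ha0 (α • u' + γ • t.1) ?_
  rw [sg_apply hu (huT a haT)]
  simp only [polar_add_left, polar_smul_left, polar_comm (⇑Q) u' u, huu', polar_comm (⇑Q) t.1 u, huT _ t.2,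
    hu'T a haT, polar_comm (⇑Q) t.1 a, smul_eq_mul, mul_one, mul_zero, add_zero, zero_add]
  rw [show γ * polar Q a t.1 = polar Q (C a) u' - α * Q a from div_mul_cancel₀ _ ht]
  have e : C a = l • a + polar Q (C a) u' • u := by rw [← hl]; exact (sub_add_cancel _ _).symm
  generalize polar Q (C a) u' = μ at e ⊢
  rw [e]
  simp only [α]
  module

end CfsgLib.MinIdxOrth
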