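import Cfsg.Agent.MinIdxOrth.Dual

/-!
The radical of a point stabiliser of `Ω(H ⊕ W)` acting on a set on which the whole group acts.
-/

set_option autoImplicit false
set_option linter.style.haveILetI false
set_option linter.unusedSectionVars false

namespace CfsgLib.MinIdxOrth

open QuadraticMap Module AddAction CfsgLib.Forms CfsgLib.Quad CfsgLib.MinDeg.Om
open scoped Classical

variable {F : Type*} [Field F] [Fintype F] {W : Type*} [AddCommGroup W] [Module F W] [FiniteDimensional F W]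
  {Q : QuadraticForm F W}

theorem four_le {n : ℕ} (hn : 5 ≤ n) : 4 ≤ n := by omega

variable (hQ : (polarBilin Q).Nondegenerate) (hn : 5 ≤ finrank F W)

/-- An element of the radical. -/
noncomputable def eH (w : W) : OG Q := eHom hQ (four_le hn) (Multiplicative.ofAdd w)

theorem eH_val (w : W) : (eH hQ hn w).1 = siegel (hypSum Q) e₀ (emb w) := rfl

theorem eH_add (v w : W) : eH hQ hn (v + w) = eH hQ hn v * eH hQ hn w := map_mul (eHom hQ (four_le hn)) _ _

theorem eH_zero : eH hQ hn 0 = 1 := map_one (eHom hQ (four_le hn))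

/-- A set acted on by `Ω(H ⊕ W)`, regarded as a `W`-set through the radical. -/
def EX (_hQ : (polarBilin Q).Nondegenerate) (_hn : 5 ≤ finrank F W) (X : Type*) : Type _ := X

variable {hQ hn} {X : Type*} [MulAction (OG Q) X]

/-- The point. -/
def EX.pt (x : EX hQ hn X) : X := x

/-- The point as an element of the `W`-set. -/
def EX.of (x : X) : EX hQ hn X := x

noncomputable instance : AddAction W (EX hQ hn X) where
  vadd w x := EX.of (eH hQ hn w • EX.pt x)
  zero_vadd x := by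
    change eH hQ hn 0 • EX.pt x = EX.pt x
    rw [eH_zero, one_smul]
  add_vadd v w x := by
    change eH hQ hn (v + w) • EX.pt x = eH hQ hn v • eH hQ hn w • EX.pt x
    rw [eH_add, mul_smul]

theorem vadd_pt (w : W) (x : EX hQ hn X) : (w +ᵥ x).pt = eH hQ hn w • x.pt := rfl

instance [Finite X] : Finite (EX hQ hn X) := ‹Finite X›

/-- An element of the group as a permutation. -/
def mv (g : OG Q) : EX hQ hn X ≃ EX hQ hn X := MulAction.toPerm (α := OG Q) (β := X) g

theorem mv_pt (g : OG Q) (x : EX hQ hn X) : (mv g x).pt = g • x.pt := rfl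

/-- The map on `W` of an element normalising the radical. -/
def levF (h : oGroup Q) {c : F} (hc : c ≠ 0) : W ≃+ W :=
  (h.1.trans (LinearEquiv.smulOfNeZero F W c hc)).toAddEquiv

omit [Fintype F] [FiniteDimensional F W] in
theorem levF_apply (h : oGroup Q) {c : F} (hc : c ≠ 0) (w : W) : levF h hc w = c • h.1 w := rfl

omit [Fintype F] [FiniteDimensional F W] in
theorem levF_dual (h : oGroup Q) {c : F} (hc : c ≠ 0) (ψ : AddChar F ℂ) (w v : W) :
    ψ (polar Q (levF h hc w) (levF h (inv_ne_zero hc) v)) = ψ (polar Q w v) := by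
  rw [levF_apply, levF_apply, polar_smul_left, polar_smul_right, polar_oGroup, smul_smul,
    mul_inv_cancel₀ hc, one_smul]

theorem mv_vadd {g : OG Q} {h : oGroup Q} {c : F} (hc : c ≠ 0) (hge : g.1.1 e₀ = c • e₀)
    (hgw : ∀ w, g.1.1 (emb w) = emb (h.1 w)) (w : W) (y : EX hQ hn X) :
    mv g (w +ᵥ y) = levF h hc w +ᵥ mv g y := by
  change g • eH hQ hn w • EX.pt y = eH hQ hn (c • h.1 w) • g • EX.pt y
  have e : c⁻¹ • h.1.symm (c • h.1 w) = w := by
    rw [map_smul, h.1.symm_apply_apply, smul_smul, inv_mul_cancel₀ hc, one_smul]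
  rw [← mul_smul, ← mul_smul, eH, eH, eHom_move hQ (four_le hn) hc hge hgw, e]

/-- The orbits of the radical. -/
abbrev EOrb (hQ : (polarBilin Q).Nondegenerate) (hn : 5 ≤ finrank F W) (X : Type*) [MulAction (OG Q) X] :
    Type _ := Orb (M := W) (EX hQ hn X)

/-- The number of fixed points. -/
noncomputable def fixX (X : Type*) [MulAction (OG Q) X] (g : OG Q) : ℕ := Nat.card {x : X // g • x = x}

omit [FiniteDimensional F W] [Fintype F] in
theorem fixX_conj (g a : OG Q) : fixX X (a * g * a⁻¹) = fixX X g := by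
  refine (Nat.card_congr ((MulAction.toPerm a).subtypeEquiv fun x => ?_)).symm
  change g • x = x ↔ (a * g * a⁻¹) • a • x = a • x
  rw [mul_smul, mul_smul, inv_smul_smul, smul_left_cancel_iff]

theorem liftC_e₀ (g : ↥(commutator (oGroup Q))) : (liftC Q g).1.1 e₀ = (1 : F) • e₀ := by
  rw [one_smul]; exact Prod.ext rfl (map_zero g.1.1)

theorem mv_liftC (g : ↥(commutator (oGroup Q))) (w : W) (y : EX hQ hn X) :
    mv (liftC Q g) (w +ᵥ y) = g.1.1 w +ᵥ mv (liftC Q g) y := by
  rw [mv_vadd one_ne_zero (liftC_e₀ g) (h := g.1) (fun w => rfl), levF_apply, one_smul]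

noncomputable instance : MulAction ↥(commutator (oGroup Q)) (EOrb hQ hn X) where
  smul g := Quotient.map (mv (liftC Q g)) fun a b hab => by
    obtain ⟨w, hw⟩ := orbitRel_apply.1 hab
    exact orbitRel_apply.2 ⟨g.1.1 w, by
      show g.1.1 w +ᵥ mv (liftC Q g) b = mv (liftC Q g) a
      rw [← mv_liftC, show w +ᵥ b = a from hw]⟩
  one_smul o := by
    induction o using Quotient.inductionOn' with
    | h y =>
      change (Quotient.mk'' (mv (liftC Q 1) y) : EOrb hQ hn X) = Quotient.mk'' y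
      rw [show mv (liftC Q 1) y = y from by
        change liftC Q 1 • EX.pt y = EX.pt y
        rw [map_one, one_smul]]
  mul_smul g g' o := by
    induction o using Quotient.inductionOn' with
    | h y =>
      change (Quotient.mk'' (mv (liftC Q (g * g')) y) : EOrb hQ hn X) =
        Quotient.mk'' (mv (liftC Q g) (mv (liftC Q g') y))
      rw [show mv (liftC Q (g * g')) y = mv (liftC Q g) (mv (liftC Q g') y) from by
        change liftC Q (g * g') • EX.pt y = liftC Q g • liftC Q g' • EX.pt y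
        rw [map_mul, mul_smul]]

theorem smul_mk (g : ↥(commutator (oGroup Q))) (y : EX hQ hn X) :
    g • (Quotient.mk'' y : EOrb hQ hn X) = Quotient.mk'' (mv (liftC Q g) y) := rfl

variable [Finite X] {ψ : AddChar F ℂ} (hψ : ψ ≠ 0)
include hψ

theorem mem_wt_smul (g : ↥(commutator (oGroup Q))) (o : EOrb hQ hn X) (v : W) :
    g.1.1 v ∈ wt Q ψ (g • o) ↔ v ∈ wt Q ψ o := by
  obtain ⟨σ, hσ, hwt⟩ := exists_orb_perm Q ψ hQ hψ (mv (liftC Q g)) g.1.1.toAddEquiv g.1.1.toAddEquiv
    (mv_liftC g) (fun w v => by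
      change ψ (polar Q (g.1.1 w) (g.1.1 v)) = _
      rw [polar_oGroup]) (Y := EX hQ hn X)
  induction o using Quotient.inductionOn' with
  | h y => rw [smul_mk, ← hσ]; exact hwt _ v

theorem nwt_lev {g : OG Q} {h : oGroup Q} {c : F} (hc : c ≠ 0) (hge : g.1.1 e₀ = c • e₀)
    (hgw : ∀ w, g.1.1 (emb w) = emb (h.1 w)) (v : W) :
    nwt (Y := EX hQ hn X) Q ψ (c⁻¹ • h.1 v) = nwt (Y := EX hQ hn X) Q ψ v :=
  nwt_map Q ψ hQ hψ (mv g) (levF h hc) (levF h (inv_ne_zero hc)) (mv_vadd hc hge hgw) (levF_dual h hc ψ) v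

theorem nwt_level {v v' : W} (hv : v ≠ 0) (hv' : v' ≠ 0) (h : Q v = Q v') :
    nwt (Y := EX hQ hn X) Q ψ v = nwt (Y := EX hQ hn X) Q ψ v' := by
  obtain ⟨g, hg, hgv⟩ := exists_map_vec hQ (four_le hn) hv hv' h
  have h1 := nwt_lev (X := X) (hQ := hQ) (hn := hn) hψ (g := ⟨oExtend Q g, hg⟩) (h := g) one_ne_zero
    (by rw [one_smul]; exact Prod.ext rfl (map_zero g.1)) (fun w => rfl) v
  rw [inv_one, one_smul, hgv] at h1
  exact h1.symm

theorem nwt_scale {v v' : W} (hv : v ≠ 0) (hv' : v' ≠ 0) {s : F} (hs : s ≠ 0) (h : Q v' = s * s * Q v) :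
    nwt (Y := EX hQ hn X) Q ψ v' = nwt (Y := EX hQ hn X) Q ψ v := by
  obtain ⟨k, hk, g, hke, hkw⟩ := exists_scaling hQ (four_le hn) (inv_ne_zero hs)
  rw [← nwt_lev (X := X) (hQ := hQ) (hn := hn) hψ (g := ⟨k, hk⟩) (inv_ne_zero hs) hke hkw v, inv_inv]
  refine nwt_level hψ hv' (smul_ne_zero hs fun e => hv (g.1.injective (e.trans (map_zero g.1).symm))) ?_
  rw [quad_smul, g.2, h]

/-- Fixed points of an element of the radical. -/
theorem fixX_eH [Fintype (EOrb hQ hn X)] (u : W) :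
    fixX X (eH hQ hn u) = ∑ o : EOrb hQ hn X,
      if ∀ v ∈ wt Q ψ o, ψ (polar Q u v) = 1 then Nat.card (wt Q ψ o) else 0 := by
  rw [fixX, show Nat.card {x : X // eH hQ hn u • x = x} = Nat.card {y : EX hQ hn X // u +ᵥ y = y} from rfl,
    Nat.card_congr (Equiv.sigmaFiberEquiv (fun y : {y : EX hQ hn X // u +ᵥ y = y} =>
      (Quotient.mk'' y.1 : EOrb hQ hn X))).symm, Nat.card_sigma]
  refine Finset.sum_congr rfl fun o _ => ?_
  rw [Nat.card_congr (Equiv.subtypeSubtypeEquivSubtypeInter (fun y : EX hQ hn X => u +ᵥ y = y)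
    (fun y => (Quotient.mk'' y : EOrb hQ hn X) = o))]
  split_ifs with h
  · rw [show wt Q ψ o = ann Q ψ (stabilizer W o.out) from rfl, ← card_orbit Q ψ hQ hψ o.out]
    refine Nat.card_congr (Equiv.subtypeEquivRight fun y => ⟨fun hy => ?_, fun hy => ?_⟩)
    · exact orbitRel_apply.1 (Quotient.eq''.1 (hy.2.trans (Quotient.out_eq' o).symm))
    · have hy' : (Quotient.mk'' y : EOrb hQ hn X) = o :=
        (Quotient.sound' (orbitRel_apply.2 hy)).trans (Quotient.out_eq' o)
      exact ⟨(fix_translate Q ψ hQ hψ u y).2 (hy'.symm ▸ h), hy'⟩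
  · haveI : IsEmpty {y : EX hQ hn X // u +ᵥ y = y ∧ (Quotient.mk'' y : EOrb hQ hn X) = o} :=
      ⟨fun y => h (y.2.2 ▸ (fix_translate Q ψ hQ hψ u y.1).1 y.2.1)⟩
    exact Nat.card_of_isEmpty

/-- Fixed points of an element of the Levi complement. -/
theorem fixX_liftC_le [Fintype (EOrb hQ hn X)] (g : ↥(commutator (oGroup Q))) :
    fixX X (liftC Q g) ≤ ∑ o : EOrb hQ hn X,
      if g • o = o then Nat.card {v : W // v ∈ wt Q ψ o ∧ g.1.1 v = v} else 0 := by
  rw [fixX, show Nat.card {x : X // liftC Q g • x = x} =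
      Nat.card {y : EX hQ hn X // mv (liftC Q g) y = y} from rfl,
    Nat.card_congr (Equiv.sigmaFiberEquiv (fun y : {y : EX hQ hn X // mv (liftC Q g) y = y} =>
      (Quotient.mk'' y.1 : EOrb hQ hn X))).symm, Nat.card_sigma]
  refine Finset.sum_le_sum fun o _ => ?_
  rw [Nat.card_congr (Equiv.subtypeSubtypeEquivSubtypeInter (fun y : EX hQ hn X => mv (liftC Q g) y = y)
    (fun y => (Quotient.mk'' y : EOrb hQ hn X) = o))]
  split_ifs with h
  · refine le_trans (le_of_eq (Nat.card_congr (Equiv.subtypeEquivRight fun y => and_comm))) ?_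
    exact card_fix_orbit_le Q ψ hQ hψ (mv (liftC Q g)) g.1.1.toAddEquiv g.1.1.toAddEquiv (mv_liftC g)
      (fun w v => by
        change ψ (polar Q (g.1.1 w) (g.1.1 v)) = _
        rw [polar_oGroup]) o
  · haveI : IsEmpty {y : EX hQ hn X // mv (liftC Q g) y = y ∧ (Quotient.mk'' y : EOrb hQ hn X) = o} :=
      ⟨fun y => h (by rw [← y.2.2, smul_mk, y.2.1])⟩
    exact le_of_eq Nat.card_of_isEmpty

omit hψ

/-- A diagonal element of the plane. -/
def torusO (Q : QuadraticForm F W) (s : F) (hs : s ≠ 0) : oGroup (hypSum Q) :=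
  ⟨((LinearEquiv.smulOfNeZero F F s hs).prodCongr
      (LinearEquiv.smulOfNeZero F F s⁻¹ (inv_ne_zero hs))).prodCongr (LinearEquiv.refl F W), fun p => by
    rw [hypSum_apply, hypSum_apply]
    change s * p.1.1 * (s⁻¹ * p.1.2) + Q p.2 = _
    field_simp⟩

variable (hQ hn)

/-- The square of a diagonal element. -/
def torus (s : F) (hs : s ≠ 0) : OG Q := ⟨torusO Q s hs * torusO Q s hs, sq_mem hQ (four_le hn) _⟩

variable {hQ hn}

theorem torus_apply (s : F) (hs : s ≠ 0) (p : (F × F) × W) :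
    (torus hQ hn s hs).1.1 p = ((s * (s * p.1.1), s⁻¹ * (s⁻¹ * p.1.2)), p.2) := rfl

theorem torus_comm (s : F) (hs : s ≠ 0) (g : ↥(commutator (oGroup Q))) :
    liftC Q g * torus hQ hn s hs = torus hQ hn s hs * liftC Q g := by
  refine Subtype.ext (Subtype.ext (LinearEquiv.ext fun p => ?_))
  rfl

theorem mv_torus (s : F) (hs : s ≠ 0) (w : W) (y : EX hQ hn X) :
    mv (torus hQ hn s hs) (w +ᵥ y) = ((s * s) • w) +ᵥ mv (torus hQ hn s hs) y := by
  rw [mv_vadd (h := (1 : oGroup Q)) (mul_ne_zero hs hs) (by rw [torus_apply]; simp [e₀])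
    (fun w => by rw [torus_apply]; simp [emb])]
  rfl

include hψ in
/-- A torus element not of order two has exactly one fixed point in an orbit it stabilises, and the
elements commuting with it which stabilise the orbit fix that point. -/
theorem exists_torus_fixed (s : F) (hs : s ≠ 0) (hs1 : s * s ≠ 1) (o : EOrb hQ hn X)
    (hs2 : ∀ y : EX hQ hn X, (Quotient.mk'' y : EOrb hQ hn X) = o →
      (Quotient.mk'' (mv (torus hQ hn s hs) y) : EOrb hQ hn X) = o)
    (g : ↥(commutator (oGroup Q))) (hg : g • o = o) : 1 ≤ fixX X (liftC Q g) := by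
  set k := torus hQ hn s hs with hk
  set c := s * s with hc
  have hc1 : 1 - c ≠ 0 := sub_ne_zero.2 fun e => hs1 e.symm
  have hc0 : c ≠ 0 := mul_ne_zero hs hs
  -- existence
  obtain ⟨b, hb⟩ := orbitRel_apply.1 (Quotient.eq''.1
    ((hs2 o.out (Quotient.out_eq' o)).trans (Quotient.out_eq' o).symm))
  set y := ((1 - c)⁻¹ • b) +ᵥ o.out with hy
  have hky : mv k y = y := by
    rw [hy, hk, mv_torus, ← show b +ᵥ o.out = mv k o.out from hb, ← add_vadd]
    congr 1
    rw [smul_smul]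
    calc (c * (1 - c)⁻¹) • b + b = (c * (1 - c)⁻¹ + 1) • b := by rw [add_smul, one_smul]
      _ = (1 - c)⁻¹ • b := by congr 1; field_simp; ring
  have hyo : (Quotient.mk'' y : EOrb hQ hn X) = o :=
    (Quotient.sound' (orbitRel_apply.2 ⟨_, rfl⟩)).trans (Quotient.out_eq' o)
  -- uniqueness
  have h1 := card_fix_orbit_le Q ψ hQ hψ (mv k) (levF (1 : oGroup Q) hc0) (levF 1 (inv_ne_zero hc0))
    (fun w y => mv_torus s hs w y) (levF_dual 1 hc0 ψ) o
  have h2 : Nat.card {v : W // v ∈ wt Q ψ o ∧ levF (1 : oGroup Q) (inv_ne_zero hc0) v = v} = 1 := by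
    refine Nat.card_eq_one_iff_exists.2 ⟨⟨0, zero_mem _, map_zero _⟩, fun v => Subtype.ext ?_⟩
    have h := v.2.2
    rw [levF_apply, show (1 : oGroup Q).1 v.1 = v.1 from rfl, inv_smul_eq_iff₀ hc0] at h
    have h' : (1 - c) • v.1 = 0 := by rw [sub_smul, one_smul, ← h, sub_self]
    exact (smul_eq_zero.1 h').resolve_left hc1
  rw [h2] at h1
  haveI : Subsingleton {y : EX hQ hn X // (Quotient.mk'' y : EOrb hQ hn X) = o ∧ mv k y = y} :=
    Finite.card_le_one_iff_subsingleton.1 h1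
  have hgy : mv (liftC Q g) y = y := by
    refine congrArg Subtype.val (Subsingleton.elim (⟨_, ?_, ?_⟩ :
      {y : EX hQ hn X // (Quotient.mk'' y : EOrb hQ hn X) = o ∧ mv k y = y}) ⟨y, hyo, hky⟩)
    · rw [← smul_mk, hyo, hg]
    · change k • liftC Q g • EX.pt y = liftC Q g • EX.pt y
      rw [← mul_smul, hk, ← torus_comm, mul_smul]
      congr 1
  haveI : Nonempty {x : X // liftC Q g • x = x} := ⟨⟨y.pt, hgy⟩⟩
  exact Nat.card_pos

/-- A Siegel element of the Levi complement is conjugate to an element of the radical. -/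
theorem exists_fix_eq {v a : W} (hv : Q v = 0) (hv0 : v ≠ 0) (hva : polar Q v a = 0) :
    ∃ w : W, ∃ c : F, ∃ g : OG Q, c ≠ 0 ∧ Q w = c * c * Q a ∧
      eH hQ hn w = g * liftC Q ⟨siegel Q v a, siegel_mem_commutator hQ hn hv hva⟩ * g⁻¹ := by
  haveI : MulAction.IsPretransitive ↥(commutator (oGroup (hypSum Q))) (SPt (hypSum Q)) :=
    isPretransitive_spt (hypSum_nondeg hQ) (by rw [finrank_hyp]; omega)
  have hev : (emb v : (F × F) × W) ≠ 0 := fun e => hv0 (congrArg Prod.snd e)
  have he₀ : (e₀ : (F × F) × W) ≠ 0 := fun e => one_ne_zero (congrArg (fun p => p.1.1) e)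
  obtain ⟨g, hg⟩ := MulAction.exists_smul_eq ↥(commutator (oGroup (hypSum Q)))
    (spt (emb v) hev (by rw [hyp_emb, hv])) (spt (e₀ : (F × F) × W) he₀ hyp_e₀)
  rw [smul_spt, spt_eq_iff] at hg
  obtain ⟨c, hc⟩ := hg
  have hc0 : c ≠ 0 := fun e => iso_ne_zero g.1 hev (by rw [← hc, e, zero_smul])
  set x := c • g.1.1 (emb a) with hx
  have hxe : polar (hypSum Q) e₀ x = 0 := by
    rw [hx, polar_smul_right, ← polar_smul_left, hc, polar_oGroup, polar_emb, hva]
  have hx2 : x.1.2 = 0 := by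
    rw [hypSum_polar] at hxe
    simpa [e₀] using hxe
  have hxd : x = emb x.2 + x.1.1 • e₀ := by
    refine Prod.ext (Prod.ext ?_ ?_) ?_ <;> simp [emb, e₀, hx2]
  have hval : g.1 * oExtend Q (siegel Q v a) * g.1⁻¹ = siegel (hypSum Q) e₀ (emb x.2) := by
    rw [oExtend_siegel hv hva, siegel_conj g.1 (by rw [hyp_emb, hv]) (by rw [polar_emb, hva]), ← hc,
      siegel_smul hyp_e₀ (by
        rwa [hx, polar_smul_right, smul_eq_mul, mul_eq_zero, or_iff_right hc0] at hxe), ← hx]
    conv_lhs => rw [hxd]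
    rw [siegel_add_smul hyp_e₀ (polar_e₀_emb _)]
  refine ⟨x.2, c, g, hc0, ?_, ?_⟩
  · have h1 : hypSum Q x = c * c * Q a := by rw [hx, quad_smul, g.1.2, hyp_emb]
    rw [hypSum_apply, hx2, mul_zero, zero_add] at h1
    exact h1
  · exact Subtype.ext hval.symm

end CfsgLib.MinIdxOrth
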