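import Cfsg.Agent.MinIdxOrth.Setup
import Cfsg.Agent.MinIdxOrth.Levels

/-!
Numerical consequences of a small transitive set.
-/

set_option autoImplicit false
set_option linter.style.haveILetI false
set_option linter.unusedSectionVars false

namespace CfsgLib.MinIdxOrth

open QuadraticMap Module AddAction CfsgLib.Forms CfsgLib.Quad CfsgLib.MinDeg.Om
open scoped Classical

variable {F : Type*} [Field F] [Fintype F] {W : Type*} [AddCommGroup W] [Module F W] [FiniteDimensional F W]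
  {Q : QuadraticForm F W} {hQ : (polarBilin Q).Nondegenerate} {hn : 5 ≤ finrank F W}
  {X : Type*} [MulAction (OG Q) X] [Finite X]

/-- Fewer elements than singular points of `H ⊕ W`. -/
def IsSmall (Q : QuadraticForm F W) (X : Type*) : Prop :=
  (Fintype.card F - 1) * Nat.card X <
    (Fintype.card F - 1) * (Fintype.card F ^ finrank F W + 1) + Fintype.card F * nz Q 0

variable {ψ : AddChar F ℂ} (hψ : ψ ≠ 0)
include hψ

theorem nwt_mul_nz {v : W} (hv : v ≠ 0) :
    nwt (Y := EX hQ hn X) Q ψ v * nz Q (Q v) ≤ Nat.card X := by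
  haveI : Finite W := Module.finite_of_finite F
  haveI := Fintype.ofFinite W
  rw [show Nat.card X = Nat.card (EX hQ hn X) from rfl, card_eq_sum_nwt Q ψ hQ hψ, nz, Nat.card_eq_fintype_card,
    Fintype.card_subtype, mul_comm, ← smul_eq_mul, ← Finset.sum_const]
  refine le_trans (le_of_eq (Finset.sum_congr rfl fun w hw => ?_))
    (Finset.sum_le_sum_of_subset (Finset.filter_subset _ _))
  rw [Finset.mem_filter] at hw
  exact nwt_level hψ hv hw.2.1 hw.2.2.symm

variable (hsmall : IsSmall Q X)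
include hsmall

theorem nwt_singular_le {v : W} (hv : v ≠ 0) (h0 : Q v = 0) :
    nwt (Y := EX hQ hn X) Q ψ v ≤ Fintype.card F + 2 := by
  by_contra hr
  push Not at hr
  have h1 := nwt_mul_nz (X := X) (hQ := hQ) (hn := hn) hψ hv
  rw [h0] at h1
  have hz := nz_zero_lb hQ hn
  obtain ⟨k, hk⟩ : ∃ k, finrank F W = k + 3 := ⟨finrank F W - 3, by omega⟩
  obtain ⟨q', hq'⟩ : ∃ q', Fintype.card F = q' + 2 := ⟨Fintype.card F - 2, by
    have := Fintype.one_lt_card (α := F); omega⟩
  have h2 : (Fintype.card F - 1) * ((Fintype.card F + 3) * nz Q 0) ≤ (Fintype.card F - 1) * Nat.card X :=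
    Nat.mul_le_mul_left _ (le_trans (Nat.mul_le_mul_right _ hr) h1)
  rw [IsSmall, hk] at hsmall
  rw [hk, hq', Nat.add_sub_cancel, show (q' + 2) ^ 2 - 1 = (q' + 3) * (q' + 1) by
    rw [show (q' + 2) ^ 2 = (q' + 3) * (q' + 1) + 1 by ring, Nat.add_sub_cancel]] at hz
  rw [hq', show q' + 2 - 1 = q' + 1 by omega] at h2 hsmall
  set u := (q' + 2) ^ k
  set Z := nz Q 0
  rw [pow_add, show (q' + 2) ^ k = u from rfl] at hsmall
  zify at hz h2 hsmall
  nlinarith [mul_le_mul_of_nonneg_left hz (by positivity : (0 : ℤ) ≤ (q' : ℤ) * q' + 5 * q' + 3),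
    mul_nonneg (show (0 : ℤ) ≤ u by positivity) (show (0 : ℤ) ≤ q' by positivity)]

theorem nwt_singular_le' (h3 : 3 ≤ Fintype.card F) {v : W} (hv : v ≠ 0) (h0 : Q v = 0) :
    nwt (Y := EX hQ hn X) Q ψ v ≤ Fintype.card F + 1 := by
  by_contra hr
  push Not at hr
  have h1 := nwt_mul_nz (X := X) (hQ := hQ) (hn := hn) hψ hv
  rw [h0] at h1
  have hz := nz_zero_lb hQ hn
  obtain ⟨k, hk⟩ : ∃ k, finrank F W = k + 3 := ⟨finrank F W - 3, by omega⟩
  obtain ⟨q', hq'⟩ : ∃ q', Fintype.card F = q' + 3 := ⟨Fintype.card F - 3, by omega⟩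
  have h2 : (Fintype.card F - 1) * ((Fintype.card F + 2) * nz Q 0) ≤ (Fintype.card F - 1) * Nat.card X :=
    Nat.mul_le_mul_left _ (le_trans (Nat.mul_le_mul_right _ hr) h1)
  rw [IsSmall, hk] at hsmall
  rw [hk, hq', Nat.add_sub_cancel, show (q' + 3) ^ 2 - 1 = (q' + 4) * (q' + 2) by
    rw [show (q' + 3) ^ 2 = (q' + 4) * (q' + 2) + 1 by ring, Nat.add_sub_cancel]] at hz
  rw [hq', show q' + 3 - 1 = q' + 2 by omega] at h2 hsmall
  set u := (q' + 3) ^ k
  set Z := nz Q 0
  rw [pow_add, show (q' + 3) ^ k = u from rfl] at hsmall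
  zify at hz h2 hsmall
  nlinarith [mul_le_mul_of_nonneg_left hz (by positivity : (0 : ℤ) ≤ (q' : ℤ) * q' + 6 * q' + 7),
    mul_nonneg (show (0 : ℤ) ≤ u by positivity) (show (0 : ℤ) ≤ q' by positivity)]

omit hψ in
/-- The set is smaller than a simple function of `q`. -/
theorem small_lt (hQ : (polarBilin Q).Nondegenerate) (hn : 5 ≤ finrank F W) :
    (Fintype.card F - 1) * Nat.card X + (Fintype.card F ^ (finrank F W - 3)) * Fintype.card F <
      Fintype.card F ^ (finrank F W - 3) * (Fintype.card F ^ 4 + Fintype.card F ^ 2) := by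
  have hz := nz_zero_ub hQ hn
  obtain ⟨k, hk⟩ : ∃ k, finrank F W = k + 3 := ⟨finrank F W - 3, by omega⟩
  obtain ⟨q', hq'⟩ : ∃ q', Fintype.card F = q' + 2 := ⟨Fintype.card F - 2, by
    have := Fintype.one_lt_card (α := F); omega⟩
  rw [IsSmall, hk] at hsmall
  rw [hk, hq', Nat.add_sub_cancel, show (q' + 2) ^ 2 - 1 = (q' + 3) * (q' + 1) by
    rw [show (q' + 2) ^ 2 = (q' + 3) * (q' + 1) + 1 by ring, Nat.add_sub_cancel],
    show q' + 2 - 1 = q' + 1 by omega] at hz
  rw [hk, Nat.add_sub_cancel, hq', show q' + 2 - 1 = q' + 1 by omega]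
  rw [hq', show q' + 2 - 1 = q' + 1 by omega] at hsmall
  set u := (q' + 2) ^ k
  set Z := nz Q 0
  rw [pow_add, show (q' + 2) ^ k = u from rfl] at hsmall hz
  zify at hz hsmall ⊢
  nlinarith [mul_le_mul_of_nonneg_left hz (by positivity : (0 : ℤ) ≤ (q' : ℤ) + 2)]

omit hψ in
theorem small_le_two_mul (hQ : (polarBilin Q).Nondegenerate) (hn : 5 ≤ finrank F W) (h3 : 3 ≤ Fintype.card F) :
    Nat.card X < 2 * Fintype.card F ^ finrank F W := by
  have h := small_lt hsmall hQ hn
  obtain ⟨k, hk⟩ : ∃ k, finrank F W = k + 3 := ⟨finrank F W - 3, by omega⟩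
  obtain ⟨q', hq'⟩ : ∃ q', Fintype.card F = q' + 3 := ⟨Fintype.card F - 3, by omega⟩
  rw [hk, Nat.add_sub_cancel, hq', show q' + 3 - 1 = q' + 2 by omega] at h
  rw [hk, hq', pow_add]
  set u := (q' + 3) ^ k
  by_contra hc
  push Not at hc
  have := Nat.mul_le_mul_left (q' + 2) hc
  nlinarith [Nat.zero_le (u * q'), Nat.zero_le (u * q' * q'), Nat.zero_le (u * q' * q' * q'),
    Nat.zero_le (u * q' * q' * q' * q')]

/-- The weight of a non-singular vector. -/
theorem nwt_ns_bound {v : W} (h0 : Q v ≠ 0) (S : Finset F) (hS : ∀ c ∈ S, ∃ s : F, s ≠ 0 ∧ c = s * s) :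
    nwt (Y := EX hQ hn X) Q ψ v * S.card * (Fintype.card F - 1) * (Fintype.card F ^ 2 - 1) + Fintype.card F <
      Fintype.card F ^ 4 + Fintype.card F ^ 2 := by
  haveI : Finite W := Module.finite_of_finite F
  haveI := Fintype.ofFinite W
  have hv : v ≠ 0 := fun e => h0 (by rw [e, QuadraticMap.map_zero])
  set u := Fintype.card F ^ (finrank F W - 3) with hu
  set r := nwt (Y := EX hQ hn X) Q ψ v
  have h1 : r * S.card * ((Fintype.card F ^ 2 - 1) * u) ≤ Nat.card X := by
    let L : F → Finset W := fun c => Finset.univ.filter fun w => w ≠ 0 ∧ Q w = c * Q v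
    have hdis : Set.PairwiseDisjoint (S : Set F) L := fun a _ b _ hab => Finset.disjoint_left.2 fun w hwa hwb => hab (by
      simp only [L, Finset.mem_filter] at hwa hwb
      exact mul_right_cancel₀ h0 (hwa.2.2.symm.trans hwb.2.2))
    rw [show Nat.card X = Nat.card (EX hQ hn X) from rfl, card_eq_sum_nwt Q ψ hQ hψ]
    refine le_trans ?_ (Finset.sum_le_sum_of_subset (Finset.subset_univ (S.biUnion L)))
    rw [Finset.sum_biUnion hdis, mul_comm r, mul_assoc, ← smul_eq_mul, ← Finset.sum_const]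
    refine Finset.sum_le_sum fun c hc => ?_
    obtain ⟨s, hs, rfl⟩ := hS c hc
    refine le_trans (Nat.mul_le_mul_left r (nz_lb hQ hn (s * s * Q v))) (le_of_eq ?_)
    rw [nz, Nat.card_eq_fintype_card, Fintype.card_subtype, mul_comm, ← smul_eq_mul, ← Finset.sum_const]
    refine Finset.sum_congr rfl fun w hw => ?_
    rw [Finset.mem_filter] at hw
    exact (nwt_scale hψ hv hw.2.1 hs hw.2.2).symm
  have h2 := small_lt hsmall hQ hn
  rw [← hu] at h2
  by_contra hc
  push Not at hc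
  have h3 := Nat.mul_le_mul_left u hc
  have h4 := Nat.mul_le_mul_left (Fintype.card F - 1) h1
  rw [Nat.mul_add] at h3
  nlinarith

end CfsgLib.MinIdxOrth
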