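import Cfsg.Agent.MinIdxOrth.Regular
import Cfsg.Agent.MinIdxOrth.Conclude

/-!
Transitive sets of `Ω(H ⊕ W)` over the fields with two and three elements.
-/

set_option autoImplicit false
set_option linter.style.haveILetI false
set_option linter.unusedSectionVars false

namespace CfsgLib.MinIdxOrth

open QuadraticMap Module AddAction CfsgLib.Forms CfsgLib.Quad CfsgLib.MinDeg.Om
open scoped Classical

variable {F : Type*} [Field F] [Fintype F] {W : Type*} [AddCommGroup W] [Module F W] [FiniteDimensional F W]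
  {Q : QuadraticForm F W}

/-- Numerical conditions on a bound, for fields with two or three elements. -/
structure Numeric (Q : QuadraticForm F W) (D : ℕ) : Prop where
  field : Fintype.card F = 2 ∧ 6 ≤ finrank F W ∨ Fintype.card F = 3
  points : D ≤ Nat.card (SPt (hypSum Q))
  double : D ≤ 2 * Fintype.card F ^ finrank F W
  special : D ≤ (Fintype.card F ^ 2 + 1) * (Fintype.card F + 1) * Fintype.card F ^ (finrank F W - 3) ∨
    6 < finrank F W
  line : ∀ a : F, a ≠ 0 → (Fintype.card F - 1) * D ≤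
    (Fintype.card F - 1) * Fintype.card F ^ finrank F W + Fintype.card F * nz Q a
  perm : ∀ a : F, a ≠ 0 → D ≤ (if Fintype.card F = 2 then 4 else 5) * nz Q a ∨
    (Fintype.card F = 2 ∧ D ≤ 4 * nz Q a + nz Q 0 ∧ D ≤ 5 * nz Q a)

theorem scalar_nat (h23 : Fintype.card F = 2 ∨ Fintype.card F = 3) (c : F) : c = 0 ∨ c = 1 ∨ c = -1 := by
  by_contra hc
  push Not at hc
  rcases h23 with h | h
  · have h3 : ({0, 1, c} : Finset F).card = 3 := by
      rw [Finset.card_insert_of_notMem (by simp [hc.1.symm]), Finset.card_pair hc.2.1.symm]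
    have := Finset.card_le_univ ({0, 1, c} : Finset F)
    omega
  · have hne : (1 : F) ≠ -1 := fun e => by
      have h3' : (3 : F) = 0 := by
        have := Nat.cast_card_eq_zero F
        rwa [h] at this
      exact one_ne_zero (show (1 : F) = 0 by linear_combination h3' - e)
    have h4 : ({c, 0, 1, -1} : Finset F).card = 4 := by
      rw [Finset.card_insert_of_notMem (by simp [hc.1, hc.2.1, hc.2.2]),
        Finset.card_insert_of_notMem (by simp), Finset.card_pair hne]
    have := Finset.card_le_univ ({c, 0, 1, -1} : Finset F)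
    omega

theorem smul_mem_addSubgroup (h23 : Fintype.card F = 2 ∨ Fintype.card F = 3) (A : AddSubgroup W) {x : W}
    (hx : x ∈ A) (c : F) : c • x ∈ A := by
  rcases scalar_nat h23 c with rfl | rfl | rfl
  · rw [zero_smul]; exact A.zero_mem
  · rwa [one_smul]
  · rw [neg_one_smul]; exact A.neg_mem hx

variable {hQ : (polarBilin Q).Nondegenerate} {hn : 5 ≤ finrank F W} {X : Type*} [MulAction (OG Q) X] [Finite X]
  {ψ : AddChar F ℂ} (hψ : ψ ≠ 0) {D : ℕ} (hD : Numeric Q D) (hlt : Nat.card X < D)
include hψ hD hlt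

omit hψ in
theorem isSmall_of : IsSmall Q X := (isSmall_iff X).2 (lt_of_lt_of_le hlt hD.points)

omit hψ hlt in
theorem char_five (h5 : finrank F W = 5) : (2 : F) ≠ 0 := by
  rcases hD.field with ⟨-, h6⟩ | h3
  · omega
  · intro h
    have h3' : (3 : F) = 0 := by
      have := Nat.cast_card_eq_zero F
      rwa [h3] at this
    exact one_ne_zero (show (1 : F) = 0 by linear_combination h3' - h)

/-- Weights of a non-top orbit in which a singular and a non-singular vector occur are too many. -/
theorem no_mixed (h3 : Fintype.card F = 3) (h5 : finrank F W = 5) {o : EOrb hQ hn X} {v w : W}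
    (hnt : wt Q ψ o ≠ ⊤) (hv : Q v ≠ 0) (hvo : v ∈ wt Q ψ o) (hw0 : w ≠ 0) (hw : Q w = 0) (hwo : w ∈ wt Q ψ o) :
    False := by
  haveI : Finite W := Module.finite_of_finite F
  haveI : Finite (Submodule F W) := Finite.of_injective _ SetLike.coe_injective
  haveI := Fintype.ofFinite (EOrb hQ hn X)
  set span₀ : EOrb hQ hn X → Submodule F W := fun o => Submodule.span F {x | x ∈ wt Q ψ o ∧ Q x = 0}
  set P : EOrb hQ hn X → Prop := fun o => wt Q ψ o ≠ ⊤ ∧
    ∃ v w : W, Q v ≠ 0 ∧ v ∈ wt Q ψ o ∧ w ≠ 0 ∧ Q w = 0 ∧ w ∈ wt Q ψ o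
  have hts : ∀ o, P o → ∀ u ∈ span₀ o, Q u = 0 := by
    intro o ho
    have horth : ∀ x, (x ∈ wt Q ψ o ∧ Q x = 0) → ∀ y, (y ∈ wt Q ψ o ∧ Q y = 0) → polar Q x y = 0 := by
      intro x hx y hy
      rcases eq_or_ne y 0 with rfl | hy0
      · exact polar_zero_right _ _
      by_contra h
      exact ho.1 (eq_top_of_nonorth hψ (isSmall_of hD hlt) (char_five hD) hy0 hy.2 hy.1 hx.1 h)
    have h3' : ∀ a ∈ span₀ o, ∀ x, (x ∈ wt Q ψ o ∧ Q x = 0) → polar Q a x = 0 := by
      intro a ha
      induction ha using Submodule.span_induction with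
      | mem a ha => exact horth a ha
      | zero => exact fun x _ => polar_zero_left _ _
      | add a b _ _ i1 i2 => exact fun x hx => by rw [polar_add_left, i1 x hx, i2 x hx, add_zero]
      | smul t a _ i => exact fun x hx => by rw [polar_smul_left, i x hx, smul_zero]
    have h4 : ∀ a ∈ span₀ o, ∀ b ∈ span₀ o, polar Q a b = 0 := by
      intro a ha b hb
      induction hb using Submodule.span_induction with
      | mem b hb => exact h3' a ha b hb
      | zero => exact polar_zero_right _ _
      | add c d _ _ i1 i2 => rw [polar_add_right, i1, i2, add_zero]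
      | smul t c _ i => rw [polar_smul_right, i, smul_zero]
    intro u hu
    induction hu using Submodule.span_induction with
    | mem u hu => exact hu.2
    | zero => exact QuadraticMap.map_zero _
    | add a b ha hb h1 h2 => rw [quad_add, h1, h2, h4 a ha b hb, add_zero, add_zero]
    | smul t a _ h => rw [quad_smul, h, mul_zero]
  set i := finrank F (span₀ o)
  set 𝒰 : Set (Submodule F W) := {U | ∃ o, P o ∧ span₀ o = U ∧ finrank F U = i} with h𝒰
  have hPo : P o := ⟨hnt, v, w, hv, hvo, hw0, hw, hwo⟩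
  have hne : 𝒰.Nonempty := ⟨_, o, hPo, rfl, rfl⟩
  have htsU : ∀ U ∈ 𝒰, ∀ u ∈ U, Q u = 0 := by
    rintro _ ⟨o', ho', rfl, -⟩; exact hts o' ho'
  have hdim : ∀ U ∈ 𝒰, finrank F U = i := by
    rintro _ ⟨o', -, rfl, h⟩; exact h
  have hinv : ∀ g : ↥(commutator (oGroup Q)), ∀ U ∈ 𝒰, U.map g.1.1.toLinearMap ∈ 𝒰 := by
    rintro g _ ⟨o', ⟨hnt', v', w', hv', hvo', hw0', hw', hwo'⟩, rfl, hd⟩
    refine ⟨g • o', ⟨fun e => hnt' ?_, g.1.1 v', g.1.1 w', by rwa [g.1.2], (mem_wt_smul hψ g o' v').2 hvo',
      iso_ne_zero g.1 hw0', by rw [g.1.2, hw'], (mem_wt_smul hψ g o' w').2 hwo'⟩, ?_,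
      (LinearEquiv.finrank_map_eq g.1.1 _).trans hd⟩
    · refine eq_top_iff.2 fun x _ => ?_
      rw [← mem_wt_smul hψ g, e]
      trivial
    · change Submodule.span F _ = (Submodule.span F _).map _
      rw [Submodule.map_span]
      congr 1
      ext x
      constructor
      · intro hx
        obtain ⟨x', rfl⟩ := g.1.1.surjective x
        exact ⟨x', ⟨(mem_wt_smul hψ g o' x').1 hx.1, (g.1.2 x').symm.trans hx.2⟩, rfl⟩
      · rintro ⟨x', hx', rfl⟩
        exact ⟨(mem_wt_smul hψ g o' x').2 hx'.1, (g.1.2 x').trans hx'.2⟩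
  have h40 : 40 ≤ Nat.card 𝒰 := by
    have hi2 : i ≤ 2 := by
      have := finrank_ts_le hQ (hts o hPo)
      omega
    have hi1 : 1 ≤ i := by
      have h := Submodule.finrank_mono ((Submodule.span_singleton_le_iff_mem _ _).2
        (Submodule.subset_span ⟨hwo, hw⟩ : w ∈ span₀ o))
      rwa [finrank_span_singleton hw0] at h
    rcases Nat.lt_or_ge i 2 with h | h
    · have hk := count_family hQ hn htsU hdim hne hinv hi1 (k := 1) fun x hx0 hx => by
        obtain ⟨U, hU, hxU⟩ := exists_member_mem hQ hn hdim hne hinv hi1 htsU hx0 hx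
        haveI : Nonempty {U : Submodule F W // U ∈ 𝒰 ∧ x ∈ U} := ⟨⟨U, hU, hxU⟩⟩
        exact Nat.card_pos
      have hz := nz_zero_lb hQ hn
      rw [h3, h5] at hz
      rw [h3, show i = 1 by omega, mul_one] at hk
      omega
    · have hf := family_large hQ hn htsU hdim hne hinv h
      rw [h3, h5, show i = 2 by omega] at hf
      omega
  choose f hfP hfs hfd using fun U : 𝒰 => U.2
  have hfinj : Function.Injective f := fun U U' e => Subtype.ext (by rw [← hfs U, ← hfs U', e])
  haveI := Fintype.ofFinite 𝒰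
  have h9 : ∀ U : 𝒰, 9 ≤ Nat.card (wt Q ψ (f U)) := by
    intro U
    obtain ⟨-, v', w', hv', hvo', hw0', hw', hwo'⟩ := hfP U
    have e : 9 = Nat.card (F × F) := by rw [Nat.card_prod, Nat.card_eq_fintype_card, h3]
    rw [e]
    refine Nat.card_le_card_of_injective (fun p => (⟨p.1 • v' + p.2 • w', (wt Q ψ (f U)).add_mem
      (smul_mem_addSubgroup (Or.inr h3) _ hvo' _) (smul_mem_addSubgroup (Or.inr h3) _ hwo' _)⟩ : wt Q ψ (f U))) ?_
    rintro ⟨a, b⟩ ⟨a', b'⟩ h
    have h' : a • v' + b • w' = a' • v' + b' • w' := congrArg (fun z : wt Q ψ (f U) => (z : W)) h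
    by_cases ha : a = a'
    · subst ha
      exact Prod.ext rfl (smul_left_injective F hw0' (add_left_cancel h'))
    · exfalso
      apply hv'
      have h2 : v' = ((b' - b) / (a - a')) • w' := by
        have h4 : (a - a') • v' = (b' - b) • w' := by linear_combination (norm := module) h'
        rw [div_eq_inv_mul, ← smul_smul, ← h4, smul_smul, inv_mul_cancel₀ (sub_ne_zero.2 ha), one_smul]
      rw [h2, quad_smul, hw', mul_zero]
  have hd : Nat.card 𝒰 * 9 ≤ Nat.card X := by
    rw [show Nat.card X = Nat.card (EX hQ hn X) from rfl, card_eq_sum (Y := EX hQ hn X) Q ψ hQ hψ, Nat.card_eq_fintype_card,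
      ← Finset.card_univ, ← smul_eq_mul, ← Finset.sum_const]
    refine le_trans (Finset.sum_le_sum fun U _ => h9 U) ?_
    refine le_trans (le_of_eq ?_) (Finset.sum_le_sum_of_subset (Finset.subset_univ (Finset.univ.image f)))
    rw [Finset.sum_image fun a _ b _ h => hfinj h]
  rcases hD.special with h | h
  · rw [h3, h5] at h
    omega
  · omega

/-- A non-singular vector occurs in fewer than four (five) weights. -/
theorem nwt_mul_lt {v : W} (hv : Q v ≠ 0) :
    nwt (Y := EX hQ hn X) Q ψ v * nz Q (Q v) < (if Fintype.card F = 2 then 4 else 5) * nz Q (Q v) := by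
  have hv0 : v ≠ 0 := fun e => hv (by rw [e, QuadraticMap.map_zero])
  rcases hD.perm (Q v) hv with h | ⟨hq, h4, h5⟩
  · exact lt_of_le_of_lt (nwt_mul_nz hψ hv0) (lt_of_lt_of_le hlt h)
  rw [if_pos hq]
  refine Nat.mul_lt_mul_of_pos_right ?_ (Nat.pos_of_ne_zero fun e => ?_)
  swap
  · rw [e] at h5; omega
  by_contra h
  push Not at h
  haveI : Finite W := Module.finite_of_finite F
  haveI := Fintype.ofFinite W
  haveI := Fintype.ofFinite (EOrb hQ hn X)
  have hsum := card_eq_sum_nwt (Y := EX hQ hn X) Q ψ hQ hψ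
  set A := Finset.univ.filter fun w : W => w ≠ 0 ∧ Q w = Q v
  have hAc : A.card = nz Q (Q v) := by rw [nz, Nat.card_eq_fintype_card, Fintype.card_subtype]
  have hA : 4 * nz Q (Q v) ≤ ∑ w ∈ A, nwt (Y := EX hQ hn X) Q ψ w := by
    rw [← hAc, mul_comm, ← smul_eq_mul, ← Finset.sum_const]
    refine Finset.sum_le_sum fun w hw => ?_
    rw [Finset.mem_filter] at hw
    rw [← nwt_level hψ hv0 hw.2.1 hw.2.2.symm]
    exact h
  have hsub : ∀ B : Finset W, Disjoint A B → (∑ w ∈ A, nwt (Y := EX hQ hn X) Q ψ w) +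
      ∑ w ∈ B, nwt (Y := EX hQ hn X) Q ψ w ≤ Nat.card X := fun B hB => by
    rw [show Nat.card X = Nat.card (EX hQ hn X) from rfl, hsum, ← Finset.sum_union hB]
    exact Finset.sum_le_sum_of_subset (Finset.subset_univ _)
  by_cases hs : ∃ w : W, w ≠ 0 ∧ Q w = 0 ∧ 0 < nwt (Y := EX hQ hn X) Q ψ w
  · obtain ⟨w, hw0, hw, hpos⟩ := hs
    set B := Finset.univ.filter fun u : W => u ≠ 0 ∧ Q u = 0
    have hBc : B.card = nz Q 0 := by rw [nz, Nat.card_eq_fintype_card, Fintype.card_subtype]
    have hB : nz Q 0 ≤ ∑ u ∈ B, nwt (Y := EX hQ hn X) Q ψ u := by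
      rw [← hBc, ← mul_one B.card, ← smul_eq_mul, ← Finset.sum_const]
      refine Finset.sum_le_sum fun u hu => ?_
      rw [Finset.mem_filter] at hu
      rw [← nwt_level hψ hw0 hu.2.1 (by rw [hw, hu.2.2])]
      exact hpos
    have hdis : Disjoint A B := Finset.disjoint_left.2 fun u hu hu' => by
      rw [Finset.mem_filter] at hu hu'
      exact hv (by rw [← hu.2.2, hu'.2.2])
    have := hsub B hdis
    omega
  · push Not at hs
    have hwt : ∀ o : EOrb hQ hn X, Nat.card (wt Q ψ o) ≤ 4 := by
      intro o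
      let S : Submodule F W :=
        { (wt Q ψ o : AddSubgroup W) with smul_mem' := fun c x hx => smul_mem_addSubgroup (Or.inl hq) _ hx c }
      have hS : finrank F S ≤ 2 := by
        by_contra hc
        push Not at hc
        obtain ⟨z, hz, hz0, hQz⟩ := exists_singular_of_three (Q := Q) S hc
        haveI : Nonempty {o : EOrb hQ hn X // z ∈ wt Q ψ o} := ⟨⟨o, hz⟩⟩
        have hp : 0 < nwt (Y := EX hQ hn X) Q ψ z := Nat.card_pos
        have := hs z hz0 hQz
        omega
      change Nat.card S ≤ 4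
      rw [Module.natCard_eq_pow_finrank (K := F), Nat.card_eq_fintype_card, hq]
      exact le_trans (Nat.pow_le_pow_right (by omega) hS) le_rfl
    have hX : Nat.card X ≤ 4 * Nat.card (EOrb hQ hn X) := by
      rw [show Nat.card X = Nat.card (EX hQ hn X) from rfl, card_eq_sum (Y := EX hQ hn X) Q ψ hQ hψ]
      refine le_trans (Finset.sum_le_card_nsmul _ _ 4 fun o _ => hwt o) ?_
      rw [Finset.card_univ, smul_eq_mul, mul_comm, Nat.card_eq_fintype_card]
    have h0 : nwt (Y := EX hQ hn X) Q ψ 0 = Nat.card (EOrb hQ hn X) :=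
      Nat.card_congr (Equiv.subtypeUnivEquiv fun o => (wt Q ψ o).zero_mem)
    have hdis : Disjoint A {0} := by
      rw [Finset.disjoint_singleton_right, Finset.mem_filter]
      exact fun e => e.2.1 rfl
    have := hsub {0} hdis
    rw [Finset.sum_singleton, h0] at this
    omega

/-- Non-singular weights with a further direction force all weights. -/
theorem nsTop_small : NSTop hQ hn X ψ := by
  haveI : Finite W := Module.finite_of_finite F
  intro v hv o hvo b hbo hb
  by_contra hnt
  have h23 : Fintype.card F = 2 ∨ Fintype.card F = 3 := hD.field.imp And.left id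
  have hsmall := isSmall_of hD hlt
  have hv0 : v ≠ 0 := fun e => hv (by rw [e, QuadraticMap.map_zero])
  obtain ⟨z, hvz, hz, hbz⟩ := exists_nonorth_center hQ hn hv hb
  have hz0 : z ≠ 0 := fun e => hbz (by rw [e, polar_zero_right])
  have hli : LinearIndependent F ![v, z] := by
    rw [LinearIndependent.pair_iff' hv0]
    intro c hc
    have h := congrArg Q hc
    rw [quad_smul, hz, mul_eq_zero, or_iff_left hv] at h
    exact hz0 (by rw [← hc, mul_self_eq_zero.1 h, zero_smul])
  set K := perpS Q (Submodule.span F (Set.range ![v, z]))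
  have hK : ∀ a ∈ K, polar Q v a = 0 ∧ polar Q z a = 0 := fun a ha =>
    ⟨ha v (Submodule.subset_span ⟨0, rfl⟩), ha z (Submodule.subset_span ⟨1, rfl⟩)⟩
  have hKd : 2 + finrank F K = finrank F W := by
    have h : _ + finrank F K = _ := finrank_perpS hQ (Submodule.span F (Set.range ![v, z]))
    rwa [finrank_span_eq_card hli, Fintype.card_fin] at h
  set Y := {o : EOrb hQ hn X // v ∈ wt Q ψ o}
  have hgv : ∀ a : K, (sg hQ hn z a.1).1.1 v = v := fun a => by
    rw [sg_apply hz (hK _ a.2).2, hvz, (hK _ a.2).1]; simp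
  let perm : K → Equiv.Perm Y := fun a => (MulAction.toPerm (sg hQ hn z a.1)).subtypePerm fun o => by
    have h := mem_wt_smul hψ (sg hQ hn z a.1) o v
    rw [hgv] at h
    exact h
  let φ : Multiplicative K →* Equiv.Perm Y := MonoidHom.mk' (fun a => perm (Multiplicative.toAdd a))
    fun a b => Equiv.ext fun o => Subtype.ext (by
      change sg hQ hn z ((Multiplicative.toAdd a).1 + (Multiplicative.toAdd b).1) • o.1 =
        sg hQ hn z (Multiplicative.toAdd a).1 • sg hQ hn z (Multiplicative.toAdd b).1 • o.1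
      rw [← sg_add hz (hK _ (Multiplicative.toAdd a).2).2 (hK _ (Multiplicative.toAdd b).2).2, mul_smul])
  let K₀ : Submodule F W :=
    { carrier := {x | ∃ h : x ∈ K, φ (Multiplicative.ofAdd ⟨x, h⟩) = 1}
      zero_mem' := ⟨K.zero_mem, φ.map_one⟩
      add_mem' := fun {a b} ⟨ha, ha'⟩ ⟨hb, hb'⟩ => ⟨K.add_mem ha hb, by
        rw [show Multiplicative.ofAdd (⟨a + b, K.add_mem ha hb⟩ : K) =
          Multiplicative.ofAdd ⟨a, ha⟩ * Multiplicative.ofAdd ⟨b, hb⟩ from rfl, map_mul, ha', hb', one_mul]⟩
      smul_mem' := fun c x ⟨hx, hx'⟩ => by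
        rcases scalar_nat h23 c with rfl | rfl | rfl
        · rw [zero_smul]; exact ⟨K.zero_mem, φ.map_one⟩
        · rw [one_smul]; exact ⟨hx, hx'⟩
        · rw [neg_one_smul]
          exact ⟨K.neg_mem hx, by
            rw [show Multiplicative.ofAdd (⟨-x, K.neg_mem hx⟩ : K) = (Multiplicative.ofAdd ⟨x, hx⟩)⁻¹ from rfl,
              map_inv, hx', inv_one]⟩ }
  have hfix : ∀ x ∈ K₀, ∀ o : EOrb hQ hn X, v ∈ wt Q ψ o → sg hQ hn z x • o = o := fun x hx o ho => by
    have h := congrArg Subtype.val (Equiv.Perm.congr_fun hx.2 ⟨o, ho⟩)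
    exact h
  have hK₀K : K₀ ≤ K := fun x hx => hx.1
  -- the kernel is isotropic
  have hiso : ∀ x ∈ K₀, ∀ y ∈ K₀, polar Q x y = 0 := by
    intro x hx y hy
    by_contra h
    have hzo := line_mem hψ hz (fun a ha => (hK a (hK₀K ha)).2) (fun a ha => hfix a ha o hvo) hbo hbz hx hy h 1
    rw [one_smul] at hzo
    exact hnt (eq_top_of_nonorth hψ hsmall (char_five hD) hz0 hz hzo hbo hbz)
  -- of index at most `q`
  set q := Fintype.card F
  have hqp : q.Prime := by
    rcases h23 with h | h <;> rw [show q = _ from h]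
    · exact Nat.prime_two
    · exact Nat.prime_three
  have hidx : finrank F K ≤ finrank F K₀ + 1 := by
    have h1 := (MonoidHom.ker φ).card_mul_index
    rw [Subgroup.index_ker] at h1
    have hker : Nat.card (MonoidHom.ker φ) = Nat.card K₀ :=
      Nat.card_congr
        { toFun := fun a => ⟨(Multiplicative.toAdd a.1).1, (Multiplicative.toAdd a.1).2, a.2⟩
          invFun := fun x => ⟨Multiplicative.ofAdd ⟨x.1, x.2.1⟩, x.2.2⟩
          left_inv := fun a => rfl
          right_inv := fun x => rfl }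
    rw [hker, Nat.card_congr Multiplicative.toAdd, Module.natCard_eq_pow_finrank (K := F) (V := K),
      Module.natCard_eq_pow_finrank (K := F) (V := K₀), Nat.card_eq_fintype_card] at h1
    obtain ⟨j, -, hj⟩ := (Nat.dvd_prime_pow hqp).1 (Dvd.intro_left _ h1)
    have h2 : q ^ j ∣ (Nat.card Y).factorial := by
      rw [← hj, ← Nat.card_perm]
      exact Subgroup.card_subgroup_dvd_card _
    have hr : Nat.card Y ≤ if q = 2 then 3 else 4 := by
      have h5 : Nat.card Y * nz Q (Q v) < (if q = 2 then 4 else 5) * nz Q (Q v) :=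
        nwt_mul_lt (hQ := hQ) (hn := hn) hψ hD hlt hv
      have h6 := Nat.lt_of_mul_lt_mul_right h5
      split_ifs at h6 ⊢ <;> omega
    have hj1 : j ≤ 1 := by
      by_contra hc
      have h3 : q ^ 2 ∣ (if q = 2 then 3 else 4).factorial :=
        ((pow_dvd_pow q (by omega)).trans h2).trans (Nat.factorial_dvd_factorial hr)
      rcases h23 with e | e <;> rw [show q = _ from e] at h3 <;> revert h3 <;> decide
    rw [hj, ← pow_add] at h1
    have := Nat.pow_right_injective hqp.two_le h1
    omega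
  rcases hD.field with ⟨h2, h6⟩ | h3
  · -- characteristic two
    have htwo : (2 : F) = 0 := by
      have h := Nat.cast_card_eq_zero F
      rwa [h2] at h
    obtain ⟨x, hx, hxn⟩ : ∃ x ∈ K₀, x ∉ Submodule.span F (Set.range ![v, z]) := by
      by_contra hc
      push Not at hc
      have h := Submodule.finrank_mono (show K₀ ≤ Submodule.span F (Set.range ![v, z]) from hc)
      rw [finrank_span_eq_card hli, Fintype.card_fin] at h
      omega
    obtain ⟨y, hy, hxy⟩ : ∃ y ∈ K, polar Q x y ≠ 0 := by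
      by_contra hc
      push Not at hc
      apply hxn
      rw [← perpS_perpS hQ (Submodule.span F (Set.range ![v, z]))]
      exact fun y hy => by rw [polar_comm]; exact hc y hy
    have hvv : polar Q v v = 0 := by rw [QuadraticMap.polar_self, two_nsmul, ← two_mul, htwo, zero_mul]
    have hQv : Q v = 1 := by
      rcases scalar_nat h23 (Q v) with e | e | e
      · exact absurd e hv
      · exact e
      · rw [e]; linear_combination -htwo
    set p := y + Q y • v
    have hp : Q p = 0 := by
      rw [show p = y + Q y • v from rfl, quad_add, quad_smul, polar_smul_right, polar_comm (⇑Q) y v, (hK y hy).1,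
        hQv, smul_zero, add_zero, mul_one]
      rcases scalar_nat h23 (Q y) with e | e | e <;> rw [e]
      · ring
      · linear_combination htwo
      · ring
    have hpv : polar Q p v = 0 := by
      rw [show p = y + Q y • v from rfl, polar_add_left, polar_smul_left, hvv, polar_comm, (hK y hy).1, smul_zero,
        add_zero]
    have hpz : polar Q p z = 0 := by
      rw [show p = y + Q y • v from rfl, polar_add_left, polar_smul_left, hvz, polar_comm, (hK y hy).2, smul_zero,
        add_zero]
    have hxp : polar Q x p ≠ 0 := by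
      rwa [show p = y + Q y • v from rfl, polar_add_right, polar_smul_right, polar_comm (⇑Q) x v,
        (hK x (hK₀K hx)).1, smul_zero, add_zero]
    set g := sg hQ hn p v
    have hgz : g.1.1 z = z := by
      rw [sg_apply hp hpv, polar_comm (⇑Q) z p, hpz, polar_comm (⇑Q) z v, hvz]; simp
    have hgv' : g.1.1 v = v := by
      rw [sg_apply hp hpv, polar_comm (⇑Q) v p, hpv, hvv]; simp
    have hxz : polar Q z x = 0 := (hK x (hK₀K hx)).2
    have hgxK : g.1.1 x ∈ K := fun w hw => by
      obtain ⟨c, rfl⟩ := (Submodule.mem_span_range_iff_exists_fun F).1 hw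
      rw [Fin.sum_univ_two, polar_add_left, polar_smul_left, polar_smul_left]
      have e1 : polar Q v (g.1.1 x) = 0 := by
        conv_lhs => rw [← hgv']
        rw [polar_oGroup, (hK x (hK₀K hx)).1]
      have e2 : polar Q z (g.1.1 x) = 0 := by
        conv_lhs => rw [← hgz]
        rw [polar_oGroup, hxz]
      simp [e1, e2]
    have hgx : g.1.1 x ∈ K₀ := by
      refine ⟨hgxK, Equiv.ext fun o' => Subtype.ext ?_⟩
      change sg hQ hn z (g.1.1 x) • o'.1 = o'.1
      have hconj : sg hQ hn z (g.1.1 x) = g * sg hQ hn z x * g⁻¹ := by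
        refine Subtype.ext ?_
        rw [Subgroup.coe_mul, Subgroup.coe_mul, Subgroup.coe_inv, sg_val hz hxz, sg_val hz (hK _ hgxK).2,
          siegel_conj g.1 hz hxz, hgz]
      rw [hconj, mul_smul, mul_smul, hfix x hx _ ?_, smul_inv_smul]
      have h := mem_wt_smul hψ g (g⁻¹ • o'.1) v
      rw [smul_inv_smul, hgv'] at h
      exact h.1 o'.2
    have h := hiso x hx _ hgx
    rw [sg_apply hp hpv, polar_sub_right, polar_add_right, polar_smul_right, polar_smul_right,
      hiso x hx x hx, polar_comm (⇑Q) x v, (hK x (hK₀K hx)).1, hQv, smul_eq_mul, smul_eq_mul, mul_zero, zero_add,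
      zero_add, one_mul, zero_sub, neg_eq_zero, mul_self_eq_zero] at h
    exact hxp h
  · -- three elements
    have htwo : (2 : F) ≠ 0 := fun h => by
      have h3' : (3 : F) = 0 := by
        have := Nat.cast_card_eq_zero F
        rwa [h3] at this
      exact one_ne_zero (show (1 : F) = 0 by linear_combination h3' - h)
    have hvK : v ∉ K₀ := fun h => by
      have h' := hiso v h v h
      rw [QuadraticMap.polar_self, two_nsmul, ← two_mul, mul_eq_zero] at h'
      exact h'.elim htwo hv
    have h5 : finrank F W = 5 := by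
      have hle : K₀ ⊔ Submodule.span F {v} ≤ perpS Q K₀ := sup_le (fun x hx y hy => hiso y hy x hx)
        ((Submodule.span_singleton_le_iff_mem _ _).2 fun y hy => by rw [polar_comm]; exact (hK y (hK₀K hy)).1)
      have hlt' : K₀ < K₀ ⊔ Submodule.span F {v} :=
        lt_of_le_of_ne le_sup_left fun e => hvK (e ▸ Submodule.mem_sup_right (Submodule.mem_span_singleton_self v))
      have h1 := Submodule.finrank_lt_finrank_of_lt hlt'
      have h2 := Submodule.finrank_mono hle
      have h4 := finrank_perpS hQ K₀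
      omega
    obtain ⟨x, hx, hxz⟩ : ∃ x ∈ K₀, x ∉ Submodule.span F {z} := by
      by_contra hc
      push Not at hc
      have h := Submodule.finrank_mono (show K₀ ≤ Submodule.span F {z} from hc)
      rw [finrank_span_singleton hz0] at h
      omega
    have hQx : Q x = 0 := by
      have h := hiso x hx x hx
      rw [QuadraticMap.polar_self, two_nsmul, ← two_mul, mul_eq_zero] at h
      exact h.resolve_left htwo
    have hd := diff_mem hψ hz (hK x (hK₀K hx)).2 (hfix x hx o hvo) hbo
    rw [hQx, zero_mul, add_zero] at hd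
    refine no_mixed hψ hD hlt h3 h5 hnt hv hvo (fun e => hxz ?_) ?_ hd
    · rw [sub_eq_zero] at e
      refine Submodule.mem_span_singleton.2 ⟨(polar Q b z)⁻¹ * polar Q b x, ?_⟩
      rw [← smul_smul, ← e, smul_smul, inv_mul_cancel₀ hbz, one_smul]
    · rw [sub_eq_add_neg, ← neg_smul, quad_add, quad_smul, quad_smul, hQx, hz, polar_smul_left, polar_smul_right,
        polar_comm (⇑Q) x z, (hK x (hK₀K hx)).2]
      simp

/-- No weight subspace of dimension at least two. -/
theorem no_special_small (o : EOrb hQ hn X) (U₀ : Submodule F W) (hU₀ : 2 ≤ finrank F U₀)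
    (hts₀ : ∀ u ∈ U₀, Q u = 0) (ho : wt Q ψ o = U₀.toAddSubgroup) : False := by
  haveI : Finite W := Module.finite_of_finite F
  haveI : Finite (Submodule F W) := Finite.of_injective _ SetLike.coe_injective
  haveI := Fintype.ofFinite (EOrb hQ hn X)
  set i := finrank F U₀
  set q := Fintype.card F with hq
  have hq2 : 2 ≤ q := Fintype.one_lt_card
  have hne : (wtFam hQ hn X ψ i).Nonempty := ⟨U₀, rfl, hts₀, o, ho⟩
  have hts : ∀ U ∈ wtFam hQ hn X ψ i, ∀ u ∈ U, Q u = 0 := fun U hU => hU.2.1
  have hdim : ∀ U ∈ wtFam hQ hn X ψ i, finrank F U = i := fun U hU => hU.1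
  have h2i : 2 * i ≤ finrank F W := finrank_ts_le hQ hts₀
  have hsmall := isSmall_of hD hlt
  obtain ⟨v, -, hv0, hv⟩ := exists_singular_of_three (Q := Q) (⊤ : Submodule F W) (by rw [finrank_top]; omega)
  have hr := nwt_singular_le (X := X) (hQ := hQ) (hn := hn) hψ hsmall hv0 hv
  have hc := count_through hQ hn hts hdim hne (wtFam_inv hψ i) hU₀ hv0 hv
  choose f hf using fun U : wtFam hQ hn X ψ i => U.2.2.2
  have hfinj : Function.Injective f := fun U U' h => Subtype.ext (Submodule.toAddSubgroup_injective (by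
    rw [← hf U, ← hf U', h]))
  have hle : Nat.card {U : Submodule F W // U ∈ wtFam hQ hn X ψ i ∧ v ∈ U} ≤ nwt (Y := EX hQ hn X) Q ψ v := by
    refine Nat.card_le_card_of_injective (fun U => (⟨f ⟨U.1, U.2.1⟩, by rw [hf]; exact U.2.2⟩ :
      {o : EOrb hQ hn X // v ∈ wt Q ψ o})) fun U U' h => Subtype.ext ?_
    exact congrArg (fun U : wtFam hQ hn X ψ i => (U : Submodule F W)) (hfinj (congrArg Subtype.val h))
  have hNi : finrank F W - i - 2 ≤ 1 := by
    by_contra hlt'
    push Not at hlt'
    have h2 : q ^ 2 ≤ q ^ (finrank F W - i - 2) := Nat.pow_le_pow_right (by omega) hlt'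
    rw [← hq] at hr hc
    nlinarith
  have hbig := family_large hQ hn hts hdim hne (wtFam_inv hψ i) hU₀
  rw [← hq, show finrank F W - i - 1 = 2 by omega, show finrank F W - i - 2 = 1 by omega, pow_one] at hbig
  haveI := Fintype.ofFinite (wtFam hQ hn X ψ i)
  have hd : Nat.card (wtFam hQ hn X ψ i) * q ^ i ≤ Nat.card X := by
    rw [show Nat.card X = Nat.card (EX hQ hn X) from rfl, card_eq_sum (Y := EX hQ hn X) Q ψ hQ hψ, Nat.card_eq_fintype_card,
      ← Finset.card_univ, ← smul_eq_mul, ← Finset.sum_const]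
    refine le_trans (le_of_eq ?_) (Finset.sum_le_sum_of_subset (Finset.subset_univ (Finset.univ.image f)))
    rw [Finset.sum_image fun a _ b _ h => hfinj h]
    refine Finset.sum_congr rfl fun U _ => ?_
    rw [hf U]
    change q ^ i = Nat.card U.1
    rw [Module.natCard_eq_pow_finrank (K := F), hdim _ U.2, Nat.card_eq_fintype_card]
  have h1 := Nat.mul_le_mul_right (q ^ i) hbig
  rcases hD.special with h | h
  · rw [← hq, show finrank F W - 3 = i by omega] at h
    omega
  · omega

omit hψ in
/-- No transitive set below the bound. -/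
theorem not_lt_of_numeric [Nontrivial X] [MulAction.IsPretransitive (OG Q) X]
    (hQ : (polarBilin Q).Nondegenerate) (hn : 5 ≤ finrank F W) : False := by
  haveI : Finite W := Module.finite_of_finite F
  obtain ⟨ψ, hψ1⟩ : ∃ ψ : AddChar F ℂ, ψ 1 ≠ 1 := AddChar.exists_apply_ne_zero.2 one_ne_zero
  have hψ : ψ ≠ 0 := fun e => hψ1 (by rw [e]; rfl)
  have hsmall := isSmall_of hD hlt
  refine false_of_data (hQ := hQ) (hn := hn) hψ hsmall (char_five hD) (nsTop_small hψ hD hlt)
    (no_special_small hψ hD hlt) (lt_of_lt_of_le hlt hD.double) (fun v hv hpos hclass hT => ?_)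
    (fun o₁ hall ho₁ => false_of_regular_small hψ hD.field o₁ hall ho₁)
  -- line orbits on a non-singular level
  haveI := Fintype.ofFinite (EOrb hQ hn X)
  set q := Fintype.card F with hq
  set T := Finset.univ.filter fun o : EOrb hQ hn X => wt Q ψ o = ⊤ with hTdef
  have hv0 : v ≠ 0 := fun e => hv (by rw [e, QuadraticMap.map_zero])
  have hT1 : 1 ≤ T.card := by
    have h := hclass {Q v} 1 fun a ha w hw0 hw => by
      rw [Finset.mem_singleton] at ha
      rw [nline_level hψ hv0 hw0 (by rw [hw, ha])] at hpos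
      exact hpos
    rwa [Finset.card_singleton, one_mul, Nat.card_eq_fintype_card, Fintype.card_subtype] at h
  have hd : T.card * q ^ finrank F W + ∑ o ∈ Tᶜ, Nat.card (wt Q ψ o) = Nat.card X := by
    rw [show Nat.card X = Nat.card (EX hQ hn X) from rfl, card_eq_sum (Y := EX hQ hn X) Q ψ hQ hψ, ← Finset.sum_add_sum_compl T,
      Finset.sum_congr rfl fun o ho => card_wt_top (Finset.mem_filter.1 ho).2, Finset.sum_const, smul_eq_mul]
  set L := Tᶜ.filter fun o => IsLine ψ o with hL
  have hsum : nz Q (Q v) + L.card ≤ ∑ o ∈ L, Nat.card (wt Q ψ o) := by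
    have hk : ∀ w : {w : W // w ≠ 0 ∧ Q w = Q v}, ∃ o : EOrb hQ hn X, o ∈ L ∧ w.1 ∈ wt Q ψ o := by
      rintro ⟨w, hw0, hw⟩
      have hp : 0 < nline hQ hn X ψ w := by rwa [← nline_level hψ hv0 hw0 hw.symm]
      obtain ⟨⟨o, hl, hwo⟩⟩ := (Nat.card_pos_iff.1 hp).1
      exact ⟨o, Finset.mem_filter.2 ⟨Finset.mem_compl.2 fun h => hl.1 (Finset.mem_filter.1 h).2, hl⟩, hwo⟩
    choose f hf hfv using hk
    rw [nz, ← Fintype.card_coe, ← Nat.card_eq_fintype_card (α := {o // o ∈ L}), ← Nat.card_sum,
      ← Finset.sum_attach, ← Finset.univ_eq_attach, ← Nat.card_sigma]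
    refine Nat.card_le_card_of_injective (Sum.elim (fun w => ⟨⟨f w, hf w⟩, w.1, hfv w⟩)
      (fun o => ⟨o, 0, zero_mem _⟩) : _ → Σ o : {o // o ∈ L}, wt Q ψ o.1) ?_
    rintro (w | o) (w' | o') h
    · exact congrArg Sum.inl (Subtype.ext (congrArg (fun p : Σ o : {o // o ∈ L}, wt Q ψ o.1 => (p.2 : W)) h))
    · exact absurd (congrArg (fun p : Σ o : {o // o ∈ L}, wt Q ψ o.1 => (p.2 : W)) h) w.2.1
    · exact absurd (congrArg (fun p : Σ o : {o // o ∈ L}, wt Q ψ o.1 => (p.2 : W)) h).symm w'.2.1
    · exact congrArg Sum.inr (congrArg (fun p : Σ o : {o // o ∈ L}, wt Q ψ o.1 => p.1) h)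
  have hsum2 : ∑ o ∈ L, Nat.card (wt Q ψ o) ≤ L.card * q := by
    refine le_trans (Finset.sum_le_card_nsmul _ _ q fun o ho => card_wt_line (Finset.mem_filter.1 ho).2) ?_
    rw [smul_eq_mul]
  have hsub : ∑ o ∈ L, Nat.card (wt Q ψ o) ≤ ∑ o ∈ Tᶜ, Nat.card (wt Q ψ o) :=
    Finset.sum_le_sum_of_subset (Finset.filter_subset _ _)
  have h1 := hD.line (Q v) hv
  rw [← hq] at h1
  set S := ∑ o ∈ L, Nat.card (wt Q ψ o)
  have h2 := Nat.mul_le_mul_left q hsum
  rw [Nat.mul_add, mul_comm q L.card] at h2
  have h3 : (q - 1) * (q ^ finrank F W + S) ≤ (q - 1) * Nat.card X := by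
    refine Nat.mul_le_mul_left _ ?_
    have := Nat.mul_le_mul_right (q ^ finrank F W) hT1
    omega
  have hq1 : 1 ≤ q := Fintype.card_pos
  have h4 := Nat.mul_lt_mul_of_pos_left hlt (show 0 < q - 1 by have := Fintype.one_lt_card (α := F); omega)
  rw [Nat.mul_add, Nat.sub_mul q 1 S, one_mul] at h3
  omega

omit [MulAction (OG Q) X] [Finite X] hψ hlt in
/-- The bound for subgroups. -/
theorem bound_of_numeric (hQ : (polarBilin Q).Nondegenerate) (hn : 5 ≤ finrank F W) :
    Bound Q D := by
  intro H hH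
  haveI := finite_OG Q
  haveI : Nontrivial (OG Q ⧸ H) := by
    rw [← Finite.one_lt_card_iff_nontrivial, ← Subgroup.index_eq_card]
    exact H.one_lt_index_of_ne_top hH
  rw [Subgroup.index_eq_card]
  by_contra hlt
  exact not_lt_of_numeric hD (not_le.1 hlt) hQ hn

end CfsgLib.MinIdxOrth
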