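import Cfsg.Agent.MinIdxOrth.Lines

/-!
Weights forming totally singular subspaces do not occur.
-/

set_option autoImplicit false
set_option linter.style.haveILetI false
set_option linter.unusedSectionVars false

namespace CfsgLib.MinIdxOrth

open QuadraticMap Module AddAction CfsgLib.Forms CfsgLib.Quad CfsgLib.MinDeg.Om
open scoped Classical

variable {F : Type*} [Field F] [Fintype F] {W : Type*} [AddCommGroup W] [Module F W] [FiniteDimensional F W]
  {Q : QuadraticForm F W} {hQ : (polarBilin Q).Nondegenerate} {hn : 5 ≤ finrank F W}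
  {X : Type*} [MulAction (OG Q) X] [Finite X] {ψ : AddChar F ℂ}

variable (hQ hn X) in
/-- The totally singular subspaces occurring as weight sets, of a given dimension. -/
def wtFam (ψ : AddChar F ℂ) (i : ℕ) : Set (Submodule F W) :=
  {U | finrank F U = i ∧ (∀ u ∈ U, Q u = 0) ∧ ∃ o : EOrb hQ hn X, wt Q ψ o = U.toAddSubgroup}

variable (hψ : ψ ≠ 0)
include hψ

theorem wt_smul_sub {g : ↥(commutator (oGroup Q))} {o : EOrb hQ hn X} {U : Submodule F W}
    (h : wt Q ψ o = U.toAddSubgroup) : wt Q ψ (g • o) = (U.map g.1.1.toLinearMap).toAddSubgroup := by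
  ext b
  obtain ⟨b', rfl⟩ := g.1.1.surjective b
  rw [mem_wt_smul hψ, h]
  exact ⟨fun hb => ⟨b', hb, rfl⟩, fun ⟨x, hx, e⟩ => (g.1.1.injective e) ▸ hx⟩

theorem wtFam_inv (i : ℕ) (g : ↥(commutator (oGroup Q))) (U : Submodule F W) (hU : U ∈ wtFam hQ hn X ψ i) :
    U.map g.1.1.toLinearMap ∈ wtFam hQ hn X ψ i := by
  obtain ⟨hd, hts, o, ho⟩ := hU
  exact ⟨(LinearEquiv.finrank_map_eq g.1.1 U).trans hd,
    fun u ⟨x, hx, e⟩ => by rw [← e]; exact (g.1.2 x).trans (hts x hx), g • o, wt_smul_sub hψ ho⟩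

variable (hsmall : IsSmall Q X) (hN : finrank F W = 5 → (2 : F) ≠ 0) (h4 : 4 ≤ Fintype.card F)
include hsmall hN h4

/-- Dimension of a weight subspace, and uniqueness of its orbit. -/
theorem special_dim {i : ℕ} (hi : 2 ≤ i) (hne : (wtFam hQ hn X ψ i).Nonempty) :
    i + 3 = finrank F W ∧ 2 * i ≤ finrank F W ∧ finrank F W ≤ 6 ∧
      ∀ U ∈ wtFam hQ hn X ψ i, ∀ o o' : EOrb hQ hn X, wt Q ψ o = U.toAddSubgroup →
        wt Q ψ o' = U.toAddSubgroup → o = o' := by
  haveI : Finite W := Module.finite_of_finite F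
  haveI : Finite (Submodule F W) := Finite.of_injective _ SetLike.coe_injective
  have hts : ∀ U ∈ wtFam hQ hn X ψ i, ∀ u ∈ U, Q u = 0 := fun U hU => hU.2.1
  have hdim : ∀ U ∈ wtFam hQ hn X ψ i, finrank F U = i := fun U hU => hU.1
  have h2i : 2 * i ≤ finrank F W := by
    obtain ⟨U, hU⟩ := hne
    have := finrank_ts_le hQ (hts U hU)
    rwa [hdim U hU] at this
  obtain ⟨v, -, hv0, hv⟩ := exists_singular_of_three (Q := Q) (⊤ : Submodule F W) (by rw [finrank_top]; omega)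
  have hr := nwt_singular_le' (X := X) (hQ := hQ) (hn := hn) hψ hsmall (by omega) hv0 hv
  have hc := count_through hQ hn hts hdim hne (wtFam_inv hψ i) hi hv0 hv
  have hle : Nat.card {U : Submodule F W // U ∈ wtFam hQ hn X ψ i ∧ v ∈ U} ≤ nwt (Y := EX hQ hn X) Q ψ v := by
    choose f hf using fun U : {U : Submodule F W // U ∈ wtFam hQ hn X ψ i ∧ v ∈ U} => U.2.1.2.2
    refine Nat.card_le_card_of_injective (fun U => (⟨f U, by rw [hf]; exact U.2.2⟩ :
      {o : EOrb hQ hn X // v ∈ wt Q ψ o})) fun U U' h => Subtype.ext (Submodule.toAddSubgroup_injective ?_)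
    rw [← hf U, ← hf U', show f U = f U' from congrArg Subtype.val h]
  have hNi : finrank F W - i - 2 ≤ 1 := by
    by_contra hlt
    push Not at hlt
    have h2 : Fintype.card F ^ 2 ≤ Fintype.card F ^ (finrank F W - i - 2) :=
      Nat.pow_le_pow_right (by omega) hlt
    nlinarith
  refine ⟨by omega, h2i, by omega, fun U hU o o' ho ho' => ?_⟩
  by_contra hne'
  obtain ⟨𝒰, h𝒰⟩ : ∃ 𝒰 : Set (Submodule F W), ∀ U, U ∈ 𝒰 ↔ (U ∈ wtFam hQ hn X ψ i ∧
      ∃ o o' : EOrb hQ hn X, o ≠ o' ∧ wt Q ψ o = U.toAddSubgroup ∧ wt Q ψ o' = U.toAddSubgroup) :=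
    ⟨{U | _}, fun U => Iff.rfl⟩
  have hinv : ∀ g : ↥(commutator (oGroup Q)), ∀ U ∈ 𝒰, U.map g.1.1.toLinearMap ∈ 𝒰 := by
    intro g U hU'
    obtain ⟨hU, a, b, hab, ha, hb⟩ := (h𝒰 U).1 hU'
    exact (h𝒰 _).2 ⟨wtFam_inv hψ i g U hU, g • a, g • b, fun e => hab (MulAction.injective g e),
      wt_smul_sub hψ ha, wt_smul_sub hψ hb⟩
  have hne2 : 𝒰.Nonempty := ⟨U, (h𝒰 U).2 ⟨hU, o, o', hne', ho, ho'⟩⟩
  have h2 := count_through hQ hn (fun U hU => hts U ((h𝒰 U).1 hU).1) (fun U hU => hdim U ((h𝒰 U).1 hU).1)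
    hne2 hinv hi hv0 hv
  have hle2 : 2 * Nat.card {U : Submodule F W // U ∈ 𝒰 ∧ v ∈ U} ≤ nwt (Y := EX hQ hn X) Q ψ v := by
    rw [two_mul, ← Nat.card_sum]
    choose A B hAB hA hB using fun U : {U : Submodule F W // U ∈ 𝒰 ∧ v ∈ U} => ((h𝒰 U.1).1 U.2.1).2
    have hA' : ∀ U, v ∈ wt Q ψ (A U) := fun U => by rw [hA]; exact U.2.2
    have hB' : ∀ U, v ∈ wt Q ψ (B U) := fun U => by rw [hB]; exact U.2.2
    let F' : {U : Submodule F W // U ∈ 𝒰 ∧ v ∈ U} ⊕ {U : Submodule F W // U ∈ 𝒰 ∧ v ∈ U} →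
        {o : EOrb hQ hn X // v ∈ wt Q ψ o} := Sum.elim (fun U => ⟨A U, hA' U⟩) (fun U => ⟨B U, hB' U⟩)
    refine Nat.card_le_card_of_injective F' ?_
    have key : ∀ (x : EOrb hQ hn X) (y : Submodule F W), wt Q ψ x = (Submodule.toAddSubgroup y) → ∀ z, wt Q ψ (z : EOrb hQ hn X) = wt Q ψ x →
        ∀ y', wt Q ψ z = Submodule.toAddSubgroup y' → y = y' := fun x y hx z hz y' hy' =>
      Submodule.toAddSubgroup_injective (hx.symm.trans (hz.symm.trans hy'))
    rintro (U | U) (U' | U') h <;> have h' := congrArg Subtype.val h <;> simp only [F', Sum.elim_inl, Sum.elim_inr] at h'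
    · exact congrArg Sum.inl (Subtype.ext (key _ _ (hA U) _ (by rw [h']) _ (hA U')))
    · obtain rfl : U = U' := Subtype.ext (key _ _ (hA U) _ (by rw [h']) _ (hB U'))
      exact absurd h' (hAB U)
    · obtain rfl : U = U' := Subtype.ext (key _ _ (hB U) _ (by rw [h']) _ (hA U'))
      exact absurd h'.symm (hAB U)
    · exact congrArg Sum.inr (Subtype.ext (key _ _ (hB U) _ (by rw [h']) _ (hB U')))
  rw [show finrank F W - i - 2 = 1 by omega, pow_one] at h2
  omega

/-- A weight subspace forces all orbits to be of that kind. -/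
theorem special_all (hns : NSTop hQ hn X ψ) (hfree : ∀ o : EOrb hQ hn X, wt Q ψ o ≠ ⊥) {i : ℕ} (hi : 2 ≤ i) (hne : (wtFam hQ hn X ψ i).Nonempty)
    (o : EOrb hQ hn X) : ∃ U ∈ wtFam hQ hn X ψ i, wt Q ψ o = U.toAddSubgroup := by
  haveI : Finite W := Module.finite_of_finite F
  haveI := Fintype.ofFinite W
  haveI : Finite (Submodule F W) := Finite.of_injective _ SetLike.coe_injective
  haveI := Fintype.ofFinite (EOrb hQ hn X)
  haveI := Fintype.ofFinite (wtFam hQ hn X ψ i)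
  obtain ⟨hiN, h2i, hN6, -⟩ := special_dim hψ hsmall hN h4 hi hne
  set q := Fintype.card F with hq
  have hts : ∀ U ∈ wtFam hQ hn X ψ i, ∀ u ∈ U, Q u = 0 := fun U hU => hU.2.1
  have hdim : ∀ U ∈ wtFam hQ hn X ψ i, finrank F U = i := fun U hU => hU.1
  have hbig := family_large hQ hn hts hdim hne (wtFam_inv hψ i) hi
  -- orbits of the family
  choose f hf using fun U : wtFam hQ hn X ψ i => U.2.2.2
  set S : Finset (EOrb hQ hn X) := Finset.univ.image f
  have hfinj : Function.Injective f := fun U U' h => Subtype.ext (Submodule.toAddSubgroup_injective (by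
    rw [← hf U, ← hf U', h]))
  have hS : Nat.card (wtFam hQ hn X ψ i) * q ^ i ≤ ∑ o ∈ S, Nat.card (wt Q ψ o) := by
    rw [Finset.sum_image fun a _ b _ h => hfinj h, Nat.card_eq_fintype_card, ← Finset.card_univ, ← smul_eq_mul,
      ← Finset.sum_const]
    refine Finset.sum_le_sum fun U _ => le_of_eq ?_
    rw [hf U]
    change q ^ i = Nat.card U.1
    rw [Module.natCard_eq_pow_finrank (K := F), hdim _ U.2, Nat.card_eq_fintype_card]
  by_contra hc
  push Not at hc
  have hd : Nat.card X = ∑ o : EOrb hQ hn X, Nat.card (wt Q ψ o) := card_eq_sum Q ψ hQ hψ (Y := EX hQ hn X)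
  have hS' : ∀ o ∈ S, ∃ U ∈ wtFam hQ hn X ψ i, wt Q ψ o = U.toAddSubgroup := fun o ho => by
    obtain ⟨U, -, rfl⟩ := Finset.mem_image.1 ho
    exact ⟨U.1, U.2, hf U⟩
  -- the remaining orbits are numerous
  have hextra : (q ^ 2 - 1) * q ^ (finrank F W - 3) ≤ ∑ o ∈ Sᶜ, Nat.card (wt Q ψ o) := by
    have ho : o ∈ Sᶜ := Finset.mem_compl.2 fun h => by
      obtain ⟨U, hU, e⟩ := hS' o h
      exact hc U hU e
    rcases wt_cases hψ hsmall hN hns o with ht | ⟨v, hv, hspan⟩ | ⟨U, hU2, hUts, hU⟩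
    · refine le_trans ?_ (Finset.single_le_sum (fun o _ => Nat.zero_le _) ho)
      rw [card_wt_top ht, ← hq]
      calc (q ^ 2 - 1) * q ^ (finrank F W - 3) ≤ q ^ 3 * q ^ (finrank F W - 3) :=
            Nat.mul_le_mul_right _ (le_trans (Nat.sub_le _ _) (Nat.pow_le_pow_right (by omega) (by omega)))
        _ = q ^ finrank F W := by rw [← pow_add]; congr 1; omega
    · obtain ⟨b, hb, hb0⟩ : ∃ b ∈ wt Q ψ o, b ≠ 0 := by
        by_contra h0
        push Not at h0
        exact hfree o ((AddSubgroup.eq_bot_iff_forall _).2 h0)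
      by_cases ht : wt Q ψ o = ⊤
      · refine le_trans ?_ (Finset.single_le_sum (fun o _ => Nat.zero_le _) ho)
        rw [card_wt_top ht, ← hq]
        calc (q ^ 2 - 1) * q ^ (finrank F W - 3) ≤ q ^ 3 * q ^ (finrank F W - 3) :=
              Nat.mul_le_mul_right _ (le_trans (Nat.sub_le _ _) (Nat.pow_le_pow_right (by omega) (by omega)))
          _ = q ^ finrank F W := by rw [← pow_add]; congr 1; omega
      -- every vector of the level lies in a line orbit
      have hpos : 0 < nline hQ hn X ψ b := by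
        haveI : Nonempty {o : EOrb hQ hn X // IsLine ψ o ∧ b ∈ wt Q ψ o} := ⟨⟨o, ⟨ht, v, hv, hspan⟩, hb⟩⟩
        exact Nat.card_pos
      refine le_trans (nz_lb hQ hn (Q b)) ?_
      have hmem : ∀ w : {w : W // w ≠ 0 ∧ Q w = Q b}, ∃ a : EOrb hQ hn X, a ∈ Sᶜ ∧ w.1 ∈ wt Q ψ a := by
        rintro ⟨w, hw0, hw⟩
        rw [nline_level hψ hb0 hw0 hw.symm] at hpos
        obtain ⟨⟨a, ⟨⟨hat, v', hv', hsp⟩, hwa⟩⟩⟩ := (Nat.card_pos_iff.1 hpos).1
        refine ⟨a, Finset.mem_compl.2 fun h => ?_, hwa⟩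
        obtain ⟨U, hU, e⟩ := hS' a h
        have h2 := Submodule.finrank_mono (show U ≤ Submodule.span F {v'} from fun x hx => hsp x (by rw [e]; exact hx))
        rw [hdim U hU, finrank_span_singleton hv'] at h2
        omega
      choose g hgS hgw using hmem
      refine le_trans (Nat.card_le_card_of_injective
        (fun w => (⟨⟨g w, hgS w⟩, w.1, hgw w⟩ : Σ a : {a // a ∈ Sᶜ}, wt Q ψ a.1))
        fun x y h => Subtype.ext (congrArg (fun p : Σ a : {a // a ∈ Sᶜ}, wt Q ψ a.1 => (p.2 : W)) h)) ?_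
      rw [Nat.card_sigma, Finset.univ_eq_attach, Finset.sum_attach _ fun a => Nat.card (wt Q ψ a)]
    · exfalso
      have hU' : U ∈ wtFam hQ hn X ψ (finrank F U) := ⟨rfl, hUts, o, hU⟩
      obtain ⟨hiN', -, -, -⟩ := special_dim hψ hsmall hN h4 hU2 ⟨U, hU'⟩
      refine hc U ?_ hU
      rwa [show i = finrank F U by omega]
  rw [← Finset.sum_add_sum_compl S] at hd
  have h1 := small_lt hsmall hQ hn
  rw [← hq] at h1
  set u := q ^ (finrank F W - 3) with hu
  rw [hd] at h1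
  have h5 : (q ^ 2 + 1) * (q + 1) * q ^ i ≤ Nat.card (wtFam hQ hn X ψ i) * q ^ i := by
    refine Nat.mul_le_mul_right _ (le_trans (le_of_eq ?_) hbig)
    rw [show finrank F W - i - 1 = 2 by omega, show finrank F W - i - 2 = 1 by omega, pow_one]
  rw [show i = finrank F W - 3 by omega, ← hu] at h5 hS
  obtain ⟨k, hk⟩ : ∃ k, q = k + 4 := ⟨q - 4, by omega⟩
  rw [hk, show k + 4 - 1 = k + 3 by omega] at h1
  rw [hk, show (k + 4) ^ 2 - 1 = (k + 5) * (k + 3) by
    rw [show (k + 4) ^ 2 = (k + 5) * (k + 3) + 1 by ring, Nat.add_sub_cancel]] at hextra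
  rw [hk] at h5
  have h6 := Nat.mul_le_mul_left (k + 3) (Nat.add_le_add (le_trans h5 hS) hextra)
  nlinarith [Nat.zero_le (u * k * k * k), Nat.zero_le (u * k * k), Nat.zero_le (u * k)]

omit hψ hsmall hN h4 in
theorem exists_unit_not_sq_one (h4 : 4 ≤ Fintype.card F) : ∃ s : F, s ≠ 0 ∧ s * s ≠ 1 := by
  by_contra hc
  push Not at hc
  have h : (Finset.univ : Finset F) ⊆ {0, 1, -1} := fun s _ => by
    rcases eq_or_ne s 0 with rfl | hs
    · simp
    · rcases mul_self_eq_one_iff.1 (hc s hs) with rfl | rfl <;> simp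
  have := (Finset.card_le_card h).trans Finset.card_le_three
  rw [Finset.card_univ] at this
  omega

omit hψ hsmall h4 in
/-- A value not taken on the orthogonal spaces of the members of a family of maximal subspaces. -/
theorem exists_avoided_value (hQ : (polarBilin Q).Nondegenerate) {i : ℕ} (hiN : i + 3 = finrank F W) (h2i : 2 * i ≤ finrank F W)
    (hN6 : finrank F W ≤ 6) (hn : 5 ≤ finrank F W) {U₀ : Submodule F W} (hU₀ : ∀ u ∈ U₀, Q u = 0) (hd₀ : finrank F U₀ = i) :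
    ∃ t : F, t ≠ 0 ∧ ∀ U : Submodule F W, (∀ u ∈ U, Q u = 0) → finrank F U = i → ∀ x ∈ perpS Q U, ∀ c : F, c ≠ 0 →
      Q x ≠ c * c * t := by
  by_cases h6 : finrank F W = 6
  · refine ⟨1, one_ne_zero, fun U hU hUd x hx c hc e => ?_⟩
    have hle : U ≤ perpS Q U := fun a ha b hb => ts_polar hU hb ha
    have hP := finrank_perpS hQ U
    rw [← Submodule.eq_of_le_of_finrank_le hle (by omega)] at hx
    rw [hU x hx, mul_one] at e
    exact hc (mul_self_eq_zero.1 e.symm)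
  have h5 : finrank F W = 5 := by omega
  have h2 := hN h5
  obtain ⟨n, hn'⟩ := FiniteField.exists_nonsquare (show ringChar F ≠ 2 from fun e => h2 (by
    haveI : CharP F 2 := ringChar.of_eq e
    exact CharTwo.two_eq_zero))
  have hn0 : n ≠ 0 := fun e => hn' ⟨0, by rw [e, mul_zero]⟩
  have hle₀ : U₀ ≤ perpS Q U₀ := fun a ha b hb => ts_polar hU₀ hb ha
  have hP₀ := finrank_perpS hQ U₀
  obtain ⟨s₁, hs₁, hQs₁⟩ : ∃ x ∈ perpS Q U₀, Q x ≠ 0 := exists_aniso_of_finrank hQ (by omega)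
  refine ⟨Q s₁ * n, mul_ne_zero hQs₁ hn0, fun U hU hUd x hx c hc e => ?_⟩
  -- move the member to the first one
  let B := Module.finBasisOfFinrankEq F U hUd
  let B₀ := Module.finBasisOfFinrankEq F U₀ hd₀
  obtain ⟨g, hg, hgB⟩ := quad_exists_map_family hQ (fun j => (B j : W)) (fun j => (B₀ j : W))
    (B.linearIndependent.map' U.subtype U.ker_subtype) (B₀.linearIndependent.map' U₀.subtype U₀.ker_subtype)
    (fun j => by rw [hU _ (B j).2, hU₀ _ (B₀ j).2])
    (fun j k => by rw [ts_polar hU (B j).2 (B k).2, ts_polar hU₀ (B₀ j).2 (B₀ k).2])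
  have hmap : ∀ u : U₀, ∃ u' : U, g (u' : W) = u := fun u => by
    refine ⟨B₀.equiv B (Equiv.refl _) u, ?_⟩
    have h : (g.toLinearMap.comp U.subtype).comp (B₀.equiv B (Equiv.refl _)).toLinearMap = U₀.subtype :=
      B₀.ext fun j => by simpa using hgB j
    simpa using LinearMap.congr_fun h u
  have hgx : g x ∈ perpS Q U₀ := fun y hy => by
    obtain ⟨u', hu'⟩ := hmap ⟨y, hy⟩
    rw [← show g (u' : W) = y from hu', polar, ← map_add, hg, hg, hg]
    exact hx u'.1 u'.2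
  -- the orthogonal space of the first one has one anisotropic direction
  have hs₁n : s₁ ∉ U₀ := fun h => hQs₁ (hU₀ _ h)
  have hsup : U₀ ⊔ Submodule.span F {s₁} = perpS Q U₀ := by
    refine Submodule.eq_of_le_of_finrank_le (sup_le hle₀ ((Submodule.span_singleton_le_iff_mem _ _).2 hs₁)) ?_
    have hlt : U₀ < U₀ ⊔ Submodule.span F {s₁} :=
      lt_of_le_of_ne le_sup_left fun e => hs₁n (e ▸ Submodule.mem_sup_right (Submodule.mem_span_singleton_self s₁))
    have := Submodule.finrank_lt_finrank_of_lt hlt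
    omega
  rw [← hsup, Submodule.mem_sup] at hgx
  obtain ⟨u, hu, w, hw, hgx⟩ := hgx
  obtain ⟨l, rfl⟩ := Submodule.mem_span_singleton.1 hw
  have e2 : Q x = l * l * Q s₁ := by
    rw [← hg x, ← hgx, quad_add, hU₀ u hu, quad_smul, polar_smul_right, hs₁ u hu, smul_zero, add_zero, zero_add]
  apply hn'
  refine ⟨l / c, ?_⟩
  rw [e2] at e
  field_simp
  exact mul_right_cancel₀ hQs₁ (by linear_combination -e)

/-- There are no weight subspaces. -/
theorem no_special (hns : NSTop hQ hn X ψ) (hfree : ∀ o : EOrb hQ hn X, wt Q ψ o ≠ ⊥) (o : EOrb hQ hn X)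
    {U₀ : Submodule F W} (hU₀ : 2 ≤ finrank F U₀) (hts₀ : ∀ u ∈ U₀, Q u = 0)
    (ho : wt Q ψ o = U₀.toAddSubgroup) : False := by
  haveI := Fintype.ofFinite (EOrb hQ hn X)
  set i := finrank F U₀ with hi
  have hmem : U₀ ∈ wtFam hQ hn X ψ i := ⟨rfl, hts₀, o, ho⟩
  obtain ⟨hiN, h2i, hN6, huniq⟩ := special_dim hψ hsmall hN h4 hU₀ ⟨U₀, hmem⟩
  obtain ⟨t, ht, hav⟩ := exists_avoided_value hN hQ hiN h2i hN6 hn hts₀ rfl
  obtain ⟨v, hvU, hv0⟩ := Submodule.exists_mem_ne_zero_of_ne_bot (p := U₀) fun e => by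
    rw [hi, e, finrank_bot] at hU₀
    omega
  have hv := hts₀ v hvU
  obtain ⟨v', hQv', hvv', hT, hTd⟩ := exists_partner hQ hv0 hv
  obtain ⟨⟨a, haT⟩, ha⟩ := exists_value (Q := resQ Q _) (by omega) hT t
  have hQa : Q a = t := ha
  have hva : polar Q v a = 0 := haT v (Submodule.subset_span ⟨0, rfl⟩)
  -- the Siegel element fixes the orbit
  set g := sg hQ hn v a with hg
  have hgU : U₀.map g.1.1.toLinearMap = U₀ := by
    refine Submodule.eq_of_le_of_finrank_le ?_ (le_of_eq (LinearEquiv.finrank_map_eq _ _).symm)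
    rintro _ ⟨x, hx, rfl⟩
    rw [LinearEquiv.coe_coe, sg_apply hv hva, ts_polar hts₀ hx hvU]
    simp only [zero_smul, add_zero, mul_zero]
    exact U₀.sub_mem hx (U₀.smul_mem _ hvU)
  have hgo : g • o = o := huniq U₀ hmem _ _ (by rw [wt_smul_sub hψ ho, hgU]) ho
  -- the torus fixes the orbit
  obtain ⟨s, hs, hs1⟩ := exists_unit_not_sq_one h4
  have hc : s * s ≠ 0 := mul_ne_zero hs hs
  obtain ⟨σ, hσy, hσ⟩ := exists_orb_perm Q ψ hQ hψ (mv (X := X) (torus hQ hn s hs))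
    (levF (1 : oGroup Q) hc) (levF 1 (inv_ne_zero hc)) (fun w y => mv_torus s hs w y) (levF_dual 1 hc ψ)
  have hσo : σ o = o := huniq U₀ hmem _ _ (by
    ext b
    obtain ⟨b', rfl⟩ := (levF (1 : oGroup Q) (inv_ne_zero hc)).surjective b
    rw [hσ, ho, levF_apply]
    exact ⟨fun h => U₀.smul_mem _ h, fun h => by
      have h' := U₀.smul_mem (s * s) h
      rwa [smul_smul, mul_inv_cancel₀ hc, one_smul] at h'⟩) ho
  have h1 := exists_torus_fixed hψ s hs hs1 o (fun y hy => by rw [← hσy, hy, hσo]) g hgo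
  -- its conjugate in the radical fixes nothing
  obtain ⟨w, c, k, hc0, hQw, hconj⟩ := exists_fix_eq (hQ := hQ) (hn := hn) hv hv0 hva
  have h2 : fixX X (eH hQ hn w) = fixX X (liftC Q g) := by
    rw [hconj, fixX_conj, show g = ⟨siegel Q v a, siegel_mem_commutator hQ hn hv hva⟩ from
      Subtype.ext (sg_val hv hva)]
  rw [← h2, fixX_eH hψ, Finset.sum_eq_zero fun o' _ => if_neg fun hall => ?_] at h1
  · omega
  obtain ⟨U, ⟨hUd, hUts, -⟩, hU⟩ := special_all hψ hsmall hN h4 hns hfree hU₀ ⟨U₀, hmem⟩ o'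
  refine hav U hUts hUd w (fun x hx => ?_) c hc0 (by rw [hQw, hQa])
  by_contra hne
  obtain ⟨r, hr⟩ := exists_psi_ne hψ (by rwa [polar_comm] at hne : polar Q w x ≠ 0)
  exact hr (hall _ (by rw [hU]; exact U.smul_mem r hx))

end CfsgLib.MinIdxOrth
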