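import Cfsg.Agent.MinIdxOrth.Fix

/-!
The weights of an orbit form the whole space, a part of a line, or a totally singular subspace.
-/

set_option autoImplicit false
set_option linter.style.haveILetI false
set_option linter.unusedSectionVars false

namespace CfsgLib.MinIdxOrth

open QuadraticMap Module AddAction CfsgLib.Forms CfsgLib.Quad CfsgLib.MinDeg.Om
open scoped Classical

variable {F : Type*} [Field F] [Fintype F] {W : Type*} [AddCommGroup W] [Module F W] [FiniteDimensional F W]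
  {Q : QuadraticForm F W} {hQ : (polarBilin Q).Nondegenerate} {hn : 5 ≤ finrank F W}
  {X : Type*} [MulAction (OG Q) X] [Finite X]

variable (hQ hn X) in
/-- Siegel elements fixing a non-singular weight fix the orbits carrying it. -/
def NSFix (ψ : AddChar F ℂ) : Prop :=
  ∀ v : W, Q v ≠ 0 → ∀ o : EOrb hQ hn X, v ∈ wt Q ψ o → ∀ z x : W, Q z = 0 → polar Q z x = 0 →
    polar Q v z = 0 → polar Q v x = 0 → sg hQ hn z x • o = o

variable (hQ hn X) in
/-- A non-singular weight and a further direction force all weights. -/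
def NSTop (ψ : AddChar F ℂ) : Prop :=
  ∀ v : W, Q v ≠ 0 → ∀ o : EOrb hQ hn X, v ∈ wt Q ψ o → ∀ b ∈ wt Q ψ o, b ∉ Submodule.span F {v} →
    wt Q ψ o = ⊤

variable {ψ : AddChar F ℂ} (hψ : ψ ≠ 0)
include hψ

theorem diff_mem {e a b : W} (he : Q e = 0) (hea : polar Q e a = 0) {o : EOrb hQ hn X}
    (hfix : sg hQ hn e a • o = o) (hb : b ∈ wt Q ψ o) :
    polar Q b e • a - (polar Q b a + Q a * polar Q b e) • e ∈ wt Q ψ o := by
  have h := (mem_wt_smul hψ (sg hQ hn e a) o b).2 hb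
  rw [hfix, sg_apply he hea] at h
  have h' := (wt Q ψ o).sub_mem h hb
  rwa [add_sub_assoc, add_sub_cancel_left] at h'

/-- Two directions with non-zero polar value produce the whole line of the centre. -/
theorem line_mem {e b : W} (he : Q e = 0) {K : Submodule F W} (hK : ∀ a ∈ K, polar Q e a = 0)
    {o : EOrb hQ hn X} (hfix : ∀ a ∈ K, sg hQ hn e a • o = o) (hb : b ∈ wt Q ψ o) (hbe : polar Q b e ≠ 0)
    {a₁ a₂ : W} (h₁ : a₁ ∈ K) (h₂ : a₂ ∈ K) (h12 : polar Q a₁ a₂ ≠ 0) (t : F) : t • e ∈ wt Q ψ o := by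
  set s := t / (polar Q a₁ a₂ * polar Q b e)
  have hD : ∀ a ∈ K, polar Q b e • a - (polar Q b a + Q a * polar Q b e) • e ∈ wt Q ψ o := fun a ha =>
    diff_mem hψ he (hK a ha) (hfix a ha) hb
  have h := (wt Q ψ o).sub_mem ((wt Q ψ o).add_mem (hD _ (K.smul_mem s h₁)) (hD _ h₂))
    (hD _ (K.add_mem (K.smul_mem s h₁) h₂))
  convert h using 1
  simp only [polar_add_right, quad_add, polar_smul_left, smul_eq_mul]
  have e1 : t = s * (polar Q a₁ a₂ * polar Q b e) := (div_mul_cancel₀ t (mul_ne_zero h12 hbe)).symm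
  rw [e1]
  module

variable (hsmall : IsSmall Q X) (hN : finrank F W = 5 → (2 : F) ≠ 0)
include hsmall hN

theorem perp_le_of_nonorth {v b : W} (hv0 : v ≠ 0) (hv : Q v = 0) {o : EOrb hQ hn X} (hvo : v ∈ wt Q ψ o)
    (hbo : b ∈ wt Q ψ o) (hbv : polar Q b v ≠ 0) (a : W) (ha : polar Q v a = 0) : a ∈ wt Q ψ o := by
  set K := perpS Q (Submodule.span F {v})
  have hK : ∀ a ∈ K, polar Q v a = 0 := fun a ha => ha v (Submodule.mem_span_singleton_self v)
  have hfix : ∀ a ∈ K, sg hQ hn v a • o = o := fun a ha => sg_fix_singular hψ hsmall hN hv0 hv hvo (hK a ha)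
  obtain ⟨a₁, h₁, a₂, h₂, h12⟩ : ∃ a₁ ∈ K, ∃ a₂ ∈ K, polar Q a₁ a₂ ≠ 0 := by
    by_contra hc
    push Not at hc
    have hle : K ≤ perpS Q K := fun x hx y hy => hc y hy x hx
    rw [perpS_perpS hQ] at hle
    have h1 : _ + finrank F K = _ := finrank_perpS hQ (Submodule.span F {v})
    have h2 := Submodule.finrank_mono hle
    rw [finrank_span_singleton hv0] at h1 h2
    omega
  set a' := (polar Q b v)⁻¹ • a
  have ha' : polar Q v a' = 0 := by rw [polar_smul_right, ha, smul_zero]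
  have h := diff_mem hψ hv ha' (hfix a' (mem_perpS_span hQ ha')) hbo
  have h' := (wt Q ψ o).add_mem h (line_mem hψ hv hK hfix hbo hbv h₁ h₂ h12
    (polar Q b a' + Q a' * polar Q b v))
  rwa [sub_add_cancel, smul_smul, mul_inv_cancel₀ hbv, one_smul] at h'

theorem eq_top_of_nonorth {v b : W} (hv0 : v ≠ 0) (hv : Q v = 0) {o : EOrb hQ hn X} (hvo : v ∈ wt Q ψ o)
    (hbo : b ∈ wt Q ψ o) (hbv : polar Q b v ≠ 0) : wt Q ψ o = ⊤ := by
  have hperp := perp_le_of_nonorth hψ hsmall hN hv0 hv hvo hbo hbv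
  obtain ⟨v', hQv', hvv', hT, hTd⟩ := exists_partner hQ hv0 hv
  set T := perpS Q (Submodule.span F (Set.range ![v, v']))
  obtain ⟨u, huT, hu0, hu⟩ := exists_singular_of_three (Q := Q) T (by omega)
  obtain ⟨y, hy⟩ := exists_polar_ne hT (x := (⟨u, huT⟩ : T)) fun e => hu0 (congrArg Subtype.val e)
  have hy' : polar Q u y.1 ≠ 0 := hy
  have hvT : ∀ t ∈ T, polar Q v t = 0 := fun t ht => ht v (Submodule.subset_span ⟨0, rfl⟩)
  have hperp' := perp_le_of_nonorth hψ hsmall hN hu0 hu (hperp u (hvT u huT)) (hperp y.1 (hvT y.1 y.2))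
    (by rwa [polar_comm])
  refine eq_top_iff.2 fun w _ => ?_
  have h1 : w - polar Q v w • v' ∈ wt Q ψ o := hperp _ (by
    rw [polar_sub_right, polar_smul_right, hvv', smul_eq_mul, mul_one, sub_self])
  have h2 : polar Q v w • v' ∈ wt Q ψ o := hperp' _ (by
    rw [polar_smul_right, polar_comm (⇑Q) u v', huT v' (Submodule.subset_span ⟨1, rfl⟩), smul_zero])
  simpa using (wt Q ψ o).add_mem h1 h2

theorem line_le_of_orth {v b : W} (hv0 : v ≠ 0) (hv : Q v = 0) {o : EOrb hQ hn X} (hvo : v ∈ wt Q ψ o)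
    (hbo : b ∈ wt Q ψ o) (hbv : polar Q b v = 0) (hb : b ∉ Submodule.span F {v}) (t : F) :
    t • v ∈ wt Q ψ o := by
  set K := perpS Q (Submodule.span F {v})
  obtain ⟨a, ha, hba⟩ : ∃ a ∈ K, polar Q b a ≠ 0 := by
    by_contra hc
    push Not at hc
    apply hb
    rw [← perpS_perpS hQ (Submodule.span F {v})]
    exact fun y hy => by rw [polar_comm]; exact hc y hy
  set a' := (-t / polar Q b a) • a
  have ha' : polar Q v a' = 0 := by
    rw [polar_smul_right, ha v (Submodule.mem_span_singleton_self v), smul_zero]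
  have h := diff_mem hψ hv ha' (sg_fix_singular hψ hsmall hN hv0 hv hvo ha') hbo
  rw [hbv, zero_smul, mul_zero, add_zero, zero_sub, ← neg_smul, polar_smul_right, smul_eq_mul,
    div_mul_cancel₀ _ hba, neg_neg] at h
  exact h

omit hψ hsmall hN in
theorem exists_nonorth_center (hQ : (polarBilin Q).Nondegenerate) (hn : 5 ≤ finrank F W) {v b : W} (hv : Q v ≠ 0) (hb : b ∉ Submodule.span F {v}) :
    ∃ z : W, polar Q v z = 0 ∧ Q z = 0 ∧ polar Q b z ≠ 0 := by
  have hv0 : v ≠ 0 := fun e => hv (by rw [e, QuadraticMap.map_zero])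
  set P := perpS Q (Submodule.span F {v})
  have hP : _ + finrank F P = _ := finrank_perpS hQ (Submodule.span F {v})
  rw [finrank_span_singleton hv0] at hP
  have hvP : ∀ x ∈ P, polar Q v x = 0 := fun x hx => hx v (Submodule.mem_span_singleton_self v)
  obtain ⟨z₀, hz₀P, hz₀0, hz₀⟩ := exists_singular_of_three (Q := Q) P (by omega)
  obtain ⟨y, hyP, hy⟩ : ∃ y ∈ P, polar Q z₀ y ≠ 0 := by
    by_contra hc
    push Not at hc
    have : z₀ ∈ perpS Q P := fun y hy => by rw [polar_comm]; exact hc y hy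
    rw [perpS_perpS hQ] at this
    obtain ⟨c, rfl⟩ := Submodule.mem_span_singleton.1 this
    rw [quad_smul, mul_eq_zero, or_iff_left hv] at hz₀
    exact hz₀0 (by rw [mul_self_eq_zero.1 hz₀, zero_smul])
  obtain ⟨z, hzP, hz, hbz⟩ : ∃ z ∈ P, Q z = 0 ∧ polar Q b z ≠ 0 := by
    by_contra hc
    push Not at hc
    apply hb
    rw [← perpS_perpS hQ (Submodule.span F {v})]
    intro x hx
    have hle : Submodule.span F {x | x ∈ P ∧ Q x = 0} ≤ perpS Q (Submodule.span F {b}) :=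
      Submodule.span_le.2 fun x hx => mem_perpS_span hQ (hc x hx.1 hx.2)
    rw [span_singular_eq hQ hz₀P hyP hz₀ hy] at hle
    rw [polar_comm]
    exact hle hx b (Submodule.mem_span_singleton_self b)
  exact ⟨z, hvP z hzP, hz, hbz⟩

theorem nsTop_of_fix (hns : NSFix hQ hn X ψ) : NSTop hQ hn X ψ := by
  intro v hv o hvo b hbo hb
  have hv0 : v ≠ 0 := fun e => hv (by rw [e, QuadraticMap.map_zero])
  obtain ⟨z, hvz, hz, hbz⟩ := exists_nonorth_center hQ hn hv hb
  set K := perpS Q (Submodule.span F (Set.range ![v, z]))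
  have hK : ∀ a ∈ K, polar Q v a = 0 ∧ polar Q z a = 0 := fun a ha =>
    ⟨ha v (Submodule.subset_span ⟨0, rfl⟩), ha z (Submodule.subset_span ⟨1, rfl⟩)⟩
  obtain ⟨a₁, h₁, a₂, h₂, h12⟩ : ∃ a₁ ∈ K, ∃ a₂ ∈ K, polar Q a₁ a₂ ≠ 0 := by
    by_contra hc
    push Not at hc
    have hle : K ≤ perpS Q K := fun x hx y hy => hc y hy x hx
    rw [perpS_perpS hQ] at hle
    have h1 : _ + finrank F K = _ := finrank_perpS hQ (Submodule.span F (Set.range ![v, z]))
    have h2 := Submodule.finrank_mono hle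
    have h3 : finrank F (Submodule.span F (Set.range ![v, z])) ≤ 2 := (finrank_range_le_card _).trans (by simp)
    omega
  have hzo := line_mem hψ hz (fun a ha => (hK a ha).2)
    (fun a ha => hns v hv o hvo z a hz (hK a ha).2 hvz (hK a ha).1) hbo hbz h₁ h₂ h12 1
  rw [one_smul] at hzo
  exact eq_top_of_nonorth hψ hsmall hN (fun e => hbz (by rw [e, polar_zero_right])) hz hzo hbo hbz


/-- The possible weight sets. -/
theorem wt_cases (hns : NSTop hQ hn X ψ) (o : EOrb hQ hn X) :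
    wt Q ψ o = ⊤ ∨ (∃ v : W, v ≠ 0 ∧ ∀ b ∈ wt Q ψ o, b ∈ Submodule.span F {v}) ∨
      ∃ U : Submodule F W, 2 ≤ finrank F U ∧ (∀ u ∈ U, Q u = 0) ∧ wt Q ψ o = U.toAddSubgroup := by
  by_cases htop : wt Q ψ o = ⊤
  · exact Or.inl htop
  refine Or.inr ?_
  by_cases hline : ∃ v : W, v ≠ 0 ∧ ∀ b ∈ wt Q ψ o, b ∈ Submodule.span F {v}
  · exact Or.inl hline
  refine Or.inr ?_
  push Not at hline
  have hsing : ∀ v ∈ wt Q ψ o, Q v = 0 := by
    intro v hv
    by_contra hQv
    obtain ⟨b, hb, hbv⟩ := hline v fun e => hQv (by rw [e, QuadraticMap.map_zero])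
    exact htop (hns v hQv o hv b hb hbv)
  have horth : ∀ v ∈ wt Q ψ o, ∀ b ∈ wt Q ψ o, polar Q b v = 0 := by
    intro v hv b hb
    rcases eq_or_ne v 0 with rfl | hv0
    · exact polar_zero_right Q b
    by_contra h
    exact htop (eq_top_of_nonorth hψ hsmall hN hv0 (hsing v hv) hv hb h)
  have hsmul : ∀ v ∈ wt Q ψ o, ∀ t : F, t • v ∈ wt Q ψ o := by
    intro v hv t
    rcases eq_or_ne v 0 with rfl | hv0
    · rw [smul_zero]; exact zero_mem _
    obtain ⟨b, hb, hbv⟩ := hline v hv0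
    exact line_le_of_orth hψ hsmall hN hv0 (hsing v hv) hv hb (horth v hv b hb) hbv t
  let U : Submodule F W :=
    { carrier := wt Q ψ o
      zero_mem' := zero_mem _
      add_mem' := fun {a b} ha hb => (wt Q ψ o).add_mem ha hb
      smul_mem' := fun t v hv => hsmul v hv t }
  refine ⟨U, ?_, hsing, AddSubgroup.ext fun x => Iff.rfl⟩
  by_contra hlt
  haveI : Nontrivial W := Module.nontrivial_of_finrank_pos (R := F) (by omega)
  rcases eq_or_ne U ⊥ with hU | hU
  · obtain ⟨v, hv⟩ := exists_ne (0 : W)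
    obtain ⟨b, hb, hbv⟩ := hline v hv
    have hb' : b ∈ U := hb
    rw [hU, Submodule.mem_bot] at hb'
    exact hbv (hb' ▸ zero_mem _)
  · obtain ⟨v, hvU, hv0⟩ := Submodule.exists_mem_ne_zero_of_ne_bot hU
    obtain ⟨b, hb, hbv⟩ := hline v hv0
    apply hbv
    rw [Submodule.eq_of_le_of_finrank_le ((Submodule.span_singleton_le_iff_mem v U).2 hvU)
      (by rw [finrank_span_singleton hv0]; omega)]
    exact hb

end CfsgLib.MinIdxOrth
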